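import Cfsg.Agent.Lib.J4T.Gen2

/-! # Elements of order 3 in J₄ -/

set_option autoImplicit false
set_option maxRecDepth 100000

namespace Cfsg.Lib.J4T

open Cfsg.Lib.Calc Cfsg.Lib.F2 Cfsg.Lib.Mathieu Cfsg.Lib.Big Cfsg.Lib.J4 Subgroup Cfsg.Lib.Transfer
open Cfsg.Lib.Golay (pc)
open scoped commutatorElement

variable {G : Type*} [Group G]

/-- An element of prime order that acts on a small group centralises it. -/
theorem le_cen_of_modEq [Finite G] {q r n : ℕ} (hq : q.Prime) [Fact r.Prime] {S : Subgroup G} (hS : Nat.card S = q ^ n)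
    {g : G} (hg : g ^ r = 1) (h : g ∈ normalizer (S : Set G)) (e : ∀ i < n, q ^ n % r ≠ q ^ i % r) :
    S ≤ centralizer {g} := by
  obtain ⟨i, hi, k⟩ := (Nat.dvd_prime_pow hq).1 (hS ▸ card_dvd_of_le (inf_le_left : S ⊓ centralizer {g} ≤ S))
  have := card_modEq_cen' hg h
  rw [hS, k] at this
  obtain rfl := hi.eq_of_not_lt fun a => e i a this
  exact inf_eq_left.1 (eq_of_le_of_card_ge inf_le_left (by rw [hS, k]))

theorem le_of_primes {n r m a : ℕ} (hr : r.Prime) (h : ∀ q, q.Prime → q ∣ n → q = r) (h1 : n ∣ m) (h0 : m ≠ 0)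
    (h2 : ¬r ^ (a + 1) ∣ m) : n ≤ r ^ a := by
  obtain ⟨b, rfl⟩ : ∃ b, n = r ^ b := ⟨_, Nat.eq_prime_pow_of_unique_prime_dvd (ne_zero_of_dvd_ne_zero h0 h1) (h _)⟩
  exact Nat.pow_le_pow_right hr.pos (by_contra fun k => h2 ((pow_dvd_pow r (not_le.1 k)).trans h1))

namespace Mod

variable (J : Mod G)

theorem cp : J.Cd (J.k 6) cP := J.cd 6 (by decide)

/-- the sixfold cover of M₂₂ -/
abbrev K0 : Subgroup G := J.H ⊓ centralizer {J.k 6}

theorem kw_K0 {w : List ℕ} (h : (w.all (· < 8) && Nat.beq (og (evw w)) 0) = true) : J.kw w ∈ J.K0 :=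
  have h := Bool.and_eq_true_iff.1 h
  (Loc.mem_K0 J.cp J.k6).2 ⟨(J.cdw h.1).mem, (J.cdw h.1).og_zero.1 (beq_iff.1 h.2)⟩

theorem z_K0 : J.z ∈ J.K0 := ⟨J.zH, mem_centralizer_singleton_iff.2 (J.comm J.cp.memH).symm⟩
theorem p_K0 : J.k 6 ∈ J.K0 := ⟨J.cp.memH, mem_centralizer_singleton_iff.2 rfl⟩
theorem K0_le : J.K0 ≤ J.K := fun _ h => ((Loc.mem_K0 J.cp J.k6).1 h).1
theorem ker_K0 : J.Kr ⊓ J.K0 = zpowers (J.k 6 * J.z) := Loc.ker_le J.cp J.k6 J.K0_le J.p_K0 J.z_K0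

theorem rel_p : J.kw [0, 1] * J.kw [4, 0] = J.kw [4, 0] * J.kw [0, 1] * J.k 6 :=
  eq (mul (J.Rw _) (J.Rw _)) (mul (mul (J.Rw _) (J.Rw _)) (J.Rk 6)) (by decide +kernel)

theorem mem_comm {S : Subgroup G} {a b c : G} (ha : a ∈ S) (hb : b ∈ S) (h : a * b = b * a * c) : c ∈ ⁅S, S⁆ := by
  have := commutator_mem_commutator (inv_mem ha) (inv_mem hb)
  rwa [commutatorElement_def, inv_inv, inv_inv, mul_assoc, h, show a⁻¹ * b⁻¹ * (b * a * c) = c by group] at this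

theorem z_comm : J.z ∈ ⁅J.K0, J.K0⁆ :=
  mem_comm (J.kw_K0 (w := [2, 3, 5, 4]) (by decide +kernel)) (J.kw_K0 (w := [3, 2, 4, 5]) (by decide +kernel))
    (eq (mul (J.Rw _) (J.Rw _)) (mul (mul (J.Rw _) (J.Rw _)) J.Rz) (by decide +kernel))

theorem cen_K0 : J.K0 ⊓ centralizer (J.K0 : Set G) = zpowers (J.k 6 * J.z) := by
  refine le_antisymm (fun g hg => J.ker_K0.le ⟨Loc.mem_Kr.2 ⟨hg.1.1, Rd.cent22 (J.φ_du hg.1.1) fun x hx => ?_⟩, hg.1⟩)
    (zpowers_le.2 ⟨mul_mem J.p_K0 J.z_K0, fun g hg => ?_⟩)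
  · obtain ⟨k, hk, rfl⟩ := (Loc.mem_im inf_le_left).1 ((Loc.im_K0 J.cp J.k6).ge hx)
    rw [← J.φ_mul _ hg.1.1 _ hk.1, ← hg.2 k hk, J.φ_mul _ hk.1 _ hg.1.1]
  · exact (Commute.mul_right (mem_centralizer_singleton_iff.1 hg.2) (J.comm hg.1)).eq

variable {J} in
theorem K0_le_of {N : Subgroup G} (h : N ≤ J.K0) (h' : m22 ≤ J.im N) : J.K0 ≤ N := by
  have k : ∀ g ∈ J.K0, ∃ n ∈ N, n⁻¹ * g ∈ zpowers (J.k 6 * J.z) := fun g hg => by
    obtain ⟨n, hn, e⟩ := (Loc.mem_im (h.trans inf_le_left)).1 (h' ((Loc.mem_K0 J.cp J.k6).1 hg).2)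
    have := mul_mem (inv_mem (h hn)) hg
    exact ⟨n, hn, J.ker_K0.le ⟨Loc.mem_Kr.2 ⟨this.1, by
      rw [J.φ_mul _ (inv_mem (h hn).1) _ hg.1, J.φ_inv (h hn).1, e, inv_mul_cancel]⟩, this⟩⟩
  have k2 : ⁅J.K0, J.K0⁆ ≤ N := commutator_le.2 fun a ha b hb => by
    obtain ⟨m, hm, c⟩ := k a ha
    obtain ⟨n, hn, d⟩ := k b hb
    have c := J.cen_K0.ge c
    have d := J.cen_K0.ge d
    obtain ⟨a, rfl⟩ : ∃ x, a = m * x := ⟨m⁻¹ * a, by simp⟩
    obtain ⟨b, rfl⟩ : ∃ x, b = n * x := ⟨n⁻¹ * b, by simp⟩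
    rw [inv_mul_cancel_left] at c d
    have : ⁅m * a, n * b⁆ = m * n * m⁻¹ * n⁻¹ := by
      calc _ = m * (a * (n * b)) * a⁻¹ * m⁻¹ * b⁻¹ * n⁻¹ := by rw [commutatorElement_def]; group
        _ = m * n * (b * m⁻¹) * b⁻¹ * n⁻¹ := by rw [← c.2 _ hb]; group
        _ = _ := by rw [← d.2 _ (inv_mem (h hm))]; group
    exact this ▸ mul_mem (mul_mem (mul_mem hm hn) (inv_mem hm)) (inv_mem hn)
  intro g hg
  obtain ⟨n, hn, e⟩ := k g hg
  simpa using mul_mem hn (zpowers_le.2 (k2 (mul_mem (mem_comm (J.kw_K0 (by decide +kernel))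
    (J.kw_K0 (by decide +kernel)) J.rel_p) J.z_comm)) e)

theorem perf_K0 : ⁅J.K0, J.K0⁆ = J.K0 := by
  have h := commutator_le_self J.K0
  refine le_antisymm h (K0_le_of h (Rd.perf22.ge.trans (commutator_le.2 fun a h1 b h2 => ?_)))
  obtain ⟨a, ha, rfl⟩ := (Loc.mem_im inf_le_left).1 ((Loc.im_K0 J.cp J.k6).ge h1)
  obtain ⟨b, hb, rfl⟩ := (Loc.mem_im inf_le_left).1 ((Loc.im_K0 J.cp J.k6).ge h2)
  refine (Loc.mem_im (h.trans inf_le_left)).2 ⟨_, commutator_mem_commutator ha hb, ?_⟩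
  rw [commutatorElement_def, commutatorElement_def, J.φ_mul _ (mul_mem (mul_mem ha.1 hb.1) (inv_mem ha.1)) _ (inv_mem hb.1),
    Loc.φ_conj ha.1 hb.1, J.φ_inv hb.1]

theorem quot_K0 : Nonempty (J.K0 ⧸ center J.K0 ≃* Spor.M22) := by
  let f : J.K0 →* m22 := (J.φh.comp (inclusion inf_le_left)).codRestrict m22 fun g => ((Loc.mem_K0 J.cp J.k6).1 g.2).2
  have h : center J.K0 = f.ker := map_injective (subtype_injective _) (by
    rw [PGroup.map_subtype_center, J.cen_K0, ← J.ker_K0]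
    ext g
    exact ⟨fun h => ⟨⟨g, h.2⟩, Subtype.ext (Loc.mem_Kr.1 h.1).2, rfl⟩, by
      rintro ⟨g, h, rfl⟩; exact ⟨Loc.mem_Kr.2 ⟨g.2.1, congrArg Subtype.val h⟩, g.2⟩⟩)
  refine ⟨(QuotientGroup.quotientMulEquivOfEq h).trans ((QuotientGroup.quotientKerEquivOfSurjective f fun x => ?_).trans eM22)⟩
  obtain ⟨g, hg, e⟩ := (Loc.mem_im inf_le_left).1 ((Loc.im_K0 J.cp J.k6).ge x.2)
  exact ⟨⟨g, hg⟩, Subtype.ext e⟩

theorem conj_Λ {c : ℕ} (hc : okM c = true) {m : ℕ} (hm : m < 2 ^ 24) (h2 : pc m % 2 = 0) :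
    J.Λ (Mathieu.mk c) * J.cm m * (J.Λ (Mathieu.mk c))⁻¹ = J.cm (img c m) :=
  J.conj _ (J.ΛM _) c ((J.ρΛ _).symm ▸ mk_rep hc) m hm h2

theorem eq_z {t : G} (ht : t ∈ J.K) (h : J.φ t = 1) (h2 : orderOf t = 2) : t = J.z := by
  obtain ⟨b, hb, rfl⟩ := Loc.ker_sq J.cp J.k6 ht h (by rw [← sq, ← h2, pow_orderOf_eq_one])
  interval_cases b
  exacts [by simp at h2, pow_one _]

theorem iso_p {g : G} (hg : g ∈ centralizer {J.k 6}) (h : Commute J.z (g * J.z * g⁻¹)) : g * J.z * g⁻¹ = J.z := by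
  have := J.fin
  have := J.simple
  have h1 : g * J.z * g⁻¹ ∈ J.K0 := ⟨J.mem_H.2 h.symm.eq, mul_mem (mul_mem hg J.z_K0.2) ((centralizer _).inv_mem hg)⟩
  refine by_contra fun n => ?_
  have h2 : g * J.z * g⁻¹ * (g * J.z * g⁻¹) = 1 := by rw [conj_mul, J.zz]; simp
  have a1 : J.a1 ∈ J.K0 := (Loc.mem_K0 J.cp J.k6).2 ⟨J.cd_a1.mem, J.cd_a1.og_zero.1 (og_AC (by norm_num))⟩
  obtain ⟨y, hy, e⟩ := inv22 ((Loc.mem_K0 J.cp J.k6).1 h1).2 ((Loc.mem_K0 J.cp J.k6).1 a1).2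
    ⟨by rw [← J.φ_mul _ h1.1 _ h1.1, h2, J.φ_one], fun e => n (J.eq_z (J.K0_le h1) e ((orderOf_conj' _ _).trans J.ord))⟩
    ⟨by rw [← J.φ_mul _ a1.1 _ a1.1, J.ia_a1.sq, J.φ_one], fun e => absurd (J.cd_a1.r.eq_one_iff.1 e) (by decide +kernel)⟩
  obtain ⟨k, hk, rfl⟩ := (Loc.mem_im inf_le_left).1 ((Loc.im_K0 J.cp J.k6).ge hy)
  have h3 := mul_mem (mul_mem hk h1) (inv_mem hk)
  obtain ⟨i, hi, b, hb, e2⟩ := Loc.ker_K J.cp (J.K0_le (mul_mem (inv_mem a1) h3)) (by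
    rw [J.φ_mul _ (inv_mem a1.1) _ h3.1, Loc.φ_conj hk.1 h1.1, e, J.φ_inv a1.1, inv_mul_cancel])
  have h4 := J.cen_K0.ge (J.ker_K0.le ⟨Loc.mem_Kr.2 ⟨mul_mem (pow_mem J.cp.memH i) (pow_mem J.zH b), by
    rw [J.φ_mul _ (pow_mem J.cp.memH i) _ (pow_mem J.zH b), J.φ_pow J.cp.memH, Loc.cube J.cp, J.φ_zp]; simp⟩,
    mul_mem (pow_mem J.p_K0 i) (pow_mem J.z_K0 b)⟩)
  rw [inv_mul_eq_iff_eq_mul] at e2
  obtain ⟨c, hc, e3⟩ := Loc.ker_sq J.cp J.k6 (J.K0_le h4.1) (by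
    rw [J.φ_mul _ (pow_mem J.cp.memH i) _ (pow_mem J.zH b), J.φ_pow J.cp.memH, Loc.cube J.cp, J.φ_zp]; simp) (by
    have : k * (g * J.z * g⁻¹) * k⁻¹ * (k * (g * J.z * g⁻¹) * k⁻¹) = 1 := by rw [conj_mul, h2]; simp
    rwa [e2, mul_assoc, ← mul_assoc _ J.a1, ← h4.2 _ a1, ← mul_assoc, ← mul_assoc, ← mul_assoc, J.ia_a1.sq, one_mul,
      mul_assoc] at this)
  have e4 : k * g * J.z * (k * g)⁻¹ = J.vv (64 ^^^ 1024 * (c % 2)) := by
    rw [J.vv_xor, J.vv_zp, J.vv_a 1, J.aa_one, ← e3, ← e2]; group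
  have hg' := mem_centralizer_singleton_iff.1 (mul_mem hk.2 hg)
  generalize k * g = g at e4 hg'
  interval_cases c
  · exact absurd ((J.conj_iff J.hH (by norm_num)).1 (isConj_iff.2 ⟨g, e4⟩)) (by decide +kernel)
  have m1 := J.conj_Λ (c := 760255190472029520120854786003338626) (by decide +kernel) (m := Z0) (by decide) (by decide +kernel)
  have m2 := J.conj_Λ (c := 760255190472029520120854786003338626) (by decide +kernel) (m := 294912) (by decide) (by decide +kernel)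
  generalize J.Λ _ = m at m1 m2
  rw [J.cm_Z0, Loc.cm, show lin _ = 64 ^^^ 1024 * (1 % 2) by decide +kernel, ← e4] at m1
  rw [Loc.cm, Loc.cm, show lin 294912 = 37 by decide +kernel, show lin _ = 512 by decide +kernel, J.vv_u (by norm_num)] at m2
  have h5 : g⁻¹ * m ∈ J.H := J.mem_H.2 (mul_inv_eq_iff_eq_mul.1 (by
    rw [show g⁻¹ * m * J.z * (g⁻¹ * m)⁻¹ = g⁻¹ * (m * J.z * m⁻¹) * g by group, m1]; group))
  obtain ⟨v, hv, b, hb, e5⟩ := J.mem_E.1 (J.conj_mem_E h5 (J.e_mem_E (v := 37) (by norm_num)))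
  rw [show g⁻¹ * m * J.e 37 * (g⁻¹ * m)⁻¹ = g⁻¹ * (m * J.e 37 * m⁻¹) * g by group, m2] at e5
  have h6 : Commute (J.k 6) (J.vv 512) := mul_inv_eq_iff_eq_mul.1 ((J.act_P J.cp 512 (by norm_num)).trans
    (congrArg _ (by decide +kernel)))
  rw [Loc.eq_zero_of_comm J.cp hv (e5 ▸ (((Commute.inv_right hg'.symm).mul_right h6).mul_right hg'.symm).eq), J.e_zero,
    one_mul, mul_assoc, inv_mul_eq_iff_eq_mul, ← eq_mul_inv_iff_mul_eq, ← conj_pow, e4] at e5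
  interval_cases b
  · exact absurd (J.vv_eq_one (by norm_num) (e5.trans (pow_zero _))) (by norm_num)
  · exact absurd (J.vv_inj (by norm_num) (by decide) (e5.trans (pow_one _))) (by decide)

theorem cen_p : centralizer {J.k 6} = J.K0 := by
  have := J.fin
  have e : centralizer {J.k 6} ⊓ centralizer {J.z} = J.K0 := by rw [inf_comm, ← J.hH]
  have c := Loc.card_K0 J.cp J.k6
  obtain ⟨n, h1, h2, h3⟩ := zl (C := centralizer {J.k 6}) J.ord (commutator_mono inf_le_right inf_le_right J.z_comm)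
    Nat.prime_three (by decide) J.k6 J.p_K0.2 le_rfl (fun g => J.iso_p) fun N a b d => by
      rw [e] at a b
      rcases Loc.im_cases J.cp J.k6 a fun g hg x hx => (mem_normalizer_iff.1 (b hg) x).1 hx with k | k
      · intro x hx
        obtain ⟨i, -, rfl⟩ := Loc.ker_cube J.cp J.k6 (J.K0_le (a hx)) (k x hx) d
          (congrArg Subtype.val (pow_card_eq_one' (x := (⟨x, hx⟩ : N))))
        exact npow_mem_zpowers _ _
      · exact absurd (d.of_dvd_nat (c ▸ card_dvd_of_le (K0_le_of a k))) (by decide)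
  rw [e, c] at h1
  have h4 : n ∣ 3 * 2 ^ 13 * 11 ^ 2 * 23 * 29 * 31 * 37 * 43 := Nat.dvd_of_mul_dvd_mul_right (k := 2661120) (by norm_num)
    (by rw [← h1]; exact (Nat.mul_dvd_mul_right (card_subgroup_dvd_card _) 3).trans (by rw [J.card]; norm_num))
  have h5 := le_of_primes (a := 1) Nat.prime_three (fun q hq hd => by_contra fun q3 => ?_) h4 (by norm_num) (by norm_num)
  · exact (eq_of_le_of_card_ge inf_le_right (by omega)).symm
  obtain ⟨S, s1, s2, ⟨k, s3, s4⟩, -⟩ := h3 q hq q3 hd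
  have s5 := s4.trans h4
  have s6 : q ^ 2 ∣ 3 * 2 ^ 13 * 11 ^ 2 * 23 * 29 * 31 * 37 * 43 := (pow_dvd_pow q (by omega)).trans s5
  obtain rfl : q = 11 := by
    have := hd.trans h4
    simp only [hq.dvd_mul, hq.prime.dvd_pow_iff_dvd (by norm_num : 13 ≠ 0), hq.prime.dvd_pow_iff_dvd two_ne_zero,
      Nat.prime_dvd_prime_iff_eq hq, Nat.prime_three, Nat.prime_two, show Nat.Prime 11 by norm_num, show Nat.Prime 23 by norm_num,
      show Nat.Prime 29 by norm_num, show Nat.Prime 31 by norm_num, show Nat.Prime 37 by norm_num,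
      show Nat.Prime 43 by norm_num] at this
    rcases this with ((((((rfl | rfl) | rfl) | rfl) | rfl) | rfl) | rfl) | rfl <;>
      first | rfl | exact absurd rfl q3 | exact absurd (h2.of_dvd_nat hd) (by decide) | exact absurd s6 (by norm_num)
  obtain rfl : k = 0 := by_contra fun k0 => absurd ((pow_dvd_pow 11 (by omega : 3 ≤ k + 2)).trans s5) (by norm_num)
  have : Fact (Nat.Prime 7) := ⟨by norm_num⟩
  obtain ⟨y, hy⟩ := exists_prime_orderOf_dvd_card' (G := J.K0) 7 (by rw [c]; norm_num)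
  have y7 : y.1 ^ 7 = 1 := hy ▸ congrArg Subtype.val (pow_orderOf_eq_one y)
  have s7 := le_cen_of_modEq hq s3 y7 (s2 y.2.2) (by decide)
  rcases Loc.im_cases J.cp J.k6 (N := J.K0 ⊓ centralizer (S : Set G)) inf_le_left (fun g hg x hx =>
    ⟨mul_mem (mul_mem hg hx.1) (J.K0.inv_mem hg), (mem_normalizer_iff.1
      (PGroup.normalizer_le_normalizer_centralizer _ (s2 hg.2)) x).1 hx.2⟩) with k | k
  · have := J.orderOf_φ (p := 7) (by norm_num) (by norm_num) y.2.1 ((orderOf_coe y).trans hy)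
    simp [k y ⟨y.2, fun s hs => mem_centralizer_singleton_iff.1 (s7 hs)⟩] at this
  · have : S ≤ J.K0 := fun s hs => ⟨J.mem_H.2 ((K0_le_of inf_le_left k J.z_K0).2 s hs), s1 hs⟩
    exact absurd (s3 ▸ c ▸ card_dvd_of_le this) (by norm_num)

theorem card_cen_p : Nat.card (centralizer {J.k 6}) = 2661120 := J.cen_p ▸ Loc.card_K0 J.cp J.k6

theorem norm_p : normalizer (zpowers (J.k 6) : Set G) ≤ J.K := fun g hg => by
  have := J.fin
  have h1 := PGroup.normalizer_le_normalizer_centralizer _ hg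
  rw [cen_zpowers, J.cen_p] at h1
  have h2 := J.ker_K0.ge (J.cen_K0.le ⟨(mem_normalizer_iff.1 h1 _).1 J.z_K0, (mem_normalizer_iff.1
    (PGroup.normalizer_le_normalizer_centralizer _ h1) _).1 fun x hx => J.comm hx.1⟩)
  obtain ⟨i, hi⟩ := (mem_powers_iff_mem_zpowers).2 ((mem_normalizer_iff.1 hg _).1 (mem_zpowers _))
  exact Loc.mem_K J.cp J.k6 (J.mem_H.2 (mul_inv_eq_iff_eq_mul.1 (J.eq_z (J.K0_le h2.2) (Loc.mem_Kr.1 h2.1).2
    ((orderOf_conj' _ _).trans J.ord)))) hi.symm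

end Mod

end Cfsg.Lib.J4T
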