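import Cfsg.Agent.Lib.J4T.Mod
import Cfsg.Agent.Lib.J4T.Gen

/-! # Tools for computing in a group with the coordinates of J₄ -/

set_option autoImplicit false
set_option maxRecDepth 100000

namespace Cfsg.Lib.J4T

open Cfsg.Lib.Calc Cfsg.Lib.F2 Cfsg.Lib.Mathieu Cfsg.Lib.Big Cfsg.Lib.J4 Subgroup Cfsg.Lib.Transfer
open Cfsg.Lib.Golay (pc cntB cntB_eq)
open scoped Pointwise

universe u

theorem simple22 : IsSimpleGroup m22 := have := simple_M22; eM22.isSimpleGroup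
theorem card22 : Nat.card m22 = 443520 := (Nat.card_congr eM22.toEquiv).trans card_M22

theorem le_or_bot {N : Subgroup M24} (hn : ∀ g ∈ m22, ∀ x ∈ N, g * x * g⁻¹ ∈ N) : N ⊓ m22 = ⊥ ∨ m22 ≤ N :=
  le_of_simple simple22 hn

theorem eq_bot_of_du {N : Subgroup M24} (h : N ≤ Du) (hn : ∀ g ∈ m22, ∀ x ∈ N, g * x * g⁻¹ ∈ N)
    (hc : ¬5 ∣ Nat.card N) : N = ⊥ := by
  have h1 := (le_or_bot hn).resolve_right fun e =>
    hc ((by rw [card22]; norm_num : 5 ∣ Nat.card m22).trans (card_dvd_of_le e))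
  refine eq_bot_iff.2 fun g hg => Rd.cent22 (h hg) fun x hx => ?_
  have h2 : g * x * g⁻¹ ∈ m22 := (normal_of_index_eq_two Rd.idx).conj_mem ⟨x, m22_le_Du hx⟩ hx ⟨g, h hg⟩
  have h3 : g * x * g⁻¹ * x⁻¹ ∈ N ⊓ m22 :=
    ⟨by simpa [mul_assoc] using mul_mem hg (hn x hx _ (inv_mem hg)), mul_mem h2 (m22.inv_mem hx)⟩
  exact mul_inv_eq_iff_eq_mul.1 (mul_inv_eq_one.1 (mem_bot.1 (h1 ▸ h3)))

/-- Centralisers in a group with known classes. -/
theorem cen_of_cls {H : Subgroup M24} {l : List (ℕ × ℕ)} (h : Grp.Classes 24 5 Golay.G.pt H l) {a b : ℕ}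
    (e : Grp.allP l (fun p => band (blt 0 (ordT p.1)) (bor (!Nat.beq (ordT p.1) a) (Nat.beq (b % p.2) 0))) = true)
    {g : M24} (hg : g ∈ H) (ho : orderOf g = a) : Nat.card ↥(H ⊓ centralizer {g}) ∣ b := by
  obtain ⟨p, hp, x, -, h1, h2, h3⟩ := h.exists_rep hg
  have := Grp.allP_iff.1 e p hp
  rw [band_eq_true, bor_eq_true, blt_iff, ← R.orderOf_eq h1 this.1.ne', ← Grp.orderOf_of_mem_cl h2, ho] at this
  exact h3 ▸ Nat.dvd_of_mod_eq_zero (beq_iff.1 (this.2.resolve_left (by simp)))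

theorem cen24 {a b : ℕ}
    (e : Grp.allP c24 (fun p => band (blt 0 (ordT p.1)) (bor (!Nat.beq (ordT p.1) a) (Nat.beq (b % p.2) 0))) = true)
    {g : M24} (ho : orderOf g = a) : Nat.card (centralizer {g}) ∣ b :=
  top_inf_eq (centralizer {g}) ▸ cen_of_cls cls24 e (mem_top g) ho

variable {G : Type u} [Group G]

/-- A subset of a finite group that is closed under products. -/
def subOf [Finite G] (P : G → Prop) (h1 : P 1) (h2 : ∀ a b, P a → P b → P (a * b)) : Subgroup G where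
  carrier := {g | P g}
  one_mem' := h1
  mul_mem' := h2 _ _
  inv_mem' {g} h := by
    rw [inv_eq_of_mul_eq_one_right (b := g ^ (orderOf g - 1))
      (by rw [← pow_succ', Nat.sub_add_cancel (orderOf_pos g), pow_orderOf_eq_one])]
    induction orderOf g - 1 with
    | zero => simpa using h1
    | succ n ih => rw [pow_succ]; exact h2 _ _ ih h

theorem card_cen_conj (g x : G) : Nat.card (centralizer {g * x * g⁻¹}) = Nat.card (centralizer {x}) :=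
  (Grp.cj_cen (k := g) (x := x)).card

theorem card_cen_isConj {x y : G} (h : IsConj x y) : Nat.card (centralizer {y}) = Nat.card (centralizer {x}) :=
  let ⟨g, e⟩ := isConj_iff.1 h; e ▸ card_cen_conj g x

theorem orderOf_map_prime {A : Type*} [Group A] (f : G →* A) {p : ℕ} (hp : p.Prime) {x : G} (hx : orderOf x = p)
    (h : f x ≠ 1) : orderOf (f x) = p :=
  ((Nat.dvd_prime hp).1 (hx ▸ orderOf_map_dvd f x)).resolve_left (mt orderOf_eq_one_iff.1 h)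

/-- the kernel of `φ` does not depend on the coordinates -/
theorem Loc.φ_eq_one (L L' : Loc G) (h : L.H = L'.H) {g : G} (hg : g ∈ L.H) (e : L.φ g = 1) : L'.φ g = 1 := by
  let f := L'.φh.comp (inclusion h.le)
  have := eq_bot_of_du (N := L.φh.ker.map f) (by rintro _ ⟨x, -, rfl⟩; exact L'.φ_du (h.le x.2)) (by
    rintro y hy _ ⟨x, hx, rfl⟩
    obtain ⟨k, rfl⟩ := L'.range_φh.ge (m22_le_Du hy)
    exact ⟨_, L.φh.normal_ker.conj_mem x hx ⟨k, h.ge k.2⟩, by rw [map_mul, map_mul, map_inv]; rfl⟩)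
    fun k => absurd (L.card_ker ▸ k.trans (card_map_dvd _ _)) (by norm_num)
  exact mem_bot.1 (this ▸ mem_map_of_mem f (show (⟨g, hg⟩ : L.H) ∈ L.φh.ker from e))

theorem Loc.cube {L : Loc G} {p : G} (h : L.Cd p cP) : L.φ p = 1 := h.r.eq_one_iff.2 (by decide +kernel)

theorem Loc.card_V_cen {L : Loc G} {g : G} {N : ℕ} (h : L.Act g N) :
    Nat.card ↥(L.V ⊓ centralizer {g}) = cntB 2048 fun c => Nat.beq (app 11 N c) c := by
  rw [cntB_eq, ← Set.ncard_coe_finset, ← Set.InjOn.ncard_image (f := L.vv) fun a ha b hb => L.vv_inj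
    (Finset.mem_range.1 (Finset.mem_filter.1 ha).1) (Finset.mem_range.1 (Finset.mem_filter.1 hb).1)]
  refine (Nat.card_coe_set_eq _).trans (congrArg _ (Set.ext fun y => ?_))
  simp only [Set.mem_image, Finset.coe_filter, Finset.mem_range, SetLike.mem_coe, mem_inf, L.mem_V, Set.mem_ofPred_eq,
    mem_centralizer_singleton_iff, beq_iff]
  constructor
  · rintro ⟨⟨c, hc, rfl⟩, e⟩
    exact ⟨c, ⟨hc, L.vv_inj (app_lt 11 _ _) hc ((h c hc).symm.trans (mul_inv_eq_iff_eq_mul.2 e.symm))⟩, rfl⟩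
  · rintro ⟨c, ⟨hc, e⟩, rfl⟩
    exact ⟨⟨c, hc, rfl⟩, (mul_inv_eq_iff_eq_mul.1 ((h c hc).trans (congrArg _ e))).symm⟩

theorem Loc.Act.norm [Finite G] {L : Loc G} {g : G} {N : ℕ} (h : L.Act g N) : g ∈ normalizer (L.V : Set G) :=
  mem_normalizer_fintype fun v hv => by
    obtain ⟨a, ha, rfl⟩ := L.mem_V.1 hv
    exact h a ha ▸ L.vv_mem (app_lt 11 _ _)

theorem Glob.r_of_act {Γ : Glob G} {g : G} (hg : g ∈ Γ.M) {N c : ℕ} (h : Γ.Act g N)
    (e : band (okM c) (Md.coOK N c) = true) : R (Γ.ρ g) c :=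
  have e := band_eq_true.1 e
  (Γ.sp hg).eq (y := Mathieu.mk c) (fun d hd m hm h2 => by
    rw [← (mk_rep e.1).code_eq inj_pt hd, Loc.cm, Loc.cm, ← Md.app_lin (mk_rep e.1) e.2 hm h2]
    exact h _ (lin_lt _)) ▸ mk_rep e.1

theorem Glob.card_cen_dvd [Finite G] (Γ : Glob G) {x : G} (hx : x ∈ Γ.M) : Nat.card ↥(Γ.M ⊓ centralizer {x}) ∣
    Nat.card ↥(Γ.V ⊓ centralizer {x}) * Nat.card (centralizer {Γ.ρ x}) := by
  rw [card_le_ker_mul Γ.ρh inf_le_left Γ.ker_ρh]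
  refine Nat.mul_dvd_mul (card_dvd_of_le (inf_le_inf_left _ inf_le_right)) (card_dvd_of_le ?_)
  rintro _ ⟨g, hg, rfl⟩
  exact mem_centralizer_singleton_iff.2 ((Γ.ρ_mul _ g.2 _ hx).symm.trans
    ((congrArg _ (mem_centralizer_singleton_iff.1 hg.2)).trans (Γ.ρ_mul _ hx _ g.2)))

theorem Glob.orderOf_ρ (Γ : Glob G) {p : ℕ} (hp : p.Prime) (h2 : p ≠ 2) {x : G} (hx : x ∈ Γ.M) (h : orderOf x = p) :
    orderOf (Γ.ρ x) = p :=
  orderOf_map_prime Γ.ρh hp (x := ⟨x, hx⟩) (by rwa [orderOf_mk]) fun e => h2 ((Nat.prime_dvd_prime_iff_eq hp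
    Nat.prime_two).1 (h ▸ orderOf_dvd_of_pow_eq_one (by rw [sq]; exact Γ.V_sq (Γ.kerρ _ hx e))))

theorem Loc.orderOf_φ (L : Loc G) {p : ℕ} (hp : p.Prime) (h2 : ¬p ∣ 2 ^ 13 * 3) {x : G} (hx : x ∈ L.H)
    (h : orderOf x = p) : orderOf (L.φ x) = p :=
  orderOf_map_prime L.φh hp (x := ⟨x, hx⟩) (by rwa [orderOf_mk]) fun e => h2 (by
    rw [← L.card_ker, ← h, ← orderOf_mk x hx]; exact L.φh.ker.orderOf_dvd_natCard e)

/-- The matrix of `e v * kw w * z ^ b`. -/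
noncomputable def hC (v : ℕ) (w : List ℕ) (b : ℕ) : ℕ :=
  forceN (eC v) fun x => forceN (kC w) fun y => mz cZ b (eM.mul x y)

/-- The matrix `C` acts on `V` by `N`. -/
noncomputable def mOK (C N : ℕ) : Bool := forceB C fun g => forceB N fun N =>
  allLt 11 fun i => forceB (vC (Calc.get 11 N i)) fun a => forceB (vC (2 ^ i)) fun b => Nat.beq (eM.mul g b) (eM.mul a g)

namespace Mod

variable (J : Mod G)

theorem k6 : orderOf (J.k 6) = 3 :=
  have := Nat.fact_prime_three; J.law.orderOf J.can (J.Rk 6) (by decide +kernel)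

/-- The general element of `H`. -/
def h (v : ℕ) (w : List ℕ) (b : ℕ) : G := J.e v * J.kw w * J.z ^ b

theorem Rh (v : ℕ) (w : List ℕ) (b : ℕ) : J.R (J.h v w b) (hC v w b) := by
  rw [hC, forceN_eq, forceN_eq]; exact mz (mul (J.Re v) (J.Rw w)) b

theorem h_mem (v : ℕ) {w : List ℕ} (e : w.all (· < 8) = true) (b : ℕ) : J.h v w b ∈ J.H :=
  mul_mem (mul_mem (J.eH v) (J.cdw e).memH) (pow_mem J.zH b)

theorem φ_h (v : ℕ) {w : List ℕ} (e : w.all (· < 8) = true) (b : ℕ) :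
    Mathieu.R (J.φ (J.h v w b)) (pc' (evw w)) := by
  rw [h, mul_assoc, J.φ_ek v ((J.cdw e).mul_zp b).memH]; exact ((J.cdw e).mul_zp b).r

theorem exR (g : G) : ∃ C, J.R g C :=
  have := J.fin
  (J.sol.top (subOf (fun g => ∃ C, J.R g C) ⟨_, J.one⟩ fun _ _ ⟨_, a⟩ ⟨_, b⟩ => ⟨_, mul a b⟩)
    fun c hc => ⟨_, J.ev (t := .l c) (blt_iff.2 hc)⟩).ge (mem_top g)

theorem ex {g : GM} {C : ℕ} (h : RM g C) : Big.Gd J.R ⊤ C := by
  obtain ⟨A, x, h1, h2⟩ := (topM (subOf (fun g => ∃ A x, RM g A ∧ J.R x A) ⟨_, _, lawM.one, J.one⟩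
    fun _ _ ⟨_, _, a, b⟩ ⟨_, _, c, d⟩ => ⟨_, _, lawM.mul a c, mul b d⟩)
    fun c hc => ⟨_, _, valM.ev lawM (.l c), J.ev (t := .l c) (blt_iff.2 hc)⟩).ge (mem_top g)
  exact ⟨_, mem_top _, J.law.canR J.one (canM (lawM.mul h1 lawM.one) (lawM.mul h lawM.one) ▸ mul h2 J.one)⟩

theorem exL {L : List ℕ} (h : ∀ C ∈ L, Big.Gd RM ⊤ C) : ∀ C ∈ L, Big.Gd J.R ⊤ C :=
  fun C hC => let ⟨_, _, k⟩ := h C hC; J.ex k

variable {J}

theorem act_of {g : G} {C N : ℕ} (h : J.R g C) (e : mOK C N = true) : J.Act g N := by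
  simp only [mOK, forceB_eq, allLt_iff] at e
  exact Loc.act_of fun i hi => cj h (J.Rv _ (Md.two_pow_lt hi)) (J.Rv _ (get_lt 11 _ _)) (e i hi)

theorem mem_M {g : G} {N : ℕ} (h : J.Act g N) : g ∈ J.M := have := J.fin; J.hM ▸ h.norm

theorem mem_H' {g : G} {C : ℕ} (h : J.R g C) (e : eM.com C cZ = true) : g ∈ J.H := J.mem_H.2 (com h J.Rz e)

theorem ordp {g : G} {C q : ℕ} (h : J.R g C) (hq : q.Prime) (e : eM.ordOK C q = true) : orderOf g = q :=
  have := Fact.mk hq; J.law.orderOf J.can h e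

theorem pw_eq {g : G} {C n : ℕ} (h : J.R g C) (e : Nat.beq (eM.pw C n) eM.one = true) : g ^ n = 1 :=
  eq (pw h n) J.one e

end Mod

end Cfsg.Lib.J4T
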