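import Cfsg.Agent.Lib.J4T.Sec
import Cfsg.Agent.Lib.J4T.Red
import Cfsg.Agent.Lib.Calc.Chain

/-! # Construction of coordinates from a section and letters acting on it -/

set_option autoImplicit false
set_option maxRecDepth 100000

namespace Cfsg.Lib.J4T.Md

open Cfsg.Lib.Calc Cfsg.Lib.F2 Cfsg.Lib.Mathieu Subgroup
open scoped Pointwise

def du_C : ℕ := (nat_lit 0x59949c9a77a2352092e814cb1a837bd8c89c96973ca48aa140d5ac188e0bd9629c192538b1abd28191a63d020b8ea89aa11610af4c974399aeb0820bb97441c837d8a6aa933931b180820bd96e94df08d1a7a8ca66212450820baeae9c1522d18db4464399e848820bc52f6c2d20b84ca950b9a87431c80bcecf22e22741a938e4662aa50d100b926e29e34809b26056a48ed543cc0bb621a56c77484899a0a6152323d60bc64e68a6b44289b54c720c2f530a0bd90114a30238ec48d75694cf54e80b9490ab22f151ab4a0e39067633940bb6287da6c82e86228434d6412b8e0b8ac47a633740eb6aa4560d06a06a0bda0e11db55c9e88a553a18812b060bccc8a2e222c189904f66d54e191e0bb62674c8911dea28e8195968ac180b8acb0c5ac955eaa14e6426041ba60bd26574a24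8098768d75484ca7a2c0b9e340a2cd74a75116036196a79120b914679e34a89325a1936d870095c0b9e352584c8242578e6a5a254339a0bbda3742d491d9311aa9411450ae20bb22f41a6d82c96a54414a8e371640b946a7322fb524b399246cc2245600bcec9a44ec92083099a5aae0f53840bc9ec2aea36993153a962205099c20bc96950da5410cc7cdd589e1415820b8dee988d0ad0ec4288b6c4a9b4820b8d0c83d6231dcd99132a56c554420badb1129f34a29571992858e329020b8904558e55a62cace8f3360e90c20bcda629d037b091b3a0a4d45492c20b8aac2a1f63c486551c34ae509b420bced11b547410c92c28b63e4275420bbccdb4d0a7552b21d832ca2285020ba9353b9a5a598f3222b1c89314020b9ed074882552b17958d424665cc20ba8c7846a24328d910b372ec91bc20b9528112d36c6159186ea3cec5a820bd96c855128b6879a48273c6551820b9df1159b225608730d3a29632a420bb509916ce33e8a8123312ea71b020bcdcb890d04c9883d5af10e8ab1420bccf12b576ab1261d20a23e4e12020b8a963c2454d46f5a2666349153820bcd0d5c546b50ee2c083649f548820bc9534b4aca8d64b18f0a3e2870820bc60b21dee424b59c9866d943a0820ba60bb14cf94e838b10e236aa38820bac672aa129b59479aa9746c82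0820b9596452a381e2a4b48f5c8ce98820ba8c5ab2d4191e85c5d23ce0968820b90c59be568ada953874a9d1060820bd9d48998d4ac93abd471965040820b952c7c0d159dcdb4904a2a63a8820bbdd31b5093315021eb62c65458820bc8732bc8b3d909554d4745ac80820bc4e4ab1e5b506b936089992e50820bd46972e07790cc45152895b3b0820bda8b49c6493a06ab1137aa2d28820bc52b7daa564c648224da28ee30820ba9c71d994aa1e484ccd2c56990820bca763d1c868d8f51209a98ab88820bcda5231358d0d24386bb414778820ba0d6aa4b26c56a792143cdcc18820bce8d549c7216ab45a0c4be2618820bca0fb4dcb49507aaa862362c18820bcd69958b5a44c4829ed621c718820bc8e49a8a884589a59af355cb18820ba64d4562f83a87312d362caa18820bd9e854ca46461534967a25cd18820ba9b5b48a93468864ceb811cf18820bd6cb22627638cfa224a834b318820ba91094e346b9e63d8955b0a918820bcc8cb2a265b8f47c9096c0b518820bc92655a2c3b9706cea47d0a818820bc255651c4395a979a6a5a23618820ba8cb9d9cf4152d24990a9e3418820bd987929cda948f4ccd442e3018820bae703bcac245144b6caa99d218820bc12ba18ad946c79b11553dc418820bb5135bdd63160aa1ea964a2418820bdab49ca307b9ac5a928398a418820)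
noncomputable def du_code : ℕ → ℕ := get (nat_lit 120) du_C
def du_R0 : ℕ := (nat_lit 0x4cd332105000001000141a0400000200000dc0400000400021281000000801be6e0300000101fb32c0800000200000000000000680eca882800000010078f04000000000065c04000000000d86c0c00000000193301800000000029d02000000)
def du_D0 : ℕ := (nat_lit 0x1e8c53650bbddea6ec0c0000000000000000000000000000000000000000000000000000000000000000000000)
noncomputable def du_L0 : Calc.Lv :=
  ⟨(nat_lit 79), (nat_lit 86), (nat_lit 0), (nat_lit 2), (nat_lit 0), get (nat_lit 15) (nat_lit 713064448),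
    fun l x => get (nat_lit 59) du_R0 (Nat.add (Nat.mul x (nat_lit 7)) (Nat.sub l (nat_lit 79))), get (nat_lit 40) du_D0⟩
def du_U1 : ℕ := (nat_lit 0x2080c60192030805e00bd0176031005f80be0186032c06400c0019a031c06600ca019c031405d008000)
def du_R1 : ℕ := (nat_lit 0x2000d4c0800004800000000000400000000000157228a0800001c00000000000380000000000063e01b04000003789ca0800001e333340c000029b5e88200000ab5d8a04000010d7e9e08000022d0254100000073f2002000000000000000000d020080600001a000000000003c0000000000008a22b0300000cd191e0800001795d2c1000002000000000000a00000000000067dae4080000080b9a40c000008000000000003800000000001100000000000140000000000014000000000009000000000000bdd1e20800001200000000000240000000000013c4030400001400000000000260000000000011a1fe82000002b370a04000000000000000000d957ac1000004c0000000000018000000000007)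
def du_D1 : ℕ := (nat_lit 0x1071f5295059ab943a6dd208e6c284b7eea088000000000000001400200000000000000023c040000000000000003f4080000000000000006e810000000000000000c00200000000000000012e040000000000000001c00800000000000000034810000000000000000540200000000000000009c040000000000000000cc0800000000000000012010000000000000000180200000000000000002c04000000000000000034080000000000000000001000000000000000001020000000000000000060400000000000000000c08000000000000000000000000000000000000000)
noncomputable def du_L1 : Calc.Lv :=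
  ⟨(nat_lit 77), (nat_lit 79), (nat_lit 1), (nat_lit 22), (nat_lit 0), get (nat_lit 15) du_U1,
    fun l x => get (nat_lit 51) du_R1 (Nat.add (Nat.mul x (nat_lit 2)) (Nat.sub l (nat_lit 77))), get (nat_lit 79) du_D1⟩
def du_U2 : ℕ := (nat_lit 0x3801c407001b807701d806f01b406601c806901cc06c01a806701e406b01a007501d004000)
def du_R2 : ℕ := (nat_lit 0xbd90300001000000000010d9e0300000d7d7030000090000000000a04f0200000778d03000003652030000080000000000900000000001000000000130000000000b16a020000010000000000300d0100000b000000000061c4020000042080200000200000000007000000000047870300000f1060200000a000000000080000000000d0000000000c657030000110b902000012bcf0300000c6c40300001478803000013000000000020000000000f15102000006000000000056e903000000e0a0300000e0000000000e0000000001200000000011000000000000000000000500000000014)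
def du_D2 : ℕ := (nat_lit 0x6b5d679d099c7b57316900b000000000f702000000000d902000000000ab020000000009002000000000690200000000063020000000004e020000000004902000000000370200000000028020000000002502000000000180200000000016020000000000c020000000000b0200000000000020000000000102000000000030200000000000000000000000000)
noncomputable def du_L2 : Calc.Lv :=
  ⟨(nat_lit 56), (nat_lit 58), (nat_lit 2), (nat_lit 21), (nat_lit 0), get (nat_lit 14) du_U2,
    fun l x => get (nat_lit 44) du_R2 (Nat.add (Nat.mul x (nat_lit 2)) (Nat.sub l (nat_lit 56))), get (nat_lit 52) du_D2⟩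
def du_U3 : ℕ := (nat_lit 0x6005c018c06001540540168053019005f017805b016406501740620158057018404000)
def du_R3 : ℕ := (nat_lit 0x3c0400004000000000f2c0400001400000000700000000280000000100000000020701000006340400003b50200000a100400001ec02000002000000000d902000009e00800004f5020000120000000046a02000000d408000013302000008cc0800002f20200000100000000080000000136808000035f020000030000000004000000004440400000000000000d0000000024701000011100400003ef0200000c000000003000000000e0000000048000000005000000001800000000b)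
def du_D3 : ℕ := (nat_lit 0x28fe5ee03c03f4540804bc9141200003f0080000778100000d102000014a0400002300800004181000006d0200000b20400000c80800001201000002102000002a040000030080000058100000000200000020400000080800000000000000000)
noncomputable def du_L3 : Calc.Lv :=
  ⟨(nat_lit 36), (nat_lit 38), (nat_lit 3), (nat_lit 20), (nat_lit 0), get (nat_lit 14) du_U3,
    fun l x => get (nat_lit 38) du_R3 (Nat.add (Nat.mul x (nat_lit 2)) (Nat.sub l (nat_lit 36))), get (nat_lit 35) du_D3⟩
def du_U4 : ℕ := (nat_lit 0x300a004a02a011809005602c01900b805a02901380bc06202000)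
def du_R4 : ℕ := (nat_lit 0xe0100000c00000002d010000010000000340000000a80400003c000000080000000260100000e4040000140000000f4040000110100000b0000000310100000b000000008000000068040000200000000000000001201000006000000038000000034040000150100000640400000a0100000900000000c0000000e8040000000000000f4040000150100000a0000000280000000d404000036010000070000000060100000200000001000000000000000030000000090000000200000000700000000601000007)
def du_D4 : ℕ := (nat_lit 0x112100112090000005b010000001fc08000000ee040000003d0200000016810000000a808000000380400000008020000000401000000020080000001404000000090200000004010000000000000000000000000000000)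
noncomputable def du_L4 : Calc.Lv :=
  ⟨(nat_lit 16), (nat_lit 19), (nat_lit 4), (nat_lit 16), (nat_lit 0), get (nat_lit 13) du_U4,
    fun l x => get (nat_lit 34) du_R4 (Nat.add (Nat.mul x (nat_lit 3)) (Nat.sub l (nat_lit 16))), get (nat_lit 41) du_D4⟩
noncomputable def du_L5 : Calc.Lv :=
  ⟨(nat_lit 2), (nat_lit 3), (nat_lit 5), (nat_lit 3), (nat_lit 0), get (nat_lit 10) (nat_lit 270009344),
    fun l x => get (nat_lit 2) (nat_lit 9) (Nat.add (Nat.mul x (nat_lit 1)) (Nat.sub l (nat_lit 2))), get (nat_lit 2) (nat_lit 8)⟩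
noncomputable def du_lvs : List Calc.Lv := [du_L0, du_L1, du_L2, du_L3, du_L4, du_L5]

theorem du_ok : chainOK (apT (nat_lit 24) (nat_lit 5) du_code) (imgT (nat_lit 5)) du_code (idc (nat_lit 24) (nat_lit 5)) (nat_lit 24) du_lvs = true := by
  decide +kernel

theorem du_eng {G X : Type*} [Group G] [MulAction G X] {pt : ℕ → X} (hf : Faithful G 24 pt) :
    Eng (G := G) (Rep 24 5 pt) (idc (nat_lit 24) (nat_lit 5)) du_code (apT (nat_lit 24) (nat_lit 5) du_code) (topC du_lvs) :=
  eng_perm (by decide) (by decide) hf _ _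

/-- order 887040, base [0, 1, 2, 3, 4, 5], orbit lengths [2, 22, 21, 20, 16, 3] -/
theorem du_chain {G X : Type*} [Group G] [MulAction G X] {pt : ℕ → X} (hi : Inj 24 pt) (hf : Faithful G 24 pt)
    {gs : List G} (h : List.Forall₂ (Rep 24 5 pt) gs [970531819526550031117983620406741024, 984404951986650291017642929327245344, 974027552735757545258125379239413792, 960139612709388908960211975096961056, 984389775965797844819276082654203936, 984194560199829098639614076839364832, 29070539026850751238422420981393463]) :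
    Chain (Rep 24 5 pt) du_code pt du_lvs (Subgroup.closure {s | s ∈ gs}) :=
  (du_eng hf).chain_list (img_rep hi) le_rfl h (by decide +kernel) (.of_chainOK du_ok)

theorem du_ord : ordL du_lvs = 887040 := by decide +kernel


/-- The code of a letter. -/
noncomputable abbrev lt (i : ℕ) : ℕ := F2.nth cI lets i

/-- The permutation of a letter. -/
noncomputable def pm (i : ℕ) : M24 := mk (pc' (lt i))

theorem R_lt {i : ℕ} (hi : i < 8) : R (pm i) (pc' (lt i)) :=
  mk_rep (of_allLt (by decide +kernel : allLt 8 (fun i => okM (pc' (lt i))) = true) hi)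

theorem lt_mem {i : ℕ} (hi : i < 8) : lt i ∈ lets := by interval_cases i <;> decide +kernel

theorem exists_lt {X : ℕ} (h : X ∈ lets) : ∃ i < 8, lt i = X :=
  let ⟨i, hi, e⟩ := anyLt_iff.1 (allL_iff.1 lets_inv X h); ⟨i, hi, beq_iff.1 (band_eq_true.1 e).1⟩

/-- The letters generate the stabiliser of the duad. -/
theorem du_le {S : Subgroup M24} (h : ∀ i < 8, pm i ∈ S) : Du ≤ S := by
  have h1 := (du_chain inj_pt faithful_M24 (gs := [0, 1, 2, 3, 4, 5, 7].map pm)
    (.cons (R_lt (by decide)) (.cons (R_lt (by decide)) (.cons (R_lt (by decide)) (.cons (R_lt (by decide))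
      (.cons (R_lt (by decide)) (.cons (R_lt (by decide)) (.cons (R_lt (by decide)) .nil)))))))).card.trans du_ord
  have h2 : ∀ {S : Subgroup M24}, (∀ i < 8, pm i ∈ S) →
      closure {s | s ∈ [0, 1, 2, 3, 4, 5, 7].map pm} ≤ S := fun h =>
    (closure_le _).2 (List.forall_mem_map.2 fun i hi => h i (by revert i; decide))
  exact (eq_of_le_of_card_ge (h2 fun i hi => ((R_lt hi).mem_stab_set (by norm_num)).2
    (beq_iff.1 (allL_iff.1 lets_du _ (lt_mem hi)))) (Rd.card_Du.trans h1.symm).le).ge.trans (h2 h)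

theorem eq_one_of_dl {g : M24} (h : ∀ v < 4096, (g : P24) • Golay.G.toF (dl v) = Golay.G.toF (dl v)) : g = 1 := by
  refine Subtype.ext (eq_one_of_closeOK g.2 (L := [(9347075, 1302533), (9347075, 9347075)]) (by decide +kernel)
    (fix_maskL (l := (List.range 22).map (· + 1)) (List.forall_mem_map.2 fun i hi => ?_)))
  have hi := List.mem_range.1 hi
  have h1 := beq_iff.1 (of_allLt (by decide +kernel : allLt 22 (fun i => Nat.beq (Nat.land (dl (get 12
    0x5407007c06006804406c07405807804c00100504806405000400700105c006040 i)) (dl (get 12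
    0x125130102100127115132125117117132018013127115130010013004102010100 i))) (2 ^ (i + 1))) = true) hi)
  have h2 := congrArg Golay.G.toF h1
  rw [Golay.G.toF_land, Golay.G.toF_two_pow (show i + 1 < 24 by omega)] at h2
  have h3 := congrArg ((g : P24) • ·) h2
  beta_reduce at h3
  rw [Finset.smul_finset_inter, h _ (get_lt 12 _ _), h _ (get_lt 12 _ _), h2, Finset.smul_finset_singleton] at h3
  exact (Finset.singleton_injective h3).symm

theorem img_dl_lt {i : ℕ} (hi : i < 8) {v : ℕ} (hv : v < 4096) : img (pc' (lt i)) (dl v) = dl (app 12 (mc (lt i)) v) := by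
  have := allL_iff.1 dl_lets _ (List.mem_cons_of_mem _ (lt_mem hi))
  simp only [forceB_eq, allBig_iff, beq_iff, (R_iff.1 (R_lt hi)).fimg] at this
  exact this v hv

theorem P_chk : allBig 4096 (fun v => forceB (app 12 (mc cP) v) fun w => band (bor (Nat.beq v 0) (Nat.beq v w).not)
    (band (Nat.beq (app 12 (mc cP) w) (app 12 (mc cP2) v)) (Nat.beq (app 12 (mc cP) (app 12 (mc cP2) v)) v))) = true := by
  decide +kernel

theorem P_spec {v : ℕ} (hv : v < 4096) : (v = app 12 (mc cP) v → v = 0) ∧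
    app 12 (mc cP) (app 12 (mc cP) v) = app 12 (mc cP2) v ∧ app 12 (mc cP) (app 12 (mc cP2) v) = v := by
  have := allBig_iff.1 P_chk v hv
  simp only [forceB_eq, band_eq_true, bor_eq_true, beq_iff, Bool.not_eq_true'] at this
  exact ⟨fun e => this.1.resolve_right fun k => Nat.ne_of_beq_eq_false k e, this.2⟩

/-- A section with letters acting on it. -/
structure Pre (G : Type*) [Group G] where
  z : G
  e : ℕ → G
  k : ℕ → G
  ord : orderOf z = 2
  ez : ∀ v, e v ∈ centralizer {z}
  md : ∀ v, e (v % 4096) = e v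
  kz : ∀ i < 8, k i ∈ centralizer {z}
  e_mul : ∀ v < 4096, ∀ w < 4096, e v * e w = e (v ^^^ w) * z ^ ff v w
  act : ∀ i < 8, ∀ v < 4096, k i * e v * (k i)⁻¹ = e (app 12 (mc (lt i)) v) * z ^ (og (lt i) * qq v)
  p3 : k 6 ^ 3 = 1
  np : ∀ i < 8, k i * k 6 * (k i)⁻¹ = k 6 ∨ k i * k 6 * (k i)⁻¹ = k 6 ^ 2
  card : Nat.card (centralizer {z}) ≤ 21799895040

namespace Pre

variable {G : Type*} [Group G] (L : Pre G)

theorem zz : L.z * L.z = 1 := by rw [← sq, ← L.ord, pow_orderOf_eq_one]
theorem cp {g : G} (h : g ∈ centralizer {L.z}) (a : ℕ) : L.z ^ a * g = g * L.z ^ a :=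
  (Commute.pow_right (mem_centralizer_singleton_iff.1 h) a).eq.symm
theorem zC : L.z ∈ centralizer {L.z} := mem_centralizer_singleton_iff.2 rfl
theorem e_zero : L.e 0 = 1 := by simpa [ff_zero] using L.e_mul 0 (by norm_num) 0 (by norm_num)

theorem e_eq_zero {v a : ℕ} (hv : v < 4096) (h : L.e v = L.z ^ a) : v = 0 := by
  by_contra h0
  obtain ⟨w, hw, e⟩ := exists_bb hv h0
  have h1 : L.e v * L.e w = L.e w * L.e v := by rw [h, L.cp (L.ez w)]
  rw [L.e_mul v hv w hw, L.e_mul w hw v hv, Nat.xor_comm, mul_right_inj, pow_eq_pow_iff_modEq, L.ord] at h1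
  have := Nat.xor_mod_two_eq (m := ff v w) (n := ff w v)
  rw [← bb_eq, e] at this
  unfold Nat.ModEq at h1
  omega

theorem e_inj {v w a b : ℕ} (hv : v < 4096) (hw : w < 4096) (h : L.e v * L.z ^ a = L.e w * L.z ^ b) : v = w := by
  refine Nat.xor_eq_zero_iff.1 (L.e_eq_zero (xor_lt hv hw) (a := ff w w + b + a + ff v w) ?_)
  have h1 := congrArg (· * L.e w) h
  simp only [mul_assoc, L.cp (L.ez w)] at h1
  rw [← mul_assoc, ← mul_assoc, L.e_mul v hv w hw, L.e_mul w hw w hw, Nat.xor_self, L.e_zero, one_mul, mul_assoc,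
    ← pow_add, ← pow_add, ← eq_mul_inv_iff_mul_eq] at h1
  rw [h1, mul_inv_eq_iff_eq_mul, ← pow_add]
  exact pow_congr2 L.zz (by omega)

/-- The graph of `φ`. -/
def Γ : Subgroup (G × M24) :=
  closure (insert (L.z, 1) ({p | ∃ v < 4096, p = (L.e v, 1)} ∪ {p | ∃ i < 8, p = (L.k i, pm i)}))

theorem z_mem : (L.z, 1) ∈ L.Γ := subset_closure (Or.inl rfl)
theorem e_mem {v : ℕ} (hv : v < 4096) : (L.e v, 1) ∈ L.Γ := subset_closure (Or.inr (Or.inl ⟨v, hv, rfl⟩))
theorem k_mem {i : ℕ} (hi : i < 8) : (L.k i, pm i) ∈ L.Γ := subset_closure (Or.inr (Or.inr ⟨i, hi, rfl⟩))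
theorem p_mem : (L.k 6, 1) ∈ L.Γ := by
  have := L.k_mem (show 6 < 8 by decide)
  rwa [(R_lt (by decide)).eq_one_iff.2 (by decide +kernel)] at this

theorem p_act {v : ℕ} (hv : v < 4096) : L.k 6 * L.e v * (L.k 6)⁻¹ = L.e (app 12 (mc cP) v) := by
  simpa [show og (lt 6) = 0 by decide +kernel] using! L.act 6 (by decide) v hv

theorem p2_act {v : ℕ} (hv : v < 4096) : L.k 6 ^ 2 * L.e v * (L.k 6 ^ 2)⁻¹ = L.e (app 12 (mc cP2) v) := by
  rw [← (P_spec hv).2.1, ← L.p_act (app12_lt _ _), ← L.p_act hv, sq]; group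

variable [Finite G]

theorem spec {p : G × M24} (hp : p ∈ L.Γ) : p.1 ∈ centralizer {L.z} ∧ p.2 ∈ Du ∧ ∀ v < 4096, ∃ w < 4096, ∃ b,
    p.1 * L.e v * p.1⁻¹ = L.e w * L.z ^ b ∧ (p.2 : P24) • Golay.G.toF (dl v) = Golay.G.toF (dl w) := by
  rw [Γ, ← mem_toSubmonoid, closure_toSubmonoid_of_finite] at hp
  induction hp using Submonoid.closure_induction with
  | one => exact ⟨one_mem _, one_mem _, fun v hv => ⟨v, hv, 0, by simp, by simp⟩⟩
  | mul p q _ _ hp hq =>
    refine ⟨mul_mem hp.1 hq.1, mul_mem hp.2.1 hq.2.1, fun v hv => ?_⟩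
    obtain ⟨w, hw, b, h1, h2⟩ := hq.2.2 v hv
    obtain ⟨u, hu, a, h3, h4⟩ := hp.2.2 w hw
    refine ⟨u, hu, a + b, ?_, by rw [Prod.snd_mul, coe_mul, mul_smul, h2, h4]⟩
    rw [Prod.fst_mul, show p.1 * q.1 * L.e v * (p.1 * q.1)⁻¹ = p.1 * (q.1 * L.e v * q.1⁻¹) * p.1⁻¹ by group, h1,
      ← mul_assoc, mul_assoc _ (L.z ^ b), L.cp (inv_mem hp.1), ← mul_assoc, h3, pow_add, mul_assoc]
  | mem p hp =>
    obtain rfl | ⟨u, hu, rfl⟩ | ⟨i, hi, rfl⟩ := hp
    · exact ⟨L.zC, one_mem _, fun v hv => ⟨v, hv, 0, by simp [← mem_centralizer_singleton_iff.1 (L.ez v)], by simp⟩⟩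
    · refine ⟨L.ez u, one_mem _, fun v hv => ⟨v, hv, ff u v + ff v u, ?_, by simp⟩⟩
      rw [mul_inv_eq_iff_eq_mul, mul_assoc, L.cp (L.ez u), ← mul_assoc, L.e_mul u hu v hv, L.e_mul v hv u hu,
        Nat.xor_comm, mul_assoc, ← pow_add, pow_congr2 L.zz (a := _ + _) (b := ff u v) (by omega)]
    · exact ⟨L.kz i hi, ((R_lt hi).mem_stab_set (by norm_num)).2 (beq_iff.1 (allL_iff.1 lets_du _ (lt_mem hi))),
        fun v hv => ⟨_, app12_lt _ _, _, L.act i hi v hv, by rw [(R_iff.1 (R_lt hi)).smul_toF, img_dl_lt hi hv]⟩⟩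

theorem uniq {h : G} {g g' : M24} (a : (h, g) ∈ L.Γ) (b : (h, g') ∈ L.Γ) : g = g' :=
  inv_mul_eq_one.1 (eq_one_of_dl fun v hv => by
    obtain ⟨w, hw, c, h1, h2⟩ := (L.spec (mul_mem (inv_mem a) b)).2.2 v hv
    obtain rfl := L.e_inj (a := 0) hv hw (by simpa using h1)
    exact h2)

/-- The complement. -/
def K : Subgroup G := closure (insert L.z {g | ∃ i < 8, g = L.k i})

omit [Finite G] in
theorem exists_K {g : M24} (hg : g ∈ Du) : ∃ k ∈ L.K, (k, g) ∈ L.Γ := by
  obtain ⟨p, hp, rfl⟩ := du_le (S := (L.Γ ⊓ L.K.comap (MonoidHom.fst _ _)).map (MonoidHom.snd _ _))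
    (fun i hi => ⟨_, ⟨L.k_mem hi, subset_closure (Or.inr ⟨i, hi, rfl⟩)⟩, rfl⟩) hg
  exact ⟨p.1, hp.2, hp.1⟩

omit [Finite G] in
theorem inj3 {v w a b i j : ℕ} (hv : v < 4096) (hw : w < 4096) (hi : i < 3) (hj : j < 3)
    (h : L.e v * L.z ^ a * L.k 6 ^ i = L.e w * L.z ^ b * L.k 6 ^ j) : v = w ∧ L.z ^ a = L.z ^ b ∧ i = j := by
  have k : ∀ {v a i}, v < 4096 → i < 3 → ∃ c, L.e v * L.z ^ a * L.k 6 ^ i * L.e 1 * (L.e v * L.z ^ a * L.k 6 ^ i)⁻¹ =
      L.e (i + 1) * L.z ^ c := fun {v a i} hv hi => by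
    have h1 : L.k 6 ^ i * L.e 1 * (L.k 6 ^ i)⁻¹ = L.e (i + 1) := by
      interval_cases i
      exacts [by simp, by rw [pow_one, L.p_act (by decide)]; congr 1, by rw [L.p2_act (by decide)]; congr 1]
    refine ⟨ff v (i + 1) + ff (i + 1) v, ?_⟩
    rw [show L.e v * L.z ^ a * L.k 6 ^ i * L.e 1 * (L.e v * L.z ^ a * L.k 6 ^ i)⁻¹ = L.e v * (L.z ^ a *
      (L.k 6 ^ i * L.e 1 * (L.k 6 ^ i)⁻¹) * (L.z ^ a)⁻¹) * (L.e v)⁻¹ by group, h1, L.cp (L.ez _), mul_inv_cancel_right,
      mul_inv_eq_iff_eq_mul, mul_assoc, L.cp (L.ez v), ← mul_assoc, L.e_mul v hv _ (by omega), L.e_mul _ (by omega) v hv,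
      Nat.xor_comm, mul_assoc, ← pow_add, pow_congr2 L.zz (a := _ + _) (b := ff v (i + 1)) (by omega)]
  obtain ⟨c, h1⟩ := k (a := a) hv hi
  obtain ⟨d, h2⟩ := k (a := b) hw hj
  obtain rfl : i = j := by simpa using L.e_inj (by omega) (by omega) ((h1.symm.trans (h ▸ rfl)).trans h2)
  obtain rfl := L.e_inj hv hw (mul_right_cancel h)
  exact ⟨rfl, mul_left_cancel (mul_right_cancel h), rfl⟩

theorem count : L.Γ.map (MonoidHom.fst _ _) = centralizer {L.z} ∧ Nat.card (centralizer {L.z}) = 21799895040 ∧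
    ∀ h, (h, 1) ∈ L.Γ → ∃ v < 4096, ∃ a < 2, ∃ i < 3, h = L.e v * L.z ^ a * L.k 6 ^ i := by
  let f := (MonoidHom.snd G M24).comp L.Γ.subtype
  let c : Fin 4096 × Fin 2 × Fin 3 → f.ker := fun t => ⟨⟨(L.e t.1 * L.z ^ t.2.1.1 * L.k 6 ^ t.2.2.1, 1), by
    simpa using mul_mem (mul_mem (L.e_mem t.1.2) (pow_mem L.z_mem t.2.1.1)) (pow_mem L.p_mem t.2.2.1)⟩, rfl⟩
  have hc : Function.Injective c := fun s t h => by
    obtain ⟨h1, h2, h3⟩ := L.inj3 s.1.2 t.1.2 s.2.2.2 t.2.2.2 (congrArg (·.1.1.1) h)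
    rw [pow_eq_pow_iff_modEq, L.ord] at h2
    exact Prod.ext (Fin.ext h1) (Prod.ext (Fin.ext (h2.eq_of_lt_of_lt s.2.1.2 t.2.1.2)) (Fin.ext h3))
  have h1 : Nat.card (Fin 4096 × Fin 2 × Fin 3) = 24576 := by simp
  have h2 := Nat.card_le_card_of_injective c hc
  have h3 : 887040 ≤ Nat.card f.range := Rd.card_Du ▸ card_le_of_le fun g hg =>
    let ⟨k, _, h⟩ := L.exists_K hg; ⟨⟨_, h⟩, rfl⟩
  have h4 := f.ker.card_mul_index
  have h5 : L.Γ.map (MonoidHom.fst _ _) ≤ centralizer {L.z} := by rintro _ ⟨p, hp, rfl⟩; exact (L.spec hp).1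
  have h6 : Nat.card L.Γ ≤ Nat.card (L.Γ.map (MonoidHom.fst G M24)) :=
    Nat.card_le_card_of_injective (fun p => ⟨p.1.1, p.1, p.2, rfl⟩) fun p q h => Subtype.ext
      (Prod.ext (congrArg Subtype.val h) (L.uniq p.2 (by rw [show p.1.1 = q.1.1 from congrArg Subtype.val h]; exact q.2)))
  have h7 := card_le_of_le h5
  have h8 := L.card
  rw [index_ker] at h4
  have h9 := Nat.mul_le_mul h2 h3
  refine ⟨eq_of_le_of_card_ge h5 (by omega), by omega, fun h hh => ?_⟩
  obtain ⟨t, e⟩ := (hc.bijective_of_nat_card_le (by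
    have := Nat.mul_le_mul_left (Nat.card f.ker) h3; omega)).2 ⟨⟨_, hh⟩, rfl⟩
  exact ⟨_, t.1.2, _, t.2.1.2, _, t.2.2.2, (congrArg (·.1.1.1) e).symm⟩

open Classical in
/-- The map to the Mathieu group. -/
noncomputable def φ (h : G) : M24 := if k : ∃ g, (h, g) ∈ L.Γ then k.choose else 1

theorem φ_eq {h : G} {g : M24} (a : (h, g) ∈ L.Γ) : L.φ h = g := by
  rw [φ, dif_pos ⟨g, a⟩]; exact L.uniq (Exists.choose_spec (p := fun g => (h, g) ∈ L.Γ) ⟨g, a⟩) a

theorem φ_mem {h : G} (a : h ∈ centralizer {L.z}) : (h, L.φ h) ∈ L.Γ := by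
  obtain ⟨p, hp, rfl⟩ := L.count.1.ge a
  exact (L.φ_eq hp).symm ▸ hp

omit [Finite G] in
theorem K_le : L.K ≤ centralizer {L.z} := (closure_le _).2 (by rintro _ (rfl | ⟨i, hi, rfl⟩); exacts [L.zC, L.kz i hi])

theorem ker {k : G} (hk : k ∈ L.K) (h : L.φ k = 1) : ∃ a, ∃ i < 3, k = L.z ^ a * L.k 6 ^ i := by
  classical
  obtain ⟨v, hv, a, -, i, hi, e⟩ := L.count.2.2 k (h ▸ L.φ_mem (L.K_le hk))
  have h1 : L.K ≤ normalizer (zpowers (L.k 6) : Set G) := (closure_le _).2 fun g hg =>
    mem_normalizer_fintype (by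
      rintro _ ⟨n, rfl⟩
      rw [← conj_zpow]
      refine zpow_mem ?_ n
      obtain rfl | ⟨i, hi, rfl⟩ := hg
      · rw [← mem_centralizer_singleton_iff.1 (L.kz 6 (by decide)), mul_inv_cancel_right]; exact mem_zpowers _
      · rcases L.np i hi with e | e <;> rw [e]
        exacts [mem_zpowers _, pow_mem (mem_zpowers _) 2])
  obtain ⟨n, h2⟩ := Finset.mem_image.1 (mem_zpowers_iff_mem_range_orderOf.1
    (mul_mem ((mem_normalizer_iff.1 (h1 hk) _).1 (mem_zpowers _)) (inv_mem (mem_zpowers (L.k 6)))))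
  have h3 : ∀ w < 4096, (L.e w)⁻¹ = L.e w * L.z ^ ff w w := fun w hw => inv_eq_of_mul_eq_one_right (by
    rw [← mul_assoc, L.e_mul w hw w hw, Nat.xor_self, L.e_zero, one_mul, ← pow_add, pow_congr2 L.zz (b := 0) (by omega),
      pow_zero])
  have h4 : k * L.k 6 * k⁻¹ * (L.k 6)⁻¹ = L.e v * (L.e (app 12 (mc cP) v))⁻¹ := by
    have : Commute (L.z ^ a * L.k 6 ^ i) (L.k 6) :=
      Commute.mul_left (L.cp (L.kz 6 (by decide)) a) (Commute.pow_self _ i)
    rw [← L.p_act hv, e, mul_assoc (L.e v), mul_assoc (L.e v), this.eq]; group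
  rw [h4, h3 _ (app12_lt _ _), ← mul_assoc, L.e_mul v hv _ (app12_lt _ _), mul_assoc, ← pow_add] at h2
  have h5 := (L.inj3 (a := 0) (v := 0) (j := 0) (by decide) (xor_lt hv (app12_lt _ _))
    ((Finset.mem_range.1 h2.1).trans_le (orderOf_le_of_pow_eq_one (by decide) L.p3)) (by decide)
    (by simpa [L.e_zero] using h2.2)).1
  obtain rfl := (P_spec hv).1 (Nat.xor_eq_zero_iff.1 h5.symm)
  exact ⟨a, i, hi, by rw [e, L.e_zero, one_mul]⟩

omit [Finite G] in
theorem z_mem_K : L.z ∈ L.K := subset_closure (Or.inl rfl)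

theorem lk {i : ℕ} (hi : i < 8) : LK L.z L.e L.K L.φ (L.k i) (lt i) :=
  ⟨subset_closure (Or.inr ⟨i, hi, rfl⟩), (L.φ_eq (L.k_mem hi)).symm ▸ R_lt hi, L.act i hi⟩

omit [Finite G] in
theorem conj_zp (a : ℕ) {k : G} (hk : k ∈ centralizer {L.z}) (g : G) :
    L.z ^ a * k * g * (L.z ^ a * k)⁻¹ = k * (L.z ^ a * g * (L.z ^ a)⁻¹) * k⁻¹ := by
  rw [L.cp hk]; group

/-- The coordinates. -/
noncomputable def loc : Loc G where
  z := L.z
  e := L.e
  H := centralizer {L.z}
  K := L.K
  φ := L.φ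
  ord := L.ord
  zK := L.z_mem_K
  KH := L.K_le
  eH := L.ez
  Hz := le_rfl
  e_mul := L.e_mul
  φ_mul g hg h hh := L.φ_eq (mul_mem (L.φ_mem hg) (L.φ_mem hh))
  φ_e v := L.md v ▸ L.φ_eq (L.e_mem (Nat.mod_lt _ (by decide)))
  dec h hh := by
    obtain ⟨k, hk, h1⟩ := L.exists_K (L.spec (L.φ_mem hh)).2.1
    obtain ⟨v, hv, a, -, i, -, e⟩ := L.count.2.2 (h * k⁻¹) (by simpa using mul_mem (L.φ_mem hh) (inv_mem h1))
    exact ⟨v, hv, _, mul_mem (mul_mem (pow_mem L.z_mem_K a)
      (pow_mem (L.lk (i := 6) (by decide)).1 i)) hk, by rw [← mul_assoc, ← mul_assoc, ← e, inv_mul_cancel_right]⟩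
  lets X hX := let ⟨_, hi, e⟩ := exists_lt hX; ⟨_, e ▸ L.lk hi⟩
  gen := closure_mono (Set.insert_subset_insert (by rintro _ ⟨i, hi, rfl⟩; exact ⟨_, lt_mem hi, L.lk hi⟩))
  ker k hk h := by
    obtain ⟨a, i, hi, rfl⟩ := L.ker hk h
    have h1 : ∀ X, pc' X = id24 → og X = 0 → (∀ v < 4096, L.k 6 ^ i * L.e v * (L.k 6 ^ i)⁻¹ = L.e (app 12 (mc X) v)) →
        LK L.z L.e L.K L.φ (L.z ^ a * L.k 6 ^ i) X := fun X h1 h2 h3 =>
      ⟨hk, h ▸ h1 ▸ R.one, fun v hv => by
        rw [L.conj_zp a (pow_mem (L.kz 6 (by decide)) i), L.cp (L.ez v), mul_inv_cancel_right, h3 v hv, h2]; simp⟩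
    interval_cases i
    exacts [.inl (h1 _ pc'_cI og_cI fun v hv => by simp [app_cI hv]),
      .inr (.inl (h1 _ (by decide +kernel) (by decide +kernel) fun v hv => by rw [pow_one, L.p_act hv])),
      .inr (.inr (h1 _ (by decide +kernel) (by decide +kernel) fun v hv => L.p2_act hv))]
  faith k h := by
    obtain ⟨a, i, hi, rfl⟩ := L.ker h.1 (h.2.1.eq (pc'_cI ▸ R.one))
    have h1 := h.2.2 1 (by decide)
    rw [app_cI (by decide), og_cI, L.conj_zp a (pow_mem (L.kz 6 (by decide)) i), L.cp (L.ez 1),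
      mul_inv_cancel_right] at h1
    interval_cases i
    · exact mul_mem (pow_mem (mem_zpowers _) a) (by simp)
    · rw [pow_one, L.p_act (by decide)] at h1
      exact absurd (L.e_inj (a := 0) (w := 1) (app12_lt _ _) (by decide) (((mul_right_inj _).2 (pow_zero _)).trans
        ((mul_one _).trans h1))) (by decide +kernel)
    · rw [L.p2_act (by decide)] at h1
      exact absurd (L.e_inj (a := 0) (w := 1) (app12_lt _ _) (by decide) (((mul_right_inj _).2 (pow_zero _)).trans
        ((mul_one _).trans h1))) (by decide +kernel)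

theorem loc_cd {i : ℕ} (hi : i < 8) : L.loc.Cd (L.k i) (lt i) := L.lk hi

end Pre

end Cfsg.Lib.J4T.Md
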