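import Cfsg.Agent.Lib.J4T.Nrm

/-! # Part I: coordinates for the centraliser (see docs/J4.md) -/

set_option autoImplicit false

namespace Cfsg.Lib.J4T

open Subgroup

namespace Lx

open Cfsg.Lib.Calc Cfsg.Lib.F2 Cfsg.Lib.Mathieu Module

theorem exists_loc {H : Type*} [Group H] [Finite H] {z : H} (hz : orderOf z = 2) (hzc : z ∈ center H) {E : Subgroup H}
    [E.Normal] (hE : IsExtraspecial 2 E) (hc : Nat.card E = 2 ^ 13) (hcen : centralizer (E : Set H) ≤ E)
    {φ : H →* M24} (hr : φ.range = Du) (hk : E ≤ φ.ker) (hck : Nat.card φ.ker = 3 * 2 ^ 13)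
    (hp : φ.ker ≤ ⁅m22.comap φ, m22.comap φ⁆ ⊔ E) {P : Subgroup H} (hP : Nat.card P = 3) (hPk : P ≤ φ.ker) :
    ∃ L : Loc H, L.z = z ∧ L.H = ⊤ ∧ L.E = E ∧ L.K = normalizer (P : Set H) ∧ (∀ g, L.φ g = φ g) ∧
      ∃ p, L.Cd p cP ∧ zpowers p = P := by
  obtain ⟨D, -, hZ, hN⟩ := ES.exists_ext_of_isExtraspecial_card hE (n := 6) hc
  obtain ⟨a, a1, -, a2⟩ := D.exists_autHom hN
  have hzz : ∀ h, h * z = z * h := mem_center_iff.1 hzc
  have hzE : z ∈ E := hcen fun x _ => hzz x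
  have hι1 : (D.ι 1 : H) = z := by
    obtain ⟨b, e⟩ := D.mem_Z_iff.1 (hZ.ge (show (⟨z, hzE⟩ : E) ∈ center E from
      mem_center_iff.2 fun y => Subtype.ext (hzz y)))
    rcases ES.zmod_two_eq_zero_or_one b with rfl | rfl
    · rw [D.ι_zero] at e
      rw [← show (1 : H) = z from congrArg Subtype.val e, orderOf_one] at hz
      omega
    · exact congrArg Subtype.val e
  have hι : ∀ n, (D.ι (zb n) : H) = z ^ n := fun n => by rw [zb_eq, D.ι_natCast, coe_pow, hι1]
  have hι' : ∀ b, ∃ n, b = zb n := fun b =>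
    (ES.zmod_two_eq_zero_or_one b).elim (fun e => ⟨0, e⟩) fun e => ⟨1, e⟩
  let c : H →* MulAut E := MulAut.conjNormal
  have c1 : ∀ h x, (c h x : H) = h * x * h⁻¹ := MulAut.conjNormal_apply
  have c2 : ∀ h b, c h (D.ι b) = D.ι b := fun h b => Subtype.ext (by
    obtain ⟨n, rfl⟩ := hι' b
    rw [c1, hι, (Commute.pow_right (hzz h) n).eq, mul_inv_cancel_right])
  let ρ0 : H →* ((Fin (2 * 6) → ZMod 2) →ₗ[ZMod 2] (Fin (2 * 6) → ZMod 2)) :=
    LinearEquiv.automorphismGroup.toLinearMapMonoidHom.comp ((Orth.O D.Q).subtype.comp (a.comp c))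
  have r1 : ∀ h x, ρ0 h (D.π x) = D.π (c h x) := fun h x => a1 _ x
  have r2 : ∀ h, ρ0 h = 1 ↔ h ∈ E := fun h => by
    constructor
    · intro e
      obtain ⟨x, hx⟩ := a2.le (show a (c h) = 1 from Subtype.ext (LinearEquiv.toLinearMap_injective e))
      have : (x : H)⁻¹ * h ∈ E := hcen fun y hy => by
        have := (c1 h ⟨y, hy⟩).symm.trans (congrArg (fun f : MulAut E => (f ⟨y, hy⟩ : H)) hx).symm
        change h * y * h⁻¹ = x * y * (x : H)⁻¹ at this
        calc y * ((x : H)⁻¹ * h) = (x : H)⁻¹ * (x * y * (x : H)⁻¹) * h := by group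
          _ = _ := by rw [← this]; group
      simpa using mul_mem x.2 this
    · refine fun hh => D.linearMap_ext fun x => ?_
      rw [r1, show c h x = ⟨h, hh⟩ * x * ⟨h, hh⟩⁻¹ from Subtype.ext (c1 h x), D.π_conj]; rfl
  let q := QuotientGroup.mk' E
  let σ := QuotientGroup.lift E φ hk
  let ρ : Representation (ZMod 2) (H ⧸ E) (Fin (2 * 6) → ZMod 2) := QuotientGroup.lift E ρ0 fun h hh => (r2 h).2 hh
  have qs : Function.Surjective q := QuotientGroup.mk'_surjective E
  have q1 : ∀ h, q h = 1 ↔ h ∈ E := QuotientGroup.eq_one_iff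
  have hB : ∀ h x y, D.B (D.π (c h x)) (D.π (c h y)) = D.B (D.π x) (D.π y) := fun h x y => by
    apply D.ι_inj
    rw [← D.comm_eq, ← map_commutatorElement, D.comm_eq, c2]
  have hck' : Nat.card φ.ker = 3 * Nat.card E := hc ▸ hck
  have k3 : Nat.card σ.ker = 3 := by
    rw [QuotientGroup.ker_lift, ← relIndex_ker, QuotientGroup.ker_mk', Rd.relIndex_three hk hck']
  obtain ⟨θ, p', t1, t5, t4, o1, o2, o3, o4, o5⟩ := outer (σ := σ) (ρ := ρ) (B := D.B)
    (by rw [← hr, ← QuotientGroup.lift_comp_mk' E φ hk, MonoidHom.range_comp, MonoidHom.range_eq_top.2 qs,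
      ← MonoidHom.range_eq_map]) k3
    (by
      rw [QuotientGroup.ker_lift]
      refine (map_mono hp).trans ?_
      rw [Subgroup.map_sup, QuotientGroup.map_mk'_self, sup_bot_eq, map_commutator]
      exact commutator_mono (map_le_iff_le_comap.2 le_rfl) (map_le_iff_le_comap.2 le_rfl))
    (by simp) D.isAlt hN (fun g x y => by
      obtain ⟨h, rfl⟩ := qs g
      obtain ⟨x, rfl⟩ := D.π_surj x
      obtain ⟨y, rfl⟩ := D.π_surj y
      exact (congrArg₂ (D.B · ·) (r1 h x) (r1 h y)).trans (hB h x y))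
    (fun g _ e => by
      obtain ⟨h, rfl⟩ := qs g
      exact (q1 h).2 ((r2 h).1 e))
  have t0 : θ 0 = 0 := by have := t1 0 0; rw [add_self] at this; exact this
  have PE : ∀ x ∈ P, x ∈ E → x = 1 := fun x a b => by
    have h1 := hP ▸ orderOf_dvd_natCard (⟨x, a⟩ : P)
    have h2 := hc ▸ orderOf_dvd_natCard (⟨x, b⟩ : E)
    rw [← orderOf_coe] at h1 h2
    exact orderOf_eq_one_iff.1 (Nat.eq_one_of_dvd_coprimes (by norm_num) h1 h2)
  have qP : ∀ x ∈ P, ∀ y ∈ P, q x = q y → x = y := fun x a y b e =>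
    inv_mul_eq_one.1 (PE _ (mul_mem (inv_mem a) b) ((q1 _).1 (by rw [map_mul, map_inv, e, inv_mul_cancel])))
  obtain ⟨p, p1, rfl⟩ : p' ∈ P.map q := by
    have : P.map q = σ.ker := eq_of_le_of_card_ge (by rw [QuotientGroup.ker_lift]; exact map_mono hPk) (by
      rw [k3, ← hP]
      exact Nat.card_le_card_of_injective (q.subgroupMap P) fun x y e =>
        Subtype.ext (qP _ x.2 _ y.2 (congrArg Subtype.val e)))
    rw [this, o4]; exact mem_zpowers _
  have p2 : zpowers p = P := zpowers_eq hP p1 (by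
    rintro rfl
    rw [o4, map_one, zpowers_one_eq_bot, card_bot] at k3
    omega)
  have p3 : p * (p * p) = 1 := by
    have := congrArg Subtype.val (pow_card_eq_one' (x := (⟨p, p1⟩ : P)))
    rwa [hP, coe_pow, pow_succ', sq] at this
  have cm : ∀ g h x, c g (c h x) = c (g * h) x := fun g h x => by rw [map_mul]; rfl
  have act : ∀ {h X}, C1 σ ρ θ (q h) X → ∀ v < 4096, ∀ x, D.π x = θ v → D.π (c h x) = θ (app 12 (mc X) v) :=
    fun {h X} k v hv x e => by rw [← r1, e]; exact k.2 v hv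
  choose e e1 e2 using fun v => exists_sec (c2 p) (fun x => by
    obtain ⟨v, hv, e⟩ := t5 (D.π x)
    have h1 := act o3 v hv x e.symm
    rw [act o3 _ (app12_lt _ _) _ h1, h1, ← e, ← t1, pp_sum hv, add_self]) (θ v)
  have e3 : ∀ x ∈ E, ∃ v < 4096, ∃ n : ℕ, x = e v * z ^ n := fun x hx => by
    obtain ⟨v, hv, h⟩ := t5 (D.π ⟨x, hx⟩)
    obtain ⟨b, h⟩ := D.π_eq_iff.1 ((e1 v).trans h)
    obtain ⟨n, rfl⟩ := hι' b
    exact ⟨v, hv, n, by rw [← hι]; exact congrArg Subtype.val h⟩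
  have hKp : ∀ k ∈ normalizer (P : Set H), k * p * k⁻¹ ∈ P := fun k hk => (mem_normalizer_iff.1 hk p).1 p1
  have hzK : z ∈ normalizer (P : Set H) := center_le_normalizer _ hzc
  have KE : ∀ k ∈ normalizer (P : Set H), k ∈ E → k ∈ zpowers z := fun k a b => by
    have h1 : k * p * k⁻¹ = p := qP _ (hKp k a) _ p1 (by rw [map_mul, map_mul, map_inv, (q1 k).2 b]; simp)
    obtain ⟨v, hv, h⟩ := t5 (D.π ⟨k, b⟩)
    have h2 := act o3 v hv _ h.symm
    rw [show c p ⟨k, b⟩ = ⟨k, b⟩ from Subtype.ext (by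
      rw [c1, mul_inv_eq_iff_eq_mul]; exact (mul_inv_eq_iff_eq_mul.1 h1).symm), ← h] at h2
    have h3 := theta_inj t1 t4 hv (app12_lt _ _) h2
    have h4 := pp_sum hv
    rw [← h3, ← h3, Nat.xor_self] at h4
    rw [← h4, t0, eq_comm, D.π_eq_zero] at h
    obtain ⟨b, h⟩ := h
    obtain ⟨n, rfl⟩ := hι' b
    exact ⟨n, (zpow_natCast z n).trans ((hι n).symm.trans (congrArg Subtype.val h))⟩
  have KT : ∀ h, ∃ x ∈ E, ∃ k ∈ normalizer (P : Set H), x * k = h := fun h => by
    have : Fact (Nat.Prime 3) := ⟨Nat.prime_three⟩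
    have c3 : Nat.card (P.subgroupOf φ.ker) = 3 := (Nat.card_congr (subgroupOfEquivOfLe hPk).toEquiv).trans hP
    have := Sylow.normalizer_sup_eq_top ((IsPGroup.of_card (p := 3) (n := 1) c3).toSylow (by
      have := (P.subgroupOf φ.ker).card_mul_index
      rw [c3, hck] at this
      rw [show (P.subgroupOf φ.ker).index = 2 ^ 13 by omega]
      norm_num))
    rw [IsPGroup.toSylow_coe, subgroupOf_map_subtype, inf_eq_left.2 hPk] at this
    have h1 : φ.ker ≤ E ⊔ P := (Rd.dich hk hck' le_sup_left).resolve_right fun k => by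
      have : P = ⊥ := eq_bot_iff.2 fun x hx => PE x hx (k.le ⟨mem_sup_right hx, hPk hx⟩)
      rw [this, card_bot] at hP
      omega
    exact mem_sup_of_normal_left.1 ((sup_le le_sup_right (h1.trans (sup_le_sup_left le_normalizer _)))
      (this.ge (mem_top h)))
  have LKof : ∀ k ∈ normalizer (P : Set H), ∀ X, C1 σ ρ θ (q k) X →
      LK z (fun v => e v) (normalizer (P : Set H)) φ k X := fun k hk X h => by
    refine ⟨hk, h.1, fun v hv => ?_⟩
    have h0 := og_eq_zero h.1 (hr.le ⟨k, rfl⟩)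
    have h1 := (act h v hv _ (e1 v)).trans (e1 _).symm
    rw [← c1]
    by_cases hm : σ (q k) ∈ m22
    · have h2 : k * p * k⁻¹ = p := qP _ (hKp k hk) _ p1 ((o5 _).1 hm)
      rw [h0.2 hm, zero_mul, pow_zero, mul_one]
      refine congrArg Subtype.val (Nm_ext (c2 p) h1 ?_ (e2 _))
      rw [Nm_comm (fun x => by rw [cm, cm, mul_inv_eq_iff_eq_mul.1 h2]), e2, map_one]
    · have h2 : k * p * k⁻¹ = p * p := qP _ (hKp k hk) _ (mul_mem p1 p1) ((o5 _).2 hm)
      have h3 : og X = 1 := by have := og_lt X; have := mt h0.1 hm; omega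
      have h4 := Nm_inv (hB p) (fun x => by rw [cm, cm, mul_assoc, p3, map_one]; rfl) (β := c k)
        (fun x => by rw [cm, cm, cm, mul_inv_eq_iff_eq_mul.1 h2]) (e v)
      rw [e2, one_mul, c2, act o3 v hv _ (e1 v), e1, t4 _ (app12_lt _ _) v hv, qq_eq hv] at h4
      rw [h3, one_mul, ← hι, ← coe_mul, ← Nm_ext (c2 p) (x := c k (e v) * D.ι (zb (qq v)))
        (by rw [D.π_mul, D.π_ι, add_zero, h1]) (by rw [Nm_ι (c2 p), h4, ιι]) (e2 (app 12 (mc X) v)), mul_assoc, ιι, mul_one]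
  have C1of : ∀ k X, LK z (fun v => e v) (normalizer (P : Set H)) φ k X → C1 σ ρ θ (q k) X := fun k X h =>
    ⟨h.2.1, fun v hv => by
      have := h.2.2 v hv
      rw [← c1, ← hι, ← coe_mul] at this
      rw [← e1, ← e1]
      refine (r1 k _).trans ?_
      rw [Subtype.ext this, D.π_mul, D.π_ι, add_zero]⟩
  have lift : ∀ g, ∃ k ∈ normalizer (P : Set H), q k = g := fun g => by
    obtain ⟨h, rfl⟩ := qs g
    obtain ⟨x, hx, k, hk, rfl⟩ := KT h
    exact ⟨k, hk, by rw [map_mul, (q1 x).2 hx, one_mul]⟩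
  have c1I : C1 σ ρ θ 1 cI := ⟨by rw [map_one, pc'_cI]; exact R.one, fun v hv => by rw [map_one, app_cI hv]; rfl⟩
  have c1P : C1 σ ρ θ (q p * q p) cP2 := ⟨by
      rw [map_mul]
      have := o3.1.mulT o3.1
      rwa [show mulT (pc' cP) (pc' cP) = pc' cP2 by decide +kernel] at this, fun v hv => by
    rw [map_mul, Module.End.mul_apply, o3.2 v hv, o3.2 _ (app12_lt _ _), ← app_mmul,
      show mmul 12 (mc cP) (mc cP) = mc cP2 by decide +kernel]⟩
  refine ⟨{ z := z, e := fun v => e v, H := ⊤, K := normalizer (P : Set H), φ := φ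
            ord := hz
            zK := hzK
            KH := le_top
            eH := fun _ => mem_top _
            Hz := fun h _ => mem_centralizer_singleton_iff.2 (hzz h)
            e_mul := fun v hv w hw => ?_
            φ_mul := fun g _ h _ => map_mul φ g h
            φ_e := fun v => hk (e v).2
            dec := fun h _ => ?_
            lets := fun X hX => ?_
            gen := fun k hk => ?_
            ker := fun k hk h => ?_
            faith := fun k h => ?_ }, rfl, rfl, ?_, rfl, fun _ => rfl, p,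
    LKof p (le_normalizer p1) _ o3, p2⟩
  · have h := Nm_mul (hB p) (e v) (e w)
    rw [e2, e2, one_mul, one_mul, act o3 _ (app12_lt _ _) _ (act o3 v hv _ (e1 v)), e1, t4 _ (app12_lt _ _) w hw,
      ff_eq v hv w hw] at h
    rw [← hι, ← coe_mul, ← coe_mul, ← Nm_ext (c2 p) (x := e v * e w * D.ι (zb (ff v w)))
      (by rw [D.π_mul, D.π_mul, D.π_ι, add_zero, e1, e1, e1, t1]) (by rw [Nm_ι (c2 p), h, ιι]) (e2 (v ^^^ w)), mul_assoc, ιι,
      mul_one]
  · obtain ⟨x, hx, k, hk, rfl⟩ := KT h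
    obtain ⟨v, hv, n, rfl⟩ := e3 x hx
    exact ⟨v, hv, _, mul_mem (pow_mem hzK n) hk, mul_assoc _ _ _⟩
  · obtain ⟨g, h⟩ := o1 X hX
    obtain ⟨k, hk, rfl⟩ := lift g
    exact ⟨k, LKof k hk X h⟩
  · generalize hS : insert z {k | ∃ X ∈ lets, LK z (fun v => (e v : H)) (normalizer (P : Set H)) φ k X} = S
    have h1 : Subgroup.closure S ≤ normalizer (P : Set H) := (closure_le _).2 (by
      rw [← hS]
      rintro _ (rfl | ⟨X, -, h⟩)
      · exact hzK
      · exact h.1)
    obtain ⟨k', a, b⟩ := (o2 ((Subgroup.closure S).map q) fun X hX g h => by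
      obtain ⟨k, hk, rfl⟩ := lift g
      exact mem_map_of_mem q (subset_closure (hS ▸ Or.inr ⟨X, hX, LKof k hk X h⟩))).ge (mem_top (q k))
    have := KE _ (mul_mem (inv_mem (h1 a)) hk) ((q1 _).1 (by rw [map_mul, map_inv, b, inv_mul_cancel]))
    simpa using mul_mem a (zpowers_le.2 (subset_closure (hS ▸ Or.inl rfl)) this)
  · obtain ⟨x, hx, e⟩ : q k ∈ P.map q := by
      rw [← p2, MonoidHom.map_zpowers, ← o4]; exact h
    have : x = 1 ∨ x = p ∨ x = p * p := by
      obtain ⟨i, rfl⟩ := p2.ge hx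
      have h3 : p ^ (3 : ℤ) = 1 := by rw [← p3, show (3 : ℤ) = 1 + (1 + 1) from rfl, zpow_add, zpow_add, zpow_one]
      beta_reduce
      rw [← Int.mul_ediv_add_emod i 3, zpow_add, zpow_mul, h3, one_zpow, one_mul]
      have : i % 3 = 0 ∨ i % 3 = 1 ∨ i % 3 = 2 := by omega
      rcases this with k | k | k <;> simp [k, zpow_two, sq]
    rcases this with rfl | rfl | rfl
    · exact Or.inl (LKof k hk _ (e ▸ (map_one q).symm ▸ c1I))
    · exact Or.inr (Or.inl (LKof k hk _ (e ▸ o3)))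
    · exact Or.inr (Or.inr (LKof k hk _ (e ▸ (map_mul q p p).symm ▸ c1P)))
  · refine KE k h.1 ((r2 k).1 (LinearMap.ext fun x => ?_))
    obtain ⟨v, hv, rfl⟩ := t5 x
    exact ((C1of k _ h).2 v hv).trans (by rw [app_cI hv]; rfl)
  · refine le_antisymm ((closure_le _).2 ?_) fun x hx => ?_
    · rintro _ (rfl | ⟨v, -, rfl⟩)
      · exact hzE
      · exact (e v).2
    · obtain ⟨v, hv, n, rfl⟩ := e3 x hx
      exact mul_mem (Subgroup.subset_closure (Or.inr ⟨v, hv, rfl⟩))
        (pow_mem (Subgroup.subset_closure (Set.mem_insert _ _)) n)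

end Lx

theorem Hyp.loc {G : Type*} [Group G] [Finite G] {z : G} {E : Subgroup G}
    {φ : centralizer ({z} : Set G) →* M24} (h : Hyp z E φ) {P : Subgroup G} (hP : Nat.card P = 3)
    (hk : P ≤ φ.ker.map (centralizer ({z} : Set G)).subtype) :
    ∃ L : Loc G, L.z = z ∧ L.H = centralizer {z} ∧ L.E = E ∧
      L.K = centralizer {z} ⊓ normalizer (P : Set G) ∧
      (∀ g : centralizer ({z} : Set G), L.φ g = φ g) ∧ ∃ p, L.Cd p cP ∧ zpowers p = P := by
  have hPH : P ≤ centralizer {z} := hk.trans (map_subtype_le _)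
  have hz : z ∈ centralizer ({z} : Set G) := mem_centralizer_singleton_iff.2 rfl
  have := (normal_subgroupOf_iff_le_normalizer h.le).2 h.norm
  have i := subgroupOfEquivOfLe h.le
  obtain ⟨L, l1, l2, l3, l4, l5, p, l6, l7⟩ := Lx.exists_loc (z := ⟨z, hz⟩) (by rw [← orderOf_coe]; exact h.ord)
    (mem_center_iff.2 fun y => Subtype.ext (mem_centralizer_singleton_iff.1 y.2)) (E := E.subgroupOf _)
    (ES.isExtraspecial_congr i.symm h.es) ((Nat.card_congr i.toEquiv).trans h.card)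
    (fun x hx => h.cen ⟨x.2, fun y hy => congrArg Subtype.val (hx ⟨y, h.le hy⟩ hy)⟩) h.range h.le_ker h.card_ker h.perf
    (P := P.subgroupOf _) ((Nat.card_congr (subgroupOfEquivOfLe hPH).toEquiv).trans hP)
    (fun x hx => (mem_map_iff_mem (subtype_injective _)).1 (hk hx))
  obtain ⟨L', m1, m2, m3, m4, m5, m6⟩ := Lx.exists_map L _ (centralizer ({z} : Set G)).subtype_injective
  refine ⟨L', by rw [m1, l1]; rfl, by rw [m2, l2, ← MonoidHom.range_eq_map, range_subtype],
    by rw [m3, l3, subgroupOf_map_subtype, inf_eq_left.2 h.le], ?_, fun g => (m5 g).trans (l5 g), _, m6 _ _ l6, ?_⟩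
  · rw [m4, l4, ← subgroupOf_normalizer_eq hPH, subgroupOf_map_subtype, inf_comm]
  · rw [← MonoidHom.map_zpowers, l7, subgroupOf_map_subtype, inf_eq_left.2 hPH]

end Cfsg.Lib.J4T
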