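import Cfsg.Agent.Lib.J4T.GlobEx
import Cfsg.Agent.Lib.J4T.Red
import Cfsg.Agent.Lib.J4T.LocEx

/-! # From the printed hypotheses to `Glob` -/

set_option autoImplicit false

namespace Cfsg.Lib.J4T

open Subgroup Cfsg.Lib.Transfer Cfsg.Lib.Calc

variable {G : Type*} [Group G] [Finite G] [IsSimpleGroup G]

theorem Hyp.glob {z : G} {E : Subgroup G} {φ : centralizer ({z} : Set G) →* M24} (h : Hyp z E φ) :
    ∃ Γ : Glob G, Γ.z = z ∧ Γ.H = centralizer {Γ.z} ∧ Γ.M = normalizer (Γ.V : Set G) := by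
  obtain ⟨x, hx⟩ := exists_prime_orderOf_dvd_card' (G := φ.ker) 3 (h.card_ker ▸ dvd_mul_right _ _)
  obtain ⟨L, rfl, h1, -⟩ := h.loc (P := zpowers x.1.1) (by rw [Nat.card_zpowers, orderOf_coe, orderOf_coe, hx])
    (zpowers_le.2 ⟨_, x.2, rfl⟩)
  obtain ⟨Γ, rfl, h2⟩ := L.glob h1
  exact ⟨Γ, rfl, h1, h2⟩

theorem glob_of_type {z : G} {P : Subgroup G} (h : IsOfJankoFourTypeWith z P) :
    ∃ Γ : Glob G, Γ.z = z ∧ Γ.H = centralizer {Γ.z} ∧ Γ.M = normalizer (Γ.V : Set G) ∧ Γ.E = twoCoreOfCentralizer z ∧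
      Γ.K = centralizer {z} ⊓ normalizer (P : Set G) ∧ ∃ p, Γ.Cd p cP ∧ zpowers p = P := by
  obtain ⟨φ, h1, h2⟩ := hyp_of_type h
  obtain ⟨L, rfl, a, b, c, -, d⟩ := h1.loc h.2.2.2.2.2.1 h2
  obtain ⟨Γ, rfl, h2⟩ := L.glob a
  exact ⟨Γ, rfl, a, h2, b, c, d⟩

theorem Glob.ncard_duads (Γ : Glob G) (hH : Γ.H = centralizer {Γ.z}) (hM : Γ.M = normalizer (Γ.V : Set G)) :
    (Grp.cl Γ.M (Γ.cm 3)).ncard = 276 := by
  rw [← (by decide +kernel : cnt CL 1176 2047 0 = 276), ← Loc.CNT_eq (L := Γ.toLoc) (p := fun x => x ≠ 1 ∧ ¬IsConj Γ.z x)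
    (q := fun _ => True) (fun c hc => ?_) (fun c hc => by
      simpa [-Nat.reducePow] using (Nat.testBit_two_pow_sub_one 11 (cls c)).trans (decide_eq_true (cls_lt hc).1))
    (by norm_num), Loc.CNT, Γ.cm_three]
  · congr 1
    ext y
    refine ⟨fun ⟨k, hk, e⟩ => ⟨e ▸ (mem_normalizer_iff.1 (hM.le hk) _).1 (Γ.vv_mem (by norm_num)), ⟨by
      simpa [← e] using (Γ.not_conj_w hH).1, fun h => (Γ.not_conj_w hH).2 (h.trans (isConj_iff.2 ⟨k, e⟩).symm)⟩, trivial⟩,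
      fun h => ?_⟩
    obtain ⟨i, hi, j, hj, rfl⟩ := (Γ.duad_iff hH h.1).1 h.2.1
    obtain ⟨g, hg, e⟩ := Γ.conj_duad_w hi hj
    exact ⟨g⁻¹, inv_mem hg, by rw [← e]; group⟩
  · have h1 : Γ.vv c ≠ 1 ↔ c ≠ 0 := not_congr ⟨Γ.vv_eq_one hc, fun e => e ▸ Γ.vv_zero⟩
    have h2 := allBig_iff.1 (by decide +kernel : allBig 2048 (fun c => Nat.beq (cnd (Nat.beq c 0) 0 1)
      (cnd (Nat.beq (cls c) 0) 0 1)) = true) c hc
    have h3 : c = 0 ↔ cls c = 0 := by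
      rw [← beq_iff, ← beq_iff (a := cls c)]
      revert h2
      cases Nat.beq c 0 <;> cases Nat.beq (cls c) 0 <;> simp
    rw [h1, Γ.conj_iff hH hc, Ne, h3]
    exact (by decide : ∀ i < 11, ¬i = 0 ∧ ¬(870 : ℕ).testBit i = true ↔ (1176 : ℕ).testBit i = true) _ (cls_lt hc).1

end Cfsg.Lib.J4T
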