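import Cfsg.Agent.Lib.J4T.ModC
import Cfsg.Agent.Lib.PLocal.QdFacts
import Cfsg.Agent.Lib.PGroup.AutGL

/-! # Heisenberg groups; the centraliser of `p` in `H` -/

set_option autoImplicit false
set_option maxRecDepth 100000

namespace Cfsg.Lib.J4T

open Cfsg.Lib.Calc Cfsg.Lib.F2 Cfsg.Lib.Mathieu Cfsg.Lib.Big Cfsg.Lib.J4 Subgroup Cfsg.Lib.Transfer

variable {G : Type*} [Group G]

/-- The extraspecial group of order `p ^ 3` and exponent `p`. -/
structure Heis (p : ℕ) (x y c : G) (U : Subgroup G) : Prop where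
  mem : ∀ {u}, u ∈ U ↔ ∃ i j k : ℕ, u = y ^ j * x ^ i * c ^ k
  card : Nat.card U = p ^ 3
  es : IsExtraspecial p U
  pow : ∀ u ∈ U, u ^ p = 1
  exp : Monoid.exponent U = p
  cen : U ⊓ centralizer (U : Set G) = zpowers c

theorem exists_heis [Finite G] {p : ℕ} [hp : Fact p.Prime] (h2 : Odd p) {x y c : G} (hx : x ^ p = 1) (hy : y ^ p = 1)
    (hc : orderOf c = p) (h : x * y = y * x * c) (h1 : Commute x c) (h3 : Commute y c) : ∃ U, Heis p x y c U := by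
  have k1 : ∀ i j : ℕ, x ^ i * y ^ j = y ^ j * x ^ i * c ^ (i * j) := fun i j => by
    have k0 : ∀ j : ℕ, x * y ^ j = y ^ j * x * c ^ j := fun j => by
      induction j with
      | zero => simp
      | succ j ih =>
        rw [pow_succ, ← mul_assoc, ih, mul_assoc, (h3.symm.pow_left j).eq, ← mul_assoc, mul_assoc _ x, h, pow_succ' c]
        simp only [mul_assoc]
    induction i with
    | zero => simp
    | succ i ih =>
      rw [pow_succ', mul_assoc, ih, ← mul_assoc, ← mul_assoc, k0, mul_assoc _ (c ^ j), (h1.symm.pow_pow j i).eq,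
        add_mul, one_mul, add_comm, pow_add]
      simp only [mul_assoc]
  have k2 : ∀ i j k i' j' k' : ℕ, y ^ j * x ^ i * c ^ k * (y ^ j' * x ^ i' * c ^ k') =
      y ^ (j + j') * x ^ (i + i') * c ^ (i * j' + k + k') := fun i j k i' j' k' => by
    have : c ^ k * (y ^ j' * x ^ i') = y ^ j' * x ^ i' * c ^ k :=
      (((h3.symm.pow_pow k j').mul_right (h1.symm.pow_pow k i'))).eq
    calc _ = y ^ j * (x ^ i * (c ^ k * (y ^ j' * x ^ i'))) * c ^ k' := by simp only [mul_assoc]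
      _ = y ^ j * (x ^ i * y ^ j') * x ^ i' * c ^ k * c ^ k' := by rw [this]; simp only [mul_assoc]
      _ = y ^ j * y ^ j' * x ^ i * (c ^ (i * j') * x ^ i') * c ^ k * c ^ k' := by rw [k1]; simp only [mul_assoc]
      _ = _ := by rw [(h1.symm.pow_pow _ _).eq]; simp only [pow_add, mul_assoc]
  have cp : c ^ p = 1 := hc ▸ pow_orderOf_eq_one c
  let U := subOf (fun u : G => ∃ i j k : ℕ, u = y ^ j * x ^ i * c ^ k) ⟨0, 0, 0, by simp⟩
    (by rintro _ _ ⟨i, j, k, rfl⟩ ⟨i', j', k', rfl⟩; exact ⟨_, _, _, k2 ..⟩)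
  have k3 : ∀ u ∈ U, u ^ p = 1 := by
    rintro _ ⟨i, j, k, rfl⟩
    have : ∀ n, (y ^ j * x ^ i * c ^ k) ^ n = y ^ (n * j) * x ^ (n * i) * c ^ (n.choose 2 * (i * j) + n * k) := fun n => by
      induction n with
      | zero => simp
      | succ n ih => rw [pow_succ, ih, k2, Nat.choose_succ_succ', Nat.choose_one_right]; congr 2 <;> [congr 1; skip; skip] <;> ring_nf
    obtain ⟨m, hm⟩ := hp.out.dvd_choose_self two_ne_zero (hp.out.two_le.lt_of_ne fun e => by simp [← e] at h2; revert h2; decide)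
    rw [this, hm, mul_assoc p, ← mul_add, pow_mul, pow_mul, pow_mul, hx, hy, cp]; simp
  have xU : x ∈ U := ⟨1, 0, 0, by simp⟩
  have yU : y ∈ U := ⟨0, 1, 0, by simp⟩
  have cU : c ∈ U := ⟨0, 0, 1, by simp⟩
  have c1 : c ≠ 1 := fun e => hp.out.one_lt.ne (by rw [← hc, e, orderOf_one])
  have k4 : ¬IsMulCommutative U := fun e => c1 (by
    have : x * y = y * x := congrArg Subtype.val (e.is_comm.comm ⟨x, xU⟩ ⟨y, yU⟩)
    simpa [this] using h)
  have k5 : Nat.card U ≤ p ^ 3 := by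
    have md : ∀ {g : G}, g ^ p = 1 → ∀ i, g ^ (i % p) = g ^ i := fun e i => (pow_eq_pow_mod i e).symm
    refine (Nat.card_le_card_of_surjective (fun t : Fin p × Fin p × Fin p =>
      (⟨y ^ t.2.1.1 * x ^ t.1.1 * c ^ t.2.2.1, _, _, _, rfl⟩ : U)) ?_).trans (by simp [pow_succ, mul_assoc])
    rintro ⟨_, i, j, k, rfl⟩
    exact ⟨(⟨i % p, Nat.mod_lt _ hp.out.pos⟩, ⟨j % p, Nat.mod_lt _ hp.out.pos⟩, ⟨k % p, Nat.mod_lt _ hp.out.pos⟩),
      Subtype.ext (by simp [md hx, md hy, md cp])⟩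
  have k6 : Nat.card U = p ^ 3 := by
    obtain ⟨n, hn⟩ := IsPGroup.iff_card.1 (show IsPGroup p U from fun u => ⟨1, Subtype.ext (by simpa using k3 u u.2)⟩)
    have := (Nat.pow_le_pow_iff_right hp.out.one_lt).1 (hn ▸ k5)
    interval_cases n
    · exact absurd (mem_bot.1 (eq_bot_of_card_eq U hn ▸ cU)) c1
    · have : IsCyclic U := isCyclic_of_prime_card (p := p) (by simpa using hn)
      exact absurd IsCyclic.isMulCommutative k4
    · exact absurd (IsPGroup.isMulCommutative_of_card_eq_prime_sq hn) k4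
    · exact hn
  have k7 := PLocal.isExtraspecial_of_card_eq_cube k6 k4
  refine ⟨U, Iff.rfl, k6, k7, k3, ?_, (eq_of_le_of_card_ge (zpowers_le.2 (mem_inf.2 ⟨cU, ?_⟩)) ?_).symm⟩
  · exact (hp.out.eq_one_or_self_of_dvd _ (Monoid.exponent_dvd_of_forall_pow_eq_one fun u =>
      Subtype.ext (k3 u u.2))).resolve_left fun e => c1 (by simpa [e] using Monoid.pow_exponent_eq_one (⟨c, cU⟩ : U))
  · rintro _ ⟨i, j, k, rfl⟩
    exact (((h3.pow_left j).mul_left (h1.pow_left i)).mul_left ((Commute.refl c).pow_left k)).eq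
  · rw [← PGroup.map_subtype_center, card_map_of_injective (subtype_injective _), k7.2, Nat.card_zpowers, hc]

namespace Heis

variable {p : ℕ} {x y c : G} {U : Subgroup G} (h : Heis p x y c U)
include h

theorem x_mem : x ∈ U := h.mem.2 ⟨1, 0, 0, by simp⟩
theorem y_mem : y ∈ U := h.mem.2 ⟨0, 1, 0, by simp⟩
theorem c_mem : c ∈ U := h.mem.2 ⟨0, 0, 1, by simp⟩
theorem le {S : Subgroup G} (a : x ∈ S) (b : y ∈ S) (d : c ∈ S) : U ≤ S := fun u hu => by
  obtain ⟨i, j, k, rfl⟩ := h.mem.1 hu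
  exact mul_mem (mul_mem (pow_mem b j) (pow_mem a i)) (pow_mem d k)
theorem le_cen : U ≤ centralizer {c} := fun u hu =>
  mem_centralizer_singleton_iff.2 ((h.cen.ge (mem_zpowers c)).2 u hu)
theorem norm [Finite G] {g : G} (a : g * x * g⁻¹ ∈ U) (b : g * y * g⁻¹ ∈ U) (d : g * c * g⁻¹ ∈ U) :
    g ∈ normalizer (U : Set G) :=
  mem_normalizer_fintype (h.le (S := U.comap (MulAut.conj g).toMonoidHom) a b d)
theorem norm_le [Finite G] : normalizer (U : Set G) ≤ normalizer (zpowers c : Set G) := fun g hg => by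
  rw [← h.cen]
  exact mem_normalizer_fintype fun n hn => ⟨(mem_normalizer_iff.1 hg n).1 hn.1,
    (mem_normalizer_iff.1 (PGroup.normalizer_le_normalizer_centralizer _ hg) n).1 hn.2⟩

end Heis

namespace Loc

variable (L : Loc G)

/-- the kernel of `φ` -/
def Kr : Subgroup G := L.φh.ker.map L.H.subtype
/-- the image under `φ` -/
def im (S : Subgroup G) : Subgroup M24 := (S.subgroupOf L.H).map L.φh

theorem card_Kr : Nat.card L.Kr = 2 ^ 13 * 3 := (card_map_of_injective (subtype_injective _)).trans L.card_ker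

variable {L}

theorem mem_Kr {g : G} : g ∈ L.Kr ↔ g ∈ L.H ∧ L.φ g = 1 :=
  ⟨by rintro ⟨g, h, rfl⟩; exact ⟨g.2, h⟩, fun h => ⟨⟨g, h.1⟩, h.2, rfl⟩⟩
theorem mem_im {S : Subgroup G} (h : S ≤ L.H) {x : M24} : x ∈ L.im S ↔ ∃ g ∈ S, L.φ g = x :=
  ⟨by rintro ⟨g, h, rfl⟩; exact ⟨g, h, rfl⟩, by rintro ⟨g, k, rfl⟩; exact ⟨⟨g, h k⟩, k, rfl⟩⟩
theorem card_im {S : Subgroup G} (h : S ≤ L.H) : Nat.card S = Nat.card ↥(L.Kr ⊓ S) * Nat.card (L.im S) :=
  card_le_ker_mul L.φh h (comap_map_eq_self_of_injective (subtype_injective _) _).symm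
theorem im_le (S : Subgroup G) : L.im S ≤ Du := by rintro _ ⟨g, -, rfl⟩; exact L.φ_du g.2
theorem φ_conj {g h : G} (hg : g ∈ L.H) (hh : h ∈ L.H) : L.φ (g * h * g⁻¹) = L.φ g * L.φ h * (L.φ g)⁻¹ := by
  rw [L.φ_mul _ (mul_mem hg hh) _ (inv_mem hg), L.φ_mul _ hg _ hh, L.φ_inv hg]

variable {p : G} (hp : L.Cd p cP)
include hp

theorem cd_P2 : L.Cd (p ^ 2) cP2 := by
  rw [sq, show cP2 = mu cP cP by decide +kernel]; exact hp.mul hp

theorem ker_K {k : G} (hk : k ∈ L.K) (e : L.φ k = 1) : ∃ i < 3, ∃ b < 2, k = p ^ i * L.z ^ b := by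
  rcases L.ker k hk e with h | h | h
  · exact ⟨0, by norm_num, by simpa using Cd.eq_zp h⟩
  · exact ⟨1, by norm_num, by simpa using hp.eq h⟩
  · exact ⟨2, by norm_num, (cd_P2 hp).eq h⟩

theorem eq_zero_of_comm {v b : ℕ} (hv : v < 4096) (h : p * (L.e v * L.z ^ b) = L.e v * L.z ^ b * p) : v = 0 := by
  have h1 := hp.act hv
  rw [mul_assoc, ← L.comm_pow hp.memH, ← mul_assoc, ← mul_assoc, mul_left_inj] at h
  rw [h, mul_inv_cancel_right] at h1
  exact (Md.P_spec hv).1 (L.e_inj (a := 0) hv (app12_lt _ _) (by simpa using h1)).1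

variable (p3 : orderOf p = 3)
include p3

theorem ker_cube {k : G} (hk : k ∈ L.K) (e : L.φ k = 1) {n : ℕ} (hn : Odd n) (h : k ^ n = 1) : ∃ i < 3, k = p ^ i := by
  obtain ⟨i, hi, b, hb, rfl⟩ := ker_K hp hk e
  refine ⟨i, hi, mul_eq_left.2 ?_⟩
  have := congrArg (· ^ 3) h
  rw [← pow_mul, Commute.mul_pow (L.comm_pow (pow_mem hp.memH i) b), ← pow_mul, mul_comm n, mul_left_comm, pow_mul, ← p3,
    pow_orderOf_eq_one, p3, one_pow, one_pow, one_mul] at this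
  obtain ⟨m, hm⟩ := Odd.mul (by decide : Odd 3) hn
  rwa [hm, pow_succ, pow_mul, sq, L.zp_sq, one_pow, one_mul] at this

theorem ker_sq {k : G} (hk : k ∈ L.K) (e : L.φ k = 1) (h : k * k = 1) : ∃ b < 2, k = L.z ^ b := by
  obtain ⟨i, hi, b, hb, rfl⟩ := ker_K hp hk e
  refine ⟨b, hb, mul_eq_right.2 ?_⟩
  rw [← sq, Commute.mul_pow (L.comm_pow (pow_mem hp.memH i) b), sq (_ ^ b), L.zp_sq, mul_one, ← pow_mul] at h
  have := p3 ▸ orderOf_dvd_of_pow_eq_one h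
  rw [show i = 0 by omega, pow_zero]

theorem conj_p {k : G} (hk : k ∈ L.K) : k * p * k⁻¹ = p ∧ L.φ k ∈ m22 ∨ k * p * k⁻¹ = p ^ 2 ∧ L.φ k ∉ m22 := by
  obtain ⟨X, h⟩ := L.exists_cd hk
  have n : app 12 (mc cP) (app 12 (mc X) 1) ≠ app 12 (mc cP2) (app 12 (mc X) 1) := fun e =>
    one_ne_zero (h.app_eq_zero (by norm_num) (hp.app_eq_zero (app12_lt _ _) ((Md.P_spec (app12_lt _ _)).1
      (e.trans (Md.P_spec (app12_lt _ _)).2.1.symm))))
  have s := h.semi (v := 1) (by norm_num)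
  have t : ∀ {q Q}, L.Cd q Q → k * p * k⁻¹ = q → app 12 (mc X) (app 12 (mc cP) 1) = app 12 (mc Q) (app 12 (mc X) 1) :=
    fun a e => by
      rw [← h.mc_mu hp, ← a.mc_mu h]
      exact (h.mul hp).app_eq (mul_inv_eq_iff_eq_mul.1 e ▸ a.mul h) (by norm_num)
  obtain ⟨i, hi, e⟩ := ker_cube hp p3 (mul_mem (mul_mem hk hp.mem) (inv_mem hk)) (n := 3)
    (by rw [φ_conj h.memH hp.memH, cube hp]; simp) (by decide) (by rw [conj_pow, ← p3, pow_orderOf_eq_one]; simp)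
  rw [← h.og_zero]
  interval_cases i
  · simp [show p = 1 by simpa using e] at p3
  · exact Or.inl ⟨by simpa using e, by_contra fun o => n ((t hp (by simpa using e)).symm.trans (by rwa [if_neg o] at s))⟩
  · exact Or.inr ⟨e, fun o => n ((by rwa [if_pos o] at s : _ = _).symm.trans (t (cd_P2 hp) e))⟩

theorem mem_K {g : G} (hg : g ∈ L.H) {i : ℕ} (h : g * p * g⁻¹ = p ^ i) : g ∈ L.K := by
  obtain ⟨v, hv, k, hk, rfl⟩ := L.dec g hg
  obtain ⟨q, hq, h1, h2⟩ : ∃ q, k * p * k⁻¹ = q ∧ q ∈ zpowers p ∧ p ∈ zpowers q := (conj_p hp p3 hk).elim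
    (fun a => ⟨_, a.1, Subgroup.mem_zpowers _, Subgroup.mem_zpowers _⟩) fun a => ⟨_, a.1, npow_mem_zpowers _ _, (2 : ℕ), by
      simp only [zpow_natCast]; rw [← pow_mul, ← pow_mod_orderOf, p3, pow_one]⟩
  have h3 : L.e v * q * (L.e v)⁻¹ = p ^ i := by rw [← hq, ← h]; group
  have h4 : L.e v * q * (L.e v)⁻¹ * q⁻¹ ∈ L.E ⊓ zpowers p := ⟨by
    simpa [mul_assoc] using mul_mem (L.e_mem_E hv) (L.conj_mem_E (zpowers_le.2 hp.memH h1) (inv_mem (L.e_mem_E hv))),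
    h3 ▸ mul_mem (npow_mem_zpowers p i) ((zpowers p).inv_mem h1)⟩
  rw [(disjoint_of_coprime_natCard (by rw [L.card_E, Nat.card_zpowers, p3]; norm_num)).eq_bot, mem_bot, mul_inv_eq_one,
    mul_inv_eq_iff_eq_mul] at h4
  obtain ⟨n, hn⟩ := h2
  rwa [eq_zero_of_comm hp (b := 0) hv (by simpa [← hn] using (Commute.zpow_right h4 n).symm.eq), L.e_zero, one_mul]

theorem mem_K0 {g : G} : g ∈ L.H ⊓ centralizer {p} ↔ g ∈ L.K ∧ L.φ g ∈ m22 := by
  rw [mem_inf, mem_centralizer_singleton_iff, ← mul_inv_eq_iff_eq_mul]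
  refine ⟨fun h => ?_, fun h => ⟨L.KH h.1, ((conj_p hp p3 h.1).resolve_right fun a => a.2 h.2).1⟩⟩
  have k := mem_K hp p3 h.1 (i := 1) (by simpa using h.2)
  refine ⟨k, ((conj_p hp p3 k).resolve_right fun a => ?_).2⟩
  simp [show p = 1 by simpa [h.2, sq] using a.1] at p3

theorem im_K0 : L.im (L.H ⊓ centralizer {p}) = m22 := by
  ext x
  rw [mem_im inf_le_left]
  refine ⟨fun ⟨g, a, b⟩ => b ▸ ((mem_K0 hp p3).1 a).2, fun h => ?_⟩
  obtain ⟨k, X, a, rfl⟩ := L.exists_φ (m22_le_Du h)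
  exact ⟨k, (mem_K0 hp p3).2 ⟨a.mem, h⟩, rfl⟩

theorem ord_zp : orderOf (p * L.z) = 6 := by
  rw [Commute.orderOf_mul_eq_mul_orderOf_of_coprime (L.comm hp.memH) (by rw [p3, L.ord]; norm_num), p3, L.ord]

theorem ker_le {S : Subgroup G} (h : S ≤ L.K) (a : p ∈ S) (b : L.z ∈ S) : L.Kr ⊓ S = zpowers (p * L.z) := by
  have c : Commute p L.z := L.comm hp.memH
  refine le_antisymm (fun g hg => ?_) (zpowers_le.2 ⟨mem_Kr.2 ⟨mul_mem hp.memH L.zH, by
    rw [L.φ_mul _ hp.memH _ L.zH, cube hp, L.φ_z, one_mul]⟩, mul_mem a b⟩)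
  obtain ⟨i, -, b, -, rfl⟩ := ker_K hp (h hg.2) (mem_Kr.1 hg.1).2
  refine ⟨(4 * i + 3 * b : ℕ), ?_⟩
  have h1 : p ^ (4 * i + 3 * b) = p ^ i := by rw [← pow_mod_orderOf, p3, ← pow_mod_orderOf p i, p3]; congr 1; omega
  have h2 : L.z ^ (4 * i + 3 * b) = L.z ^ b := by rw [← L.zp_mod, ← L.zp_mod b]; congr 1; omega
  simp only [zpow_natCast, c.mul_pow, h1, h2]

theorem card_K0 : Nat.card ↥(L.H ⊓ centralizer {p}) = 2661120 := by
  rw [card_im inf_le_left, im_K0 hp p3, card22, ker_le hp p3 (fun g h => ((mem_K0 hp p3).1 h).1)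
    ⟨hp.memH, mem_centralizer_singleton_iff.2 rfl⟩ ⟨L.zH, mem_centralizer_singleton_iff.2 (L.comm hp.memH).symm⟩,
    Nat.card_zpowers, ord_zp hp p3]

/-- Subgroups that are normalised by the centraliser of `p`. -/
theorem im_cases {N : Subgroup G} (h : N ≤ L.H ⊓ centralizer {p})
    (hn : ∀ g ∈ L.H ⊓ centralizer {p}, ∀ x ∈ N, g * x * g⁻¹ ∈ N) : (∀ x ∈ N, L.φ x = 1) ∨ m22 ≤ L.im N := by
  have h1 : N ≤ L.H := h.trans inf_le_left
  refine (le_or_bot (N := L.im N) fun y hy x hx => ?_).imp_left fun e x hx =>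
    mem_bot.1 (e.le ⟨(mem_im h1).2 ⟨x, hx, rfl⟩, ((mem_K0 hp p3).1 (h hx)).2⟩)
  obtain ⟨g, hg, rfl⟩ := (mem_im inf_le_left).1 ((im_K0 hp p3).ge hy)
  obtain ⟨x, k, rfl⟩ := (mem_im h1).1 hx
  exact (mem_im h1).2 ⟨_, hn g hg x k, φ_conj hg.1 (h1 k)⟩

end Loc

end Cfsg.Lib.J4T
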