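import Cfsg.Agent.Lib.J4T.Large

/-! # Counting conjugacy classes by a cover and lower bounds for centralisers -/

set_option autoImplicit false

namespace Cfsg.Lib.J4T

open Subgroup Cfsg.Lib.Transfer

variable {G : Type*} [Group G]

/-- The elements with `P` lie in classes whose centralisers have at least the orders `cs`. -/
def Part (P : G → Prop) (cs : List ℕ) : Prop := ∃ L : List (G × ℕ), L.map Prod.snd = cs ∧
  (∀ p ∈ L, p.2 ≤ Nat.card (centralizer {p.1})) ∧ ∀ g, P g → ∃ p ∈ L, IsConj p.1 g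

/-- The same inside the centraliser of `y`, for the solutions of `k ^ m = 1`. -/
def LocP (y : G) (m : ℕ) (cs : List ℕ) : Prop := ∃ L : List (G × ℕ), L.map Prod.snd = cs ∧
  (∀ p ∈ L, p.2 ≤ Nat.card ↥(centralizer {y} ⊓ centralizer {p.1})) ∧
    ∀ k ∈ centralizer {y}, k ^ m = 1 → ∃ p ∈ L, k ∈ Grp.cl (centralizer {y}) p.1

/-- `g` is the product of a conjugate of `y` and a commuting solution of `k ^ m = 1` -/
def Spl (y : G) (m : ℕ) (g : G) : Prop := ∃ u k, IsConj y u ∧ Commute u k ∧ k ^ m = 1 ∧ g = u * k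

theorem Part.or {P Q : G → Prop} {a b : List ℕ} (h : Part P a) (h' : Part Q b) : Part (fun g => P g ∨ Q g) (a ++ b) := by
  obtain ⟨L, rfl, a2, a3⟩ := h
  obtain ⟨L', rfl, b2, b3⟩ := h'
  refine ⟨L ++ L', List.map_append, List.forall_mem_append.2 ⟨a2, b2⟩, fun g hg => ?_⟩
  rcases hg with k | k
  · exact (a3 g k).imp fun p e => ⟨List.mem_append_left _ e.1, e.2⟩
  · exact (b3 g k).imp fun p e => ⟨List.mem_append_right _ e.1, e.2⟩

theorem Part.card [Finite G] {P : G → Prop} {cs : List ℕ} (h : Part P cs) (hP : ∀ g, P g) (h0 : ∀ c ∈ cs, 0 < c)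
    (hs : (cs.map (Nat.card G / ·)).sum ≤ Nat.card G) : Nat.card (ConjClasses G) = cs.length := by
  classical
  obtain ⟨L, rfl, a2, a3⟩ := h
  have := Fintype.ofFinite G
  set M := L.map fun p => ConjClasses.mk p.1 with hM
  have h1 : M.toFinset = Finset.univ := Finset.eq_univ_iff_forall.2 fun K => by
    obtain ⟨g, rfl⟩ := ConjClasses.mk_surjective K
    obtain ⟨p, hp, e⟩ := a3 g (hP g)
    exact List.mem_toFinset.2 (List.mem_map.2 ⟨p, hp, ConjClasses.mk_eq_mk_iff_isConj.2 e⟩)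
  have h2 : (M.map fun K => K.carrier.ncard).sum ≤ ∑ K : ConjClasses G, K.carrier.ncard := by
    have e : ∑ K : ConjClasses G, K.carrier.ncard = Nat.card G := by
      rw [Nat.card_eq_fintype_card, ← sum_conjClasses_card_eq_card G]
      exact Finset.sum_congr rfl fun K _ => Set.ncard_eq_toFinset_card' _
    rw [e, hM, List.map_map]
    refine le_trans ?_ hs
    rw [List.map_map]
    refine List.sum_le_sum fun p hp => ?_
    have k := Grp.ncard_cl_mul ⊤ p.1
    rw [top_inf_eq, card_top, show Grp.cl ⊤ p.1 = (ConjClasses.mk p.1).carrier from Set.ext fun g => by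
      rw [ConjClasses.mem_carrier_iff_mk_eq, ConjClasses.mk_eq_mk_iff_isConj, isConj_comm]; simp [Grp.cl]] at k
    exact (Nat.le_div_iff_mul_le (h0 _ (List.mem_map_of_mem hp))).2 (k ▸ Nat.mul_le_mul_left _ (a2 p hp))
  rw [Finset.sum_list_map_count, h1] at h2
  have h3 : ∀ K, 1 ≤ M.count K := fun K => List.count_pos_iff.2 (List.mem_toFinset.1 (h1 ▸ Finset.mem_univ K))
  have h4 : ∀ K, M.count K = 1 := fun K => by
    have := (Finset.sum_eq_sum_iff_of_le (s := Finset.univ) fun K _ => show K.carrier.ncard ≤ M.count K • K.carrier.ncard from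
      Nat.le_mul_of_pos_left _ (h3 K)).1 (le_antisymm (Finset.sum_le_sum fun K _ => Nat.le_mul_of_pos_left _ (h3 K)) h2) K
      (Finset.mem_univ K)
    obtain ⟨g, rfl⟩ := ConjClasses.mk_surjective K
    have k : 0 < (ConjClasses.mk g).carrier.ncard := (Set.ncard_pos).2 ⟨g, ConjClasses.mem_carrier_mk⟩
    rw [smul_eq_mul] at this
    exact Nat.eq_of_mul_eq_mul_right k (by omega)
  rw [List.length_map, ← List.length_map (f := fun p : G × ℕ => ConjClasses.mk p.1), ← hM,
    ← List.sum_toFinset_count_eq_length, h1]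
  simp [h4]

theorem LocP.part [Finite G] {y : G} {m : ℕ} {cs : List ℕ} (h : LocP y m cs) : Part (Spl y m) cs := by
  obtain ⟨L, rfl, a2, a3⟩ := h
  refine ⟨L.map fun p => (y * p.1, p.2), by simp, List.forall_mem_map.2 fun p hp => (a2 p hp).trans (card_le_of_le
    fun g hg => mem_centralizer_singleton_iff.2 (Commute.mul_right (mem_centralizer_singleton_iff.1 hg.1)
      (mem_centralizer_singleton_iff.1 hg.2))), ?_⟩
  rintro _ ⟨u, k, h1, h2, h3, rfl⟩
  obtain ⟨a, rfl⟩ := isConj_iff.1 h1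
  obtain ⟨p, hp, c, hc, e⟩ := a3 (a⁻¹ * k * a) (mem_centralizer_singleton_iff.2 (by
    have := congrArg (fun t => a⁻¹ * t * a) h2.eq
    simpa [mul_assoc] using this.symm)) (by simpa using (conj_pow (a := a⁻¹) (b := k) (i := m)).trans (by simp [h3]))
  refine ⟨_, List.mem_map_of_mem hp, isConj_iff.2 ⟨a * c, ?_⟩⟩
  rw [show k = a * (c * p.1 * c⁻¹) * a⁻¹ by rw [e]; group]
  calc _ = a * (c * y) * p.1 * c⁻¹ * a⁻¹ := by group
    _ = _ := by rw [mem_centralizer_singleton_iff.1 hc]; group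

theorem exists_spl {g : G} {p m : ℕ} (hp : p.Prime) (hm : ¬p ∣ m) (h : g ^ (p * m) = 1) (h' : g ^ m ≠ 1) :
    ∃ u, orderOf u = p ∧ Spl u m g := by
  have := Fact.mk hp
  obtain ⟨a, -, e⟩ := Nat.exists_mul_mod_eq_one_of_coprime ((Nat.coprime_comm.1 (hp.coprime_iff_not_dvd.2 hm))) hp.one_lt
  have k : ((g ^ (m * a))⁻¹ * g) ^ m = 1 := by
    rw [(Commute.self_pow g _).symm.inv_left.mul_pow, inv_pow, ← pow_mul, ← Nat.div_add_mod (m * a) p, e, add_mul, pow_add,
      mul_right_comm, pow_mul, h]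
    simp
  refine ⟨g ^ (m * a), orderOf_eq_prime (by rw [← pow_mul, mul_comm, ← mul_assoc, pow_mul, h, one_pow]) fun e => h' ?_,
    _, _, .refl _, (Commute.refl _).inv_right.mul_right (Commute.self_pow g _).symm, k, by group⟩
  simpa [e] using k

theorem Spl.conj {y u g : G} {m : ℕ} (h : Spl u m g) (e : IsConj y u) : Spl y m g :=
  let ⟨a, b, c, d⟩ := h; ⟨a, b, e.trans c, d⟩

theorem cover_list [Finite G] {N : Subgroup G} {e : ℕ} {B : Set G} {x : G} (hx : x ∈ B)
    (h : ∀ b ∈ B, e ≤ (Grp.cl N b).ncard) (n : ℕ) : ∀ A ⊆ B, (∀ a ∈ A, Grp.cl N a ⊆ A) → A.ncard < n * e + e →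
      ∃ L : List G, L.length = n ∧ (∀ b ∈ L, b ∈ B) ∧ ∀ a ∈ A, ∃ b ∈ L, IsConj b a := by
  induction n with
  | zero => exact fun A a b c => ⟨[], rfl, by simp, fun t ht =>
      absurd ((h t (a ht)).trans (Set.ncard_le_ncard (b t ht))) (by omega)⟩
  | succ n ih =>
    intro A a b c
    rcases A.eq_empty_or_nonempty with rfl | ⟨t, ht⟩
    · exact ⟨List.replicate _ x, List.length_replicate, fun _ k => List.eq_of_mem_replicate k ▸ hx, by simp⟩
    obtain ⟨L, l1, l2, l3⟩ := ih (A \ Grp.cl N t) (Set.sdiff_subset.trans a)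
      (fun s hs u hu => ⟨b s hs.1 hu, fun k => hs.2 (Grp.cl_trans k (Grp.cl_symm hu))⟩) (by
        have := Set.ncard_sdiff_add_ncard_of_subset (b t ht)
        have := h t (a ht)
        rw [add_mul] at c; omega)
    refine ⟨t :: L, by simp [l1], List.forall_mem_cons.2 ⟨a ht, l2⟩, fun s hs => ?_⟩
    by_cases k : s ∈ Grp.cl N t
    · exact ⟨t, by simp, (isConj_of_cl k).symm⟩
    · exact (l3 s ⟨hs, k⟩).imp fun _ e => ⟨List.mem_cons_of_mem _ e.1, e.2⟩

theorem part_large [Finite G] {p e n : ℕ} (hp : p.Prime) (h1 : p ∣ Nat.card G) (h2 : ¬p ^ 2 ∣ Nat.card G)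
    (h : ∀ x : G, orderOf x = p → Nat.card (centralizer {x}) = p ∧
      Nat.card (normalizer (zpowers x : Set G)) = p * e) (hn : p - 1 < n * e + e) :
    Part (fun g : G => p ∣ orderOf g) (List.replicate n p) := by
  have := Fact.mk hp
  obtain ⟨x, hx⟩ := exists_prime_orderOf_dvd_card' p h1
  have hZ : Nat.card (zpowers x) = p := by rw [Nat.card_zpowers, hx]
  have o : ∀ b ∈ (zpowers x : Set G) \ (⊥ : Subgroup G), orderOf b = p := fun b hb =>
    ((Nat.dvd_prime hp).1 (hZ ▸ orderOf_dvd_natCard _ hb.1)).resolve_left fun k => hb.2 (orderOf_eq_one_iff.1 k)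
  have x1 : x ∈ (zpowers x : Set G) \ (⊥ : Subgroup G) :=
    ⟨mem_zpowers x, fun k => hp.ne_one (hx.symm.trans (orderOf_eq_one_iff.2 k))⟩
  obtain ⟨L, rfl, l2, l3⟩ := cover_list (N := normalizer (zpowers x : Set G)) (e := e) x1 (fun b hb => by
    have k := Grp.ncard_cl_mul (normalizer (zpowers x : Set G)) b
    have k' := (card_le_of_le (inf_le_right (a := normalizer (zpowers x : Set G)))).trans (h b (o b hb)).1.le
    rw [(h x hx).2, mul_comm p] at k
    exact Nat.le_of_mul_le_mul_right (k ▸ Nat.mul_le_mul_left _ k') hp.pos) n _ subset_rfl (by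
      rintro a ha _ ⟨k, hk, rfl⟩
      exact ⟨(mem_normalizer_iff.1 hk a).1 ha.1, fun e => ha.2 (conj_eq_one_iff.1 (mem_bot.1 e))⟩)
    (by rwa [ncard_diff_sub bot_le, hZ, card_bot])
  refine ⟨L.map (·, p), by simp [Function.comp_def], List.forall_mem_map.2 fun b hb => (h b (o b (l2 b hb))).1.ge,
    fun g hg => ?_⟩
  have k := orderOf_pow_orderOf_div (orderOf_pos g).ne' hg
  have k2 : orderOf g = p := ((Nat.dvd_prime hp).1 ((h _ k).1 ▸ orderOf_dvd_natCard _
    (mem_centralizer_singleton_iff.2 (Commute.self_pow g _)))).resolve_left fun e => hp.ne_one (Nat.dvd_one.1 (e ▸ hg))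
  obtain ⟨a, -, ha⟩ := conj_zp (N := ⊤) (by rwa [card_top]) trivial trivial k2 hx
  obtain ⟨b, hb, e⟩ := l3 (a * g * a⁻¹) ⟨ha ▸ mem_zpowers _, fun e => hp.ne_one
    (k2.symm.trans (orderOf_eq_one_iff.2 (conj_eq_one_iff.1 (mem_bot.1 e))))⟩
  exact ⟨_, List.mem_map_of_mem hb, e.trans (isConj_iff.2 ⟨a, rfl⟩).symm⟩

theorem sq_dvd_cen [Finite G] {p : ℕ} (hp : p.Prime) (h : p ^ 2 ∣ Nat.card G) {x : G} (hx : orderOf x = p) :
    p ^ 2 ∣ Nat.card (centralizer {x}) := by
  have := Fact.mk hp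
  have k := (Sylow.prime_pow_dvd_card_normalizer (n := 1) h (H := zpowers x) (by rw [Nat.card_zpowers, hx, pow_one])).trans
    (top_inf_eq (normalizer (zpowers x : Set G)) ▸ card_norm_dvd ⊤ x)
  rw [top_inf_eq, hx, Nat.totient_prime hp] at k
  exact (Nat.Coprime.pow_left 2 ((Nat.coprime_self_sub_right hp.one_le).2 (Nat.coprime_one_right p))).dvd_of_dvd_mul_right k

theorem not_sq_dvd [Finite G] {p n : ℕ} (hp : p.Prime) {U : Subgroup G} (hU : Nat.card U = p ^ n)
    (h : ¬p ^ (n + 1) ∣ Nat.card G) (e : ∀ u ∈ U, u ^ p = 1) (g : G) : ¬p ^ 2 ∣ orderOf g := fun k => by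
  have := Fact.mk hp
  have o := orderOf_pow_orderOf_div (orderOf_pos g).ne' k
  obtain ⟨a, -, ha⟩ := conj_le_of_card (le_top : U ≤ ⊤) hU (by rwa [card_top]) (le_top : zpowers _ ≤ ⊤)
    (IsPGroup.of_card (n := 2) (by rw [Nat.card_zpowers, o]))
  have := orderOf_dvd_of_pow_eq_one (e _ (conj_le_iff.1 ha _ (mem_zpowers _)))
  rw [Mathieu.orderOf_conj', o] at this
  exact absurd (Nat.le_of_dvd hp.pos this) (by have := hp.one_lt; nlinarith)

end Cfsg.Lib.J4T
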