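import Cfsg.Agent.Lib.J4T.TenD

/-! # The self-centralising subgroups of order `2^10` of J₄ -/

set_option autoImplicit false
set_option maxRecDepth 100000
set_option exponentiation.threshold 5000

namespace Cfsg.Lib.J4T

open Cfsg.Lib.Calc Cfsg.Lib.F2 Cfsg.Lib.Mathieu Cfsg.Lib.Big Cfsg.Lib.J4 Subgroup Cfsg.Lib.Transfer
open Cfsg.Lib.Golay (pc cntB)
open scoped Pointwise

theorem unsalt_salt (x : ℕ) : unsalt (salt x) = x := by
  have : x % 4294967291 < 2 ^ 32 := (Nat.mod_lt _ (by decide)).trans (by decide)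
  change (x <<< 32 + x % 4294967291) >>> 32 = x
  rw [Nat.shiftLeft_eq, Nat.shiftRight_eq_div_pow]
  omega

theorem rcS_eq (n : ℕ) (cm fx : ℕ → ℕ) (test : ℕ → ℕ → Bool) (d : ℕ) :
    ∀ C F, rcS n cm fx test d (salt C) (salt F) = rc n cm fx test d C F := by
  induction d with
  | zero => exact fun C F => congrArg₂ test (unsalt_salt C) (unsalt_salt F)
  | succ d ih =>
    intro C F
    change bor _ (forceB _ fun C' => band _ (allLt n fun l => bor _ (forceB _ fun C2 => forceB _ fun F2 =>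
      rcS n cm fx test d C2 F2))) = bor _ (forceB _ fun C' => band _ (allLt n fun l => bor _ (forceB _ fun C2 =>
        forceB _ fun F2 => rc n cm fx test d C2 F2)))
    simp only [forceB_eq, unsalt_salt, ih]

theorem card_le_pcN {C k : ℕ} {S : Finset ℕ} (h : ∀ l ∈ S, l < 24 * k ∧ C.testBit l = true) : S.card ≤ pcN C k := by
  have : pcN C k = cntB (24 * k) (Golay.bit C) := by
    clear h
    induction k with
    | zero => rfl
    | succ k ih =>
      rw [Nat.mul_succ, Golay.cntB_add, ← ih]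
      exact congrArg (pcN C k + ·) ((Golay.pc_eq _).trans
        (Golay.cntB_congr fun i _ => by simp [Golay.bit_eq, Nat.testBit_shiftRight]))
  rw [this, Golay.cntB_eq]
  exact Finset.card_le_card fun l hl => by simpa [Golay.bit_eq] using h l hl

theorem app_N12 (c : ℕ) {v : ℕ} (hv : v < 2048) : app 12 (N12 c) v = app 11 (NM c) v := by
  have : ∀ m ≤ 11, appA 12 (N12 c) v m = appA 11 (NM c) v m := fun m hm => by
    induction m with
    | zero => rfl
    | succ m ih =>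
      rw [appA_succ, appA_succ, ih (by omega), N12, NM, get_pack (w := 11) (fun _ _ => lin_lt _) hm,
        get_pack (w := 12) (fun _ _ => (lin_lt _).trans (by decide)) hm]
  rw [app, appA_succ, this 11 le_rfl, if_neg (by rw [Nat.testBit_lt_two_pow hv]; decide), Nat.zero_xor, app]

theorem testBit_FXT {l v : ℕ} (hl : l < 191) (hv : v < 2048) (h : app 11 (NM (IL l)) v = v) :
    (Calc.get 2048 FXT l).testBit v = true := by
  have k : msk 2048 < 2 ^ 2048 := by rw [msk_eq]; exact Nat.sub_lt (Nat.two_pow_pos _) one_pos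
  rw [FXT, forceN_eq, forceN_eq, get_pack (fun _ _ => by exact Nat.and_le_right.trans_lt k) hl, Nat.land_eq, Nat.testBit_and,
    ← IL, testBit_fixm (by omega) ((app_N12 _ hv).trans h), msk_eq, Nat.testBit_two_pow_sub_one]
  simpa

theorem testBit_CMT {l l' : ℕ} (hl : l < 191) (hl' : l' < 191) {g h : M24} (a : R g (IL l)) (b : R h (IL l'))
    (e : g * h = h * g) : (Calc.get 191 CMT l).testBit l' = true := by
  have := cm_chk
  simp only [forceB_eq, allLt_iff, bor_eq_true, bit_eq] at this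
  refine (this l hl l' hl').resolve_right ?_
  rw [Bool.not_eq_true', Bool.not_eq_false]
  exact allLt_iff.2 fun i hi => beq_iff.2 ((get_mulT a b hi).symm.trans
    ((congrArg (Calc.get 5 · i) (((a.mulT b).eq_iff (b.mulT a)).1 e)).trans (get_mulT b a hi)))

theorem wv_lt (u : ℕ) : wv u < 2048 := appA_lt _ _ _ _
theorem wv_xor (a b : ℕ) : wv (a ^^^ b) = wv a ^^^ wv b := appA_xor _ _ _ _ _
theorem wq_lt (j : ℕ) : wq j < 2048 := Nat.xor_lt_two_pow (n := 11) (app_lt _ _ _) (by decide)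

theorem Q_spec {d : ℕ} (hd : d < 16) : R (Mathieu.mk (QC d)) (QC d) ∧ (QC d = id24 → d = 0) ∧
    (∀ u < 64, app 11 (NM (QC d)) (wv u) = wv u) ∧ ∀ e < 16, mulT (QC d) (QC e) = QC (d ^^^ e) := by
  have := allLt_iff.1 Q_chk d hd
  simp only [forceB_eq, band_eq_true, allLt_iff, bor_eq_true, beq_iff] at this
  exact ⟨mk_rep this.1.1, fun e => this.1.2.resolve_right fun k => ne_of_not_beq k e, this.2⟩

theorem q_spec {j : ℕ} (hj : j < 4) : (ltW 2 (tQ j) = true ∧ ltW 3 (tQ j) = true) ∧ pW (tQ j) = QC (2 ^ j) ∧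
    (∀ c < 2048, app 11 (NM (QC (2 ^ j))) c = c → (∃ u < 64, wv u = c) ∨ ∃ u < 64, wv u = c ^^^ wq j) ∧
      ∀ i < 4, i ≠ j → app 11 (NM (QC (2 ^ j))) (wq i) ≠ wq i := by
  have := allLt_iff.1 q_chk j hj
  have w := (band_eq_true.1 W0_chk).1
  simp only [forceB_eq, band_eq_true, allLt_iff, allBig_iff, bor_eq_true, beq_iff, anyLt_iff, Bool.not_eq_true'] at this w
  exact ⟨this.1.1, this.1.2, fun c hc e => ((this.2.1 c hc).resolve_left (by simp [e])).imp
    (fun k => (w c hc).resolve_left (by simp [k])) fun k => (w _ (Nat.xor_lt_two_pow (n := 11) hc (wq_lt j))).resolve_left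
      (by simp [k]), fun i hi k e => by simpa [e] using (this.2.2 i hi).resolve_left k⟩

theorem card_O1 : Nat.card ↥(MulAction.stabilizer M24 (Golay.G.toF O1) ⊓ MulAction.stabilizer M24 (Golay.G.toF 6)) ≤
    11520 := by
  have h1 : 28 ≤ (MulAction.orbit (MulAction.stabilizer M24 (Golay.G.toF O1)) (Golay.G.toF 6)).ncard := orbM_le _
    (gs := [444390784806996008483154101686346221, 669055470832474200700587951116225109]) (D := 0) (p := 1) (q := 97)
    (r := 97) (chk := fun _ => true) (fuel := 100) (fun c h => by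
      have := (by decide +kernel : ∀ c ∈ [444390784806996008483154101686346221, 669055470832474200700587951116225109],
        okM c = true ∧ img c O1 = O1) c h
      exact ⟨_, ((mk_rep this.1).mem_stab_set (by decide)).2 this.2, mk_rep this.1⟩) (by decide) (by decide)
    (by decide +kernel)
  have h2 := card_eq_orbit_mul (MulAction.stabilizer M24 (Golay.G.toF O1)) (Golay.G.toF 6)
  rw [card_stabilizer_octad (Golay.mem_octads_of_isOct (by decide +kernel))] at h2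
  have := Nat.mul_le_mul_right (Nat.card ↥(MulAction.stabilizer M24 (Golay.G.toF O1) ⊓
    MulAction.stabilizer M24 (Golay.G.toF 6))) h1
  omega

variable {G : Type*} [Group G]

namespace Mod

variable {J : Mod G}

theorem R_sec {f : ℕ → G} {B : ℕ → ℕ} (hx : ∀ a b, f (a ^^^ b) = f a * f b) {n : ℕ} (hb : ∀ i < n, J.R (f (2 ^ i)) (B i)) :
    ∀ c < 2 ^ n, J.R (f c) (secC eM.one B n c) := by
  induction n with
  | zero =>
    intro c hc
    rw [Nat.lt_one_iff.1 hc, show f 0 = 1 by simpa using hx 0 0]; exact J.one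
  | succ n ih =>
    intro c hc
    have ih := ih fun i hi => hb i (by omega)
    change J.R _ (cnd _ _ _)
    obtain h | ⟨u, h, rfl⟩ := Md.split_lt hc
    · rw [blt_iff.2 h]; exact ih c h
    · rw [Bool.eq_false_iff.2 (mt blt_iff.1 (Md.not_xor_lt h)), cnd_false, forceN_eq, forceN_eq, forceN_eq,
        Nat.xor_xor_cancel_right, hx]
      induction ff u (2 ^ n) with
      | zero => exact mul (ih u h) (hb n (by omega))
      | succ k e =>
        rw [show ∀ X, J4T.mz eM.one (k + 1) X = eM.mul (J4T.mz eM.one k X) eM.one from fun X =>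
          forceN_eq (J4T.mz eM.one k X) fun x => eM.mul x eM.one, ← mul_one (f u * _)]
        exact mul e J.one

variable (J)

theorem sec : J.Sec J.Λ := fun m => ⟨J.ΛM m, J.ρΛ m⟩

theorem T_le_M : J.T ≤ J.M := have := J.fin; J.hM ▸ J.T_le_norm

theorem inv_T {g : G} (hg : g ∈ J.T) (h : g * g = 1) : ∃ l < 192, Mathieu.R (J.ρ g) (IL l) := by
  have := J.fin
  have h1 := card_le_ker_mul J.ρh J.T_le_M J.ker_ρh
  rw [inf_eq_left.2 J.V_le_T, J.card_V, J.card_T] at h1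
  have e := inv_chk
  rw [Grp.forceL_eq, forceB_eq] at e
  obtain ⟨S, h2, h3⟩ := orb_spec (dec := Mathieu.mk) (good := fun c => ∃ x ∈ (J.T.subgroupOf J.M).map J.ρh, Mathieu.R x c)
    (fun c d ⟨x, _, a⟩ ⟨y, _, b⟩ k => by rw [(a.eq_iff b).1 (a.mk_eq.symm.trans (k.trans b.mk_eq))])
    (fun l hl c ⟨x, a, b⟩ => by
      have t := allLt_iff.1 tS_chk l hl
      simp only [band_eq_true, blt_iff] at t
      obtain ⟨⟨⟨t1, t2⟩, t3, t4⟩, ⟨t5, t6⟩, t7⟩ := t
      have k := (J.Λ_ev t1).trans (eq (J.ev t2) (J.Rh _ _ _) t7)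
      refine ⟨_, mul_mem ⟨⟨_, J.ΛM _⟩, J.mem_T.2 ⟨_, t3, _, t4, _, beq_iff.1 t6 ▸ (J.cdw t5).mul_zp _,
        k.trans (mul_assoc _ _ _)⟩, J.ρΛ _⟩ a, Mathieu.R.mulT ?_ b⟩
      rw [← List.append_nil (List.map _ _), nth_lt _ _ hl]
      exact R_pW t1) ⟨1, one_mem _, R.one⟩ (by decide) e
  have h4 : (S : Set M24) = (J.T.subgroupOf J.M).map J.ρh := Set.eq_of_subset_of_ncard_le (fun y hy => by
    obtain ⟨c, ⟨x, a, b⟩, -, rfl⟩ := h3 y hy
    exact b.mk_eq ▸ a) (by rw [Set.ncard_coe_finset, h2]; change Nat.card ↥((J.T.subgroupOf J.M).map J.ρh) ≤ _; omega)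
  have m := J.T_le_M hg
  obtain ⟨c, ⟨x, -, b⟩, k, e⟩ := h3 (J.ρ g) (h4.ge ⟨⟨g, m⟩, hg, rfl⟩)
  obtain rfl : x = J.ρ g := b.mk_eq.symm.trans e
  obtain ⟨l, hl, k⟩ := anyLt_iff.1 ((bor_eq_true.1 k).resolve_left fun k => ne_of_not_beq k
    ((b.mulT b).eq_one_iff.1 (by rw [← J.ρ_mul _ m _ m, h, J.ρ_one])))
  exact ⟨l, hl, (show IL l = c from beq_iff.1 k) ▸ b⟩

/-- the group of the octad -/
noncomputable def q (d : ℕ) : G := J.Λ (Mathieu.mk (QC d))

theorem q_act {d : ℕ} (hd : d < 16) : J.Act (J.q d) (NM (QC d)) := J.sec.act (Q_spec hd).1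

theorem q_xor {d e : ℕ} (hd : d < 16) (he : e < 16) : J.q (d ^^^ e) = J.q d * J.q e := by
  rw [q, ← (Q_spec hd).2.2.2 e he, ((Q_spec hd).1.mulT (Q_spec he).1).mk_eq, map_mul]; rfl

theorem q_zero : J.q 0 = 1 := by simpa using J.q_xor (d := 0) (e := 0) (by decide) (by decide)

theorem q_sq {d : ℕ} (hd : d < 16) : J.q d * J.q d = 1 := by rw [← J.q_xor hd hd, Nat.xor_self, J.q_zero]

theorem q_vv {d c : ℕ} (hd : d < 16) (hc : c < 2048) : J.q d * J.vv c = J.vv (app 11 (NM (QC d)) c) * J.q d :=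
  mul_inv_eq_iff_eq_mul.1 (J.q_act hd c hc)

/-- the elements of `2^10` -/
noncomputable def a (c : ℕ) : G := J.vv (wv (c % 64)) * J.q (c / 64 % 16)

theorem a_xor (c d : ℕ) : J.a (c ^^^ d) = J.a c * J.a d := by
  have h : ∀ c, c / 64 % 16 < 16 := fun c => Nat.mod_lt _ (by decide)
  rw [a, a, a, Nat.xor_mod_two_pow (n := 6), Nat.xor_div_two_pow (n := 6), Nat.xor_mod_two_pow (n := 4), wv_xor, J.vv_xor,
    J.q_xor (h c) (h d), mul_assoc, mul_assoc, ← mul_assoc (J.q _), J.q_vv (h c) (wv_lt _),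
    (Q_spec (h c)).2.2.1 _ (Nat.mod_lt _ (by decide)), mul_assoc]

theorem a_lt {u : ℕ} (h : u < 64) : J.a u = J.vv (wv u) := by
  rw [a, Nat.mod_eq_of_lt h, Nat.div_eq_of_lt h, Nat.zero_mod, J.q_zero, mul_one]

theorem a_zero : J.a 0 = 1 := by simpa using J.a_xor 0 0

theorem a_mul {d : ℕ} (h : d < 16) : J.a (64 * d) = J.q d := by
  rw [a, Nat.mul_mod_right, Nat.mul_div_cancel_left _ (by decide), Nat.mod_eq_of_lt h, ← J.a_lt (by decide), J.a_zero,
    one_mul]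

theorem ρ_a (c : ℕ) : J.a c ∈ J.M ∧ J.ρ (J.a c) = Mathieu.mk (QC (c / 64 % 16)) := by
  have h := J.vv_mem (wv_lt (c % 64))
  exact ⟨mul_mem (J.VM h) (J.ΛM _), by rw [a, q, J.ρ_mul _ (J.VM h) _ (J.ΛM _), J.ρ_V h, one_mul, J.ρΛ]⟩

theorem a_V {c : ℕ} (hc : c < 1024) (h : J.a c ∈ J.V) : c < 64 := by
  have k := Q_spec (Nat.mod_lt (c / 64) (by decide))
  have := k.2.1 (k.1.eq_one_iff.1 ((J.ρ_a c).2.symm.trans (J.ρ_V h)))
  omega

theorem a_inj {c d : ℕ} (hc : c < 1024) (hd : d < 1024) (h : J.a c = J.a d) : c = d := by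
  have e : J.a (c ^^^ d) = 1 := by rw [J.a_xor, h, ← J.a_xor, Nat.xor_self, J.a_zero]
  have k := J.a_V (Nat.xor_lt_two_pow (n := 10) hc hd) (e ▸ one_mem _)
  have := allLt_iff.1 (band_eq_true.1 (band_eq_true.1 W0_chk).2).1 _ k
  rw [J.vv_eq_one (wv_lt _) ((J.a_lt k).symm.trans e), band_eq_true, bor_eq_true, beq_iff] at this
  exact Nat.xor_eq_zero_iff.1 (this.2.resolve_right (by decide))

/-- the self-centralising `2^10` -/
noncomputable def A0 : Subgroup G :=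
  have := J.fin
  subOf (fun g => ∃ c < 1024, g = J.a c) ⟨0, by decide, J.a_zero.symm⟩ (by
    rintro _ _ ⟨c, hc, rfl⟩ ⟨d, hd, rfl⟩
    exact ⟨_, Nat.xor_lt_two_pow (n := 10) hc hd, (J.a_xor c d).symm⟩)

theorem mem_A0 {g : G} : g ∈ J.A0 ↔ ∃ c < 1024, g = J.a c := Iff.rfl

theorem card_A0 : Nat.card J.A0 = 2 ^ 10 := by
  refine (Nat.card_eq_of_bijective (fun t : Fin 1024 => (⟨_, t, t.2, rfl⟩ : J.A0))
    ⟨fun a b e => Fin.ext (J.a_inj a.2 b.2 (congrArg Subtype.val e)), ?_⟩).symm.trans (by simp)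
  rintro ⟨_, v, hv, rfl⟩
  exact ⟨⟨v, hv⟩, rfl⟩

theorem ea_A0 : IsElementaryAbelian 2 J.A0 := by
  refine ⟨PGroup.isMulCommutative_iff.2 ?_, ?_⟩
  · rintro _ ⟨c, -, rfl⟩ _ ⟨d, -, rfl⟩
    rw [← J.a_xor, Nat.xor_comm, J.a_xor]
  · rintro _ ⟨c, -, rfl⟩
    rw [sq, ← J.a_xor, Nat.xor_self, J.a_zero]

theorem A0_le {S : Subgroup G} (h : ∀ u < 64, J.vv (wv u) ∈ S) (h' : ∀ j < 4, J.q (2 ^ j) ∈ S) : J.A0 ≤ S := by
  rintro _ ⟨c, -, rfl⟩
  exact mul_mem (h _ (Nat.mod_lt _ (by decide))) (bit_ind (n := 4) (P := fun d => J.q d ∈ S) (J.q_zero ▸ one_mem _)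
    (fun a ha b hb x y => J.q_xor ha hb ▸ mul_mem x y) h' _ (Nat.mod_lt _ (by decide)))

theorem conj_q {j : ℕ} (hj : j < 4) : J.vv 64 * J.q (2 ^ j) * (J.vv 64)⁻¹ = J.vv (wq j) * J.q (2 ^ j) := by
  rw [J.vv_inv, mul_assoc, J.q_vv (Nat.pow_lt_pow_right (n := 4) (by decide) hj) (by decide), ← mul_assoc, ← J.vv_xor,
    Nat.xor_comm, wq]

theorem ncomm_q {i j : ℕ} (hi : i < 4) (hj : j < 4) (h : i ≠ j) : J.q (2 ^ j) * J.vv (wq i) ≠ J.vv (wq i) * J.q (2 ^ j) :=
  fun e => (q_spec hj).2.2.2 i hi h (J.vv_inj (app_lt _ _ _) (wq_lt i) (mul_right_cancel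
    ((J.q_vv (Nat.pow_lt_pow_right (n := 4) (by decide) hj) (wq_lt i)).symm.trans e)))

theorem le_of_lift {A : Subgroup G} (hA : A ≤ J.M) (he : IsElementaryAbelian 2 A) (h1 : ∀ u < 64, J.vv (wv u) ∈ A)
    (h2 : ∀ j < 4, ∃ x ∈ A, Mathieu.R (J.ρ x) (QC (2 ^ j))) : J.A0 ≤ A ∨ J.vv 64 ⋆ J.A0 ≤ A := by
  have hm : ∀ x ∈ A, ∀ y ∈ A, x * y = y * x := PGroup.isMulCommutative_iff.1 he.1
  have p : ∀ {j}, j < 4 → 2 ^ j < 16 := Nat.pow_lt_pow_right (n := 4) (by decide)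
  have h3 : ∀ j < 4, J.q (2 ^ j) ∈ A ∨ J.vv (wq j) * J.q (2 ^ j) ∈ A := fun j hj => by
    obtain ⟨x, a, b⟩ := h2 j hj
    obtain ⟨c, hc, e⟩ := J.sec.dec (hA a)
    rw [← b.mk_eq] at e
    change x = J.q _ * _ at e
    have k := he.2 x a
    rw [sq, e, ← mul_assoc, J.q_vv (p hj) hc, mul_assoc (J.vv _), J.q_sq (p hj), mul_one, ← J.vv_xor] at k
    have k := Nat.xor_eq_zero_iff.1 (J.vv_eq_one (Nat.xor_lt_two_pow (n := 11) (app_lt _ _ _) hc) k)
    rw [J.q_vv (p hj) hc, k] at e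
    refine ((q_spec hj).2.2.1 c hc k).imp ?_ ?_ <;> rintro ⟨u, hu, t⟩ <;> have := mul_mem (h1 u hu) a
    · rwa [t, e, ← mul_assoc, J.vv_sq, one_mul] at this
    · rwa [t, e, ← mul_assoc, ← J.vv_xor, Nat.xor_comm c, Nat.xor_xor_cancel_right] at this
  have h4 : ∀ i < 4, ∀ j < 4, J.q (2 ^ j) ∈ A → J.vv (wq i) * J.q (2 ^ i) ∈ A → i = j := fun i hi j hj a b =>
    by_contra fun k => J.ncomm_q hi hj k (mul_right_cancel (b := J.q (2 ^ i)) (by
      rw [mul_assoc, hm _ a _ b, mul_assoc, mul_assoc, ← J.q_xor (p hi) (p hj), ← J.q_xor (p hj) (p hi), Nat.xor_comm]))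
  by_cases k : ∀ j < 4, J.q (2 ^ j) ∈ A
  · exact Or.inl (J.A0_le h1 k)
  · push Not at k
    obtain ⟨i, hi, k⟩ := k
    refine Or.inr (conj_le_iff_le_inv_conj.2 (J.A0_le (fun u hu => ?_) fun j hj => ?_)) <;> rw [mem_conj, inv_inv]
    · rw [J.vv_comm, mul_inv_cancel_right]; exact h1 u hu
    · exact J.conj_q hj ▸ (h3 j hj).resolve_left fun e => k (h4 i hi j hj e ((h3 i hi).resolve_left k) ▸ e)

theorem ten_T {A : Subgroup G} (hA : A ≤ J.T) (he : IsElementaryAbelian 2 A) (hc : 2 ^ 10 ≤ Nat.card A) :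
    A ≤ J.V ∨ J.A0 ≤ A ∨ J.vv 64 ⋆ J.A0 ≤ A := by
  classical
  have := J.fin
  have hm : ∀ x ∈ A, ∀ y ∈ A, x * y = y * x := PGroup.isMulCommutative_iff.1 he.1
  have hM := hA.trans J.T_le_M
  set W := (Finset.range 2048).filter fun w => J.vv w ∈ A with hW
  set S := (Finset.range 191).filter fun l => ∃ x ∈ A, Mathieu.R (J.ρ x) (IL l) with hS
  have h0 : ∀ x ∈ A, J.ρ x = 1 ∨ ∃ l ∈ S, Mathieu.R (J.ρ x) (IL l) := fun x hx => by
    obtain ⟨l, hl, a⟩ := J.inv_T (hA hx) ((sq x).symm.trans (he.2 x hx))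
    rcases (Nat.le_of_lt_succ hl).eq_or_lt with rfl | hl
    exacts [Or.inl (a.eq_one_iff.2 (by decide +kernel)), Or.inr ⟨l, by simpa [hS] using ⟨hl, x, hx, a⟩, a⟩]
  have h1 : Nat.card A ≤ W.card * (S.card + 1) := by
    rw [card_le_ker_mul J.ρh hM J.ker_ρh]
    refine Nat.mul_le_mul ((Set.ncard_le_ncard (t := (W.image J.vv : Finset G)) ?_).trans ?_)
      ((Set.ncard_le_ncard (t := (insert 1 (S.image fun l => Mathieu.mk (IL l)) : Finset M24)) ?_).trans ?_)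
    · intro x hx
      obtain ⟨v, hv, rfl⟩ := J.mem_V.1 hx.1
      exact Finset.mem_coe.2 (Finset.mem_image_of_mem _ (by simpa [hW] using ⟨hv, hx.2⟩))
    · rw [Set.ncard_coe_finset]; exact Finset.card_image_le
    · rintro _ ⟨x, hx, rfl⟩
      exact Finset.mem_coe.2 (Finset.mem_insert.2 ((h0 x hx).imp_right fun ⟨l, a, b⟩ => Finset.mem_image.2 ⟨l, a, b.mk_eq⟩))
    · rw [Set.ncard_coe_finset]
      exact (Finset.card_insert_le _ _).trans (Nat.succ_le_succ Finset.card_image_le)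
  have e := rcT
  rw [forceB_eq, forceB_eq, rcS_eq] at e
  simp only [Finset.ext_iff, Finset.mem_filter, Finset.mem_range] at hS hW
  refine rc_sound (S := (· ∈ S)) (W := (· ∈ W)) (fun l h => ((hS l).1 h).1) (fun l l' a b => ?_) (fun l v a b => ?_)
    (fun C F ht a b => ?_) 4 _ _ e (fun l h => by simpa [msk_eq, -Nat.reducePow] using ((hS l).1 h).1)
    fun v h => by simpa [msk_eq, -Nat.reducePow] using ((hW v).1 h).1
  · obtain ⟨a1, x, a2, a3⟩ := (hS l).1 a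
    obtain ⟨b1, y, b2, b3⟩ := (hS l').1 b
    exact testBit_CMT a1 b1 a3 b3 (by rw [← J.ρ_mul _ (hM a2) _ (hM b2), hm x a2 y b2, J.ρ_mul _ (hM b2) _ (hM a2)])
  · obtain ⟨a1, x, a2, a3⟩ := (hS l).1 a
    obtain ⟨b1, b2⟩ := (hW v).1 b
    exact testBit_FXT a1 b1 (J.vv_inj (app_lt _ _ _) b1 ((J.act_ρ (hM a2) a3 v b1).symm.trans
      (mul_inv_eq_iff_eq_mul.2 (hm _ a2 _ b2))))
  simp only [testT, bor_eq_true, band_eq_true, blt_iff, beq_iff] at ht
  rcases ht with ht | rfl | ⟨h2, h3⟩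
  · have h4 := card_le_pcN (C := C) (k := 8) (S := S) fun l hl => ⟨((hS l).1 hl).1.trans (by decide), a l hl⟩
    have h5 := card_le_lead (F := F) (W := W) (fun w hw => ((hW w).1 hw).1.trans (by decide))
      (fun v hv w hw => (hW _).2 ⟨Nat.xor_lt_two_pow (n := 11) ((hW v).1 hv).1 ((hW w).1 hw).1,
        J.vv_xor v w ▸ mul_mem ((hW v).1 hv).2 ((hW w).1 hw).2⟩) fun w hw _ => b w hw
    exact absurd (hc.trans (h1.trans (Nat.mul_le_mul h5 (Nat.succ_le_succ h4)))) (not_le.2 (mul_comm (2 ^ _) _ ▸ ht))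
  · exact Or.inl fun x hx => J.kerρ x (hM hx) ((h0 x hx).resolve_right fun ⟨l, k, _⟩ => by simpa using a l k)
  have h4 : S ⊆ Finset.Ico 176 191 := fun l hl => Finset.mem_Ico.2 ⟨not_lt.1 fun k => by
    simpa [msk_eq, a l hl, k, -Nat.reducePow] using congrArg (Nat.testBit · l) h2, ((hS l).1 hl).1⟩
  have h5 : W ⊆ (Finset.range 64).image wv := fun v hv => by
    have k := congrArg (Nat.testBit · v) h3
    simp only [Nat.land_eq, Nat.testBit_and, b v hv, Bool.true_and] at k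
    simpa [anyLt_iff, beq_iff] using (bor_eq_true.1 (allBig_iff.1 (band_eq_true.1 W0_chk).1 v
      ((hW v).1 hv).1)).resolve_left (by simp [bit_eq, k])
  have h6 := Finset.card_le_card h4
  have h7 := (Finset.card_le_card h5).trans Finset.card_image_le
  rw [Nat.card_Ico] at h6
  rw [Finset.card_range] at h7
  have h8 := Finset.eq_of_subset_of_card_le h4 (by
    have := hc.trans (h1.trans (Nat.mul_le_mul_right _ h7)); rw [Nat.card_Ico]; omega)
  have h9 := Finset.eq_of_subset_of_card_le h5 (Finset.card_image_le.trans (by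
    have := hc.trans (h1.trans (Nat.mul_le_mul_left _ (Nat.succ_le_succ h6))); rw [Finset.card_range]; omega))
  exact Or.inr (J.le_of_lift hM he (fun u hu => ((hW _).1 (h9.ge (Finset.mem_image_of_mem _ (Finset.mem_range.2 hu)))).2)
    fun j hj => ((hS _).1 (h8.ge ((by decide : ∀ j < 4, 191 - 2 ^ j ∈ Finset.Ico 176 191) j hj))).2)

theorem ten_conj {A : Subgroup G} (he : IsElementaryAbelian 2 A) (hc : Nat.card A = 2 ^ 10)
    (h : centralizer (A : Set G) = A) : ∃ g, A = g ⋆ J.A0 := by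
  have := J.fin
  obtain ⟨g, hg⟩ := J.exists_conj_T' J.hH (Q := A) (.of_card hc)
  have c := (card_conj g A).trans hc
  rcases J.ten_T hg ⟨PGroup.isMulCommutative_iff.2 (by
      rintro _ ⟨x, a, rfl⟩ _ ⟨y, b, rfl⟩
      rw [← map_mul, PGroup.isMulCommutative_iff.1 he.1 x a y b, map_mul]), by
      rintro _ ⟨x, a, rfl⟩
      rw [← map_pow, he.2 x a, map_one]⟩ c.ge with k | k | k
  · have : J.V ≤ g ⋆ A := by
      rw [← h, conj_centralizer]
      exact fun x hx y hy => J.V_comm (k hy) hx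
    exact absurd (J.card_V ▸ c ▸ card_le_of_le this) (by decide)
  · exact ⟨_, conj_eq_iff_eq_inv_conj.1 (eq_of_le_of_card_ge k (c.trans J.card_A0.symm).le).symm⟩
  · exact ⟨_, (conj_eq_iff_eq_inv_conj.1 (eq_of_le_of_card_ge k
      (c.trans (J.card_A0.symm.trans (card_conj _ _).symm)).le).symm).trans (conj_conj _ _ _)⟩

end Mod

end Cfsg.Lib.J4T
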