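import Cfsg.Agent.Lib.J4T.Cnt
import Cfsg.Agent.Lib.J4T.Ten

/-! # Certificates for the classes of J₄ -/

set_option autoImplicit false
set_option maxRecDepth 100000

namespace Cfsg.Lib.J4T

open Cfsg.Lib.Calc Cfsg.Lib.F2 Cfsg.Lib.Mathieu Cfsg.Lib.Big Cfsg.Lib.J4 Subgroup Cfsg.Lib.Transfer

/-- letters -/
noncomputable def WB : List ℕ := eM.ev LM IM (wl [0, 1]) false :: eM.ev LM IM (wl [0, 3]) false :: cZ :: (EB ++ KS)

/-- the value of a word -/
noncomputable def wd (L w : List ℕ) : ℕ :=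
  List.rec (motive := fun _ => ℕ) eM.one (fun i _ ih => forceN ih fun x => forceN (F2.nth eM.one L i) fun k => eM.mul k x) w

/-- elements with generators of a common centraliser and a lower bound for its order -/
structure Ent where
  ks : List (List ℕ)
  gens : List (List ℕ)
  prog : List ℕ
  D : List (List ℕ × List ℕ)
  n : ℕ

/-- the check of an entry -/
noncomputable def entOK (L : List ℕ) (Y : ℕ) (e : Ent) : Bool := Grp.forceL (e.gens.map (wd L)) fun Gs =>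
  band (band (allL Gs fun C => eM.com C Y) (Grp.allP e.ks fun k => forceB (wd L k) fun K => allL Gs fun C => eM.com C K))
    (lowG Gs e.prog e.D e.n)

/-- all the elements -/
def kW (es : List Ent) : List (List ℕ) := es.flatMap Ent.ks
/-- all the bounds -/
def nW (es : List Ent) : List ℕ := es.flatMap fun e => e.ks.map fun _ => e.n

/-- `X` is conjugate to an element of the list -/
noncomputable def cjOK (L : List ℕ) (Y : ℕ) (ks : List (List ℕ)) (X : ℕ) (r : ℕ × List ℕ) : Bool :=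
  band (blt r.1 ks.length) (forceB (wd L r.2) fun K => band (eM.com K Y)
    (Nat.beq (eM.mul K X) (forceN (wd L (ks.getD r.1 [])) fun A => eM.mul A K)))

/-- commutes with `Y` and has order dividing `e` -/
noncomputable def inK (Y e C : ℕ) : Bool := band (eM.com C Y) (Nat.beq (eM.pw C e) eM.one)

/-- the classes of a complement in the centraliser of `Y`, by a search -/
noncomputable def dfsOK (L : List ℕ) (Y m eg er q n : ℕ) (ks : List (List ℕ)) (bad : List (List ℕ × ℕ × ℕ)) : Bool :=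
  forceB (F2.nth eM.one L 1) fun A => forceB (F2.nth eM.one L 2) fun B =>
  forceB (eM.pw A eg) fun A' => forceB (eM.pw B eg) fun B' =>
  band (band (band (inK Y (eg + 1) A) (inK Y (eg + 1) B)) (Grp.allP ks fun k => forceB (wd L k) (inK Y er)))
    (band (Grp.allP bad fun b => forceB (wd L b.1) fun C => band (band (memN b.2.2 [3, 7]) (!Nat.beq (m % b.2.2) 0))
        (band (eM.com C Y) (eM.ordOK (eM.pw C b.2.1) b.2.2)))
      (Grp.forceL ((ks ++ bad.map Prod.fst).map fun k => forceN (wd L k) fun x => eM.mul x eM.one) fun Rt =>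
        Nat.beq (orb (fun l c => cnd (Nat.beq l 0) (forceN (eM.mul c A') fun x => eM.mul A x)
          (cnd (Nat.beq l 1) (forceN (eM.mul c B') fun x => eM.mul B x) (F2.nth c Rt (l - 2))))
          (Rt.length + 2) (· % q) (fun _ => true) n (eM.mul eM.one eM.one)) n))

/-- a class of `M₂₄` -/
structure Cos where
  c : ℕ
  w : List ℕ
  us : List ℕ
  rs : List (ℕ × ℕ × List ℕ)

/-- the classes in a coset of `V` -/
noncomputable def cosOK (L : List ℕ) (ks : List (List ℕ)) (d : Cos) : Bool :=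
  band (band (band (ltW 2 (wl d.w)) (ltW 3 (wl d.w))) (band (Nat.beq (pW (wl d.w)) d.c)
      (allL d.us fun u => band (okM u) (Nat.beq (mulT u d.c) (mulT d.c u)))))
    (band (forceB (eM.ev LM IM (wl d.w) false) fun A => Grp.allP d.rs fun r => band (blt r.1 2048)
        (forceB (forceN (vC r.1) fun x => eM.mul x A) fun X => bor (Nat.beq (eM.mul X X) eM.one) (cjOK L eM.one ks X r.2)))
      (forceB (NM d.c) fun N => Grp.forceL ((List.range 11).map fun i => 2 ^ i ^^^ app 11 N (2 ^ i)) fun E =>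
        Grp.forceL (d.us.map NM) fun Ns => Grp.forceL (d.rs.map Prod.fst) fun Rt => band (memN 0 Rt)
          (Nat.beq (orb (fun l c => cnd (blt l 11) (c ^^^ F2.nth 0 E l)
            (cnd (blt l 14) (app 11 (F2.nth (NM id24) Ns (l - 11)) c) (F2.nth c Rt (l - 14))))
            (Rt.length + 14) id (fun _ => true) 2048 0) 2048)))

/-- a class of `M₂₂` -/
structure Lf where
  c : ℕ
  w : List ℕ
  o : ℕ
  r0 : ℕ × List ℕ
  r1 : ℕ × List ℕ

/-- the two lifts of a class of `M₂₂` -/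
noncomputable def lfOK (L : List ℕ) (ks : List (List ℕ)) (d : Lf) : Bool :=
  band (band (d.w.all (· < 8) && Nat.beq (og (evw d.w)) 0) (band (Nat.beq (pc' (evw d.w)) d.c) (!Nat.beq (d.o % 3) 0)))
    (forceB (kC d.w) fun X => band (Nat.beq (eM.pw X d.o) eM.one)
      (band (cjOK L (cK 6) ks X d.r0) (forceB (eM.mul X cZ) fun X' => cjOK L (cK 6) ks X' d.r1)))

variable {G : Type*} [Group G]

namespace Mod

variable (J : Mod G)

theorem gd_WB : ∀ C ∈ WB, Big.Gd J.R ⊤ C :=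
  List.forall_mem_cons.2 ⟨⟨_, trivial, J.ev (by decide)⟩, List.forall_mem_cons.2 ⟨⟨_, trivial, J.ev (by decide)⟩,
    fun C h => J.gd_BASE C (List.mem_append_left _ (List.mem_append_right _ h))⟩⟩

variable {J} {L : List ℕ}

theorem gd_wd {S : Subgroup G} (h : ∀ C ∈ L, Big.Gd J.R S C) (w : List ℕ) : Big.Gd J.R S (wd L w) := by
  induction w with
  | nil => exact ⟨1, one_mem _, J.one⟩
  | cons i w ih =>
    obtain ⟨a, a1, a2⟩ := J.law.gd_nth h i
    obtain ⟨b, b1, b2⟩ := ih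
    rw [show wd L (i :: w) = eM.mul (F2.nth eM.one L i) (wd L w) from
      (forceN_eq (wd L w) fun x => forceN (F2.nth eM.one L i) fun k => eM.mul k x).trans (forceN_eq _ fun k => eM.mul k _)]
    exact ⟨_, mul_mem a1 b1, mul a2 b2⟩

theorem gd_wds (ws : List (List ℕ)) : ∀ C ∈ ws.map (wd WB), Big.Gd J.R ⊤ C :=
  List.forall_mem_map.2 fun w _ => gd_wd J.gd_WB w

variable (hL : ∀ C ∈ L, Big.Gd J.R ⊤ C) {y : G} {Y : ℕ} (hy : J.R y Y)
include hL

theorem Rwd (w : List ℕ) : J.R (J.g (wd L w)) (wd L w) := J.Rg (gd_wd hL w)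

include hy

theorem locP {es : List Ent} (e : Grp.allP es (entOK L Y) = true) {m : ℕ} (L0 : List (G × ℕ))
    (h0 : ∀ p ∈ L0, p.2 ≤ Nat.card ↥(centralizer {y} ⊓ centralizer {p.1})) (h : ∀ k ∈ centralizer {y}, k ^ m = 1 →
      (∃ p ∈ L0, k ∈ Grp.cl (centralizer {y}) p.1) ∨ ∃ w ∈ kW es, k ∈ Grp.cl (centralizer {y}) (J.g (wd L w))) :
    LocP y m (L0.map Prod.snd ++ nW es) := by
  refine ⟨L0 ++ es.flatMap fun e => e.ks.map fun k => (J.g (wd L k), e.n),
    by simp [nW, List.map_flatMap, Function.comp_def], List.forall_mem_append.2 ⟨h0, fun p hp => ?_⟩, fun k a b => ?_⟩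
  · obtain ⟨d, h1, h2⟩ := List.mem_flatMap.1 hp
    obtain ⟨k, h3, rfl⟩ := List.mem_map.1 h2
    have t := Grp.allP_iff.1 e d h1
    rw [entOK, Grp.forceL_eq, band_eq_true, band_eq_true, Grp.allP_iff] at t
    have t2 := t.1.2 k h3
    rw [forceB_eq] at t2
    refine lowG (List.forall_mem_map.2 fun w hw => ⟨_, ⟨mem_centralizer_singleton_iff.2 (com (Rwd hL w) hy ?_),
      mem_centralizer_singleton_iff.2 (com (Rwd hL w) (Rwd hL k) ?_)⟩, Rwd hL w⟩) t.2
    exacts [allL_iff.1 t.1.1 _ (List.mem_map_of_mem hw), allL_iff.1 t2 _ (List.mem_map_of_mem hw)]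
  · rcases h k a b with ⟨p, h1, h2⟩ | ⟨w, h1, h2⟩
    · exact ⟨p, List.mem_append_left _ h1, h2⟩
    obtain ⟨d, h3, h4⟩ := List.mem_flatMap.1 h1
    exact ⟨_, List.mem_append_right _ (List.mem_flatMap.2 ⟨d, h3, List.mem_map_of_mem h4⟩), h2⟩

theorem cjOK {ks : List (List ℕ)} {x : G} {X : ℕ} (hx : J.R x X) {r : ℕ × List ℕ} (e : cjOK L Y ks X r = true) :
    ∃ w ∈ ks, x ∈ Grp.cl (centralizer {y}) (J.g (wd L w)) := by
  rw [J4T.cjOK, forceB_eq, forceN_eq, band_eq_true, band_eq_true, blt_iff] at e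
  refine ⟨ks.getD r.1 [], by rw [List.getD_eq_getElem _ _ e.1]; exact List.getElem_mem _, Grp.cl_symm
    ⟨_, mem_centralizer_singleton_iff.2 (com (Rwd hL _) hy e.2.1), cj (Rwd hL _) hx (Rwd hL _) e.2.2⟩⟩

theorem dfsOK {p m eg er q n : ℕ} (hp : p.Prime) (o : orderOf y = p) (hc : Nat.card (centralizer {y}) = p * n)
    (hn : ¬p ∣ n) (hm : ¬p ∣ m) (h1 : ¬p ∣ eg + 1) (h2 : ¬p ∣ er) {ks : List (List ℕ)} (h3 : [] ∈ ks)
    {bad : List (List ℕ × ℕ × ℕ)} (h4 : ∀ b ∈ bad, ¬p ∣ b.2.1 * b.2.2) (e : dfsOK L Y m eg er q n ks bad = true) :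
    ∀ k ∈ centralizer {y}, k ^ m = 1 → ∃ w ∈ ks, k ∈ Grp.cl (centralizer {y}) (J.g (wd L w)) := by
  have := J.fin
  obtain ⟨K, k1, -, -, k2, k3⟩ := exists_compl hp o hc hn
  simp only [J4T.dfsOK, forceB_eq, forceN_eq, Grp.forceL_eq, band_eq_true, Grp.allP_iff] at e
  obtain ⟨⟨⟨e1, e2⟩, e3⟩, e4, e5⟩ := e
  have ik : ∀ {g C t}, J.R g C → ¬p ∣ t → inK Y t C = true → g ∈ K := fun a b c =>
    k3 _ (mem_centralizer_singleton_iff.2 (com a hy (band_eq_true.1 c).1)) _ b (pw_eq a (band_eq_true.1 c).2)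
  let P : G → Prop := fun g => g ^ m = 1 → ∃ w ∈ ks, g ∈ Grp.cl (centralizer {y}) (J.g (wd L w))
  let good : ℕ → Prop := fun c => (∃ a b, c = eM.mul a b) ∧ ∃ g ∈ K, J.R g c ∧ P g
  have mv : ∀ i c, inK Y (eg + 1) (F2.nth eM.one L i) = true → good c →
      good (eM.mul (F2.nth eM.one L i) (eM.mul c (eM.pw (F2.nth eM.one L i) eg))) := fun i c a ⟨_, g, b1, b2, b3⟩ => by
    have r := J.Rn hL i
    have t := pw_eq r (band_eq_true.1 a).2
    rw [pow_succ, ← eq_inv_iff_mul_eq_one] at t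
    refine ⟨⟨_, _, rfl⟩, _, mul_mem (ik r h1 a) (mul_mem b1 (pow_mem (ik r h1 a) _)), mul r (mul b2 (pw r eg)), fun h => ?_⟩
    rw [t, ← mul_assoc] at h ⊢
    rw [conj_pow, conj_eq_one_iff] at h
    exact (b3 h).imp fun w d => ⟨d.1, Grp.cl_trans d.2 (Grp.conj_mem_cl (k1 (ik r h1 a)))⟩
  obtain ⟨S, s1, s2⟩ := orb_spec (dec := J.g) (good := good) (fun c d hc hd k => by
      obtain ⟨⟨_, _, rfl⟩, _, -, b, -⟩ := hc
      obtain ⟨⟨_, _, rfl⟩, _, -, b', -⟩ := hd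
      rw [J.can b (((J.law.valR b').symm.trans (k.symm.trans (J.law.valR b))) ▸ b')])
    (fun l _ c hc => by
      cases Nat.beq l 0
      · cases Nat.beq l 1
        · rw [cnd_false, cnd_false]
          refine (nth_mem c _ (l - 2)).elim (fun t => by rwa [t]) fun t => ?_
          obtain ⟨w, hw, t⟩ := List.mem_map.1 t
          have r := Rwd hL w
          refine t ▸ ⟨⟨_, _, rfl⟩, J.g (wd L w), ?_⟩
          rcases List.mem_append.1 hw with a | a
          · exact ⟨ik r h2 (e3 w a), mul_one (J.g (wd L w)) ▸ mul r J.one, fun _ => ⟨w, a, Grp.self_mem_cl _ _⟩⟩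
          obtain ⟨b, a', rfl⟩ := List.mem_map.1 a
          obtain ⟨⟨b1, b2⟩, b3, b4⟩ := e4 b a'
          have b5 := ordp (pw r b.2.1) (by have := mem_of_memN b1; revert this; simp; rintro (e | e) <;> norm_num [e]) b4
          refine ⟨k3 _ (mem_centralizer_singleton_iff.2 (com r hy b3)) _ (h4 b a') (by rw [pow_mul, ← b5, pow_orderOf_eq_one]),
            mul_one (J.g (wd L b.1)) ▸ mul r J.one, fun h => absurd (Nat.mod_eq_zero_of_dvd (b5 ▸ orderOf_dvd_of_pow_eq_one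
              (by rw [← pow_mul, mul_comm, pow_mul, h, one_pow]))) (ne_of_not_beq b2)⟩
        · rw [cnd_false, cnd_true]; exact mv 2 c e2 hc
      · rw [cnd_true]; exact mv 1 c e1 hc)
    ⟨⟨_, _, rfl⟩, 1, one_mem _, mul_one (1 : G) ▸ mul J.one J.one, fun _ => ⟨[], h3,
      (show J.g (wd L []) = 1 from J.law.valR J.one).symm ▸ Grp.self_mem_cl _ _⟩⟩ (fun e : n = 0 => hn (e ▸ dvd_zero p)) e5
  have s3 : (S : Set G) = K := Set.eq_of_subset_of_ncard_le (fun g hg => by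
    obtain ⟨c, ⟨-, a, b, d, -⟩, -, rfl⟩ := s2 g hg
    exact (show J.g c = a from J.law.valR d).symm ▸ b) (by rw [Set.ncard_coe_finset, s1]; exact k2.le)
  intro k a b
  obtain ⟨c, ⟨-, g, -, d, f⟩, -, rfl⟩ := s2 k (s3.ge (k3 k a m hm b))
  rw [show J.g c = g from J.law.valR d] at b ⊢
  exact f b

omit hy

theorem cosOK {ks : List (List ℕ)} {d : Cos} (e : cosOK L ks d = true) {x : M24} (hx : Mathieu.R x d.c) :
    ∀ c < 2048, (J.vv c * J.Λ x) ^ 2 = 1 ∨ ∃ w ∈ ks, IsConj (J.g (wd L w)) (J.vv c * J.Λ x) := by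
  simp only [J4T.cosOK, forceB_eq, forceN_eq, Grp.forceL_eq, band_eq_true, Grp.allP_iff, allL_iff, blt_iff, beq_iff,
    bor_eq_true] at e
  obtain ⟨⟨⟨e1, e2⟩, e3, e4⟩, e5, e6, e7⟩ := e
  let P : G → Prop := fun g => g ^ 2 = 1 ∨ ∃ w ∈ ks, IsConj (J.g (wd L w)) g
  have cP : ∀ a g, P g → P (a * g * a⁻¹) := fun a g h => h.imp (fun h => by rw [conj_pow, h]; simp)
    fun h => h.imp fun w h => ⟨h.1, h.2.trans (isConj_iff.2 ⟨a, rfl⟩)⟩
  have r : J.R (J.Λ x) (eM.ev LM IM (wl d.w) false) := by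
    rw [hx.eq (e3 ▸ R_pW e1), J.Λ_ev e1]; exact J.ev e2
  have rt : ∀ c ∈ d.rs.map Prod.fst, c < 2048 ∧ P (J.vv c * J.Λ x) := List.forall_mem_map.2 fun t ht => by
    have k := mul (J.Rv _ (e5 t ht).1) r
    refine ⟨(e5 t ht).1, (e5 t ht).2.imp (fun h => (sq _).trans (eq (mul k k) J.one (beq_iff.2 h))) fun h => ?_⟩
    exact (cjOK hL J.one k h).imp fun w h => ⟨h.1, (isConj_of_cl h.2).symm⟩
  obtain ⟨S, s1, s2⟩ := orb_spec (dec := id) (good := fun c => c < 2048 ∧ P (J.vv c * J.Λ x)) (fun c d _ _ k => k)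
    (fun l _ c hc => by
      cases blt l 11
      · cases blt l 14
        · rw [cnd_false, cnd_false]
          exact (nth_mem c _ (l - 14)).elim (fun t => by rwa [t]) (rt _)
        · obtain ⟨u, c', h1, h2, h3⟩ : ∃ u c', Mathieu.R u c' ∧ u * x = x * u ∧
              F2.nth (NM id24) (d.us.map NM) (l - 11) = NM c' := by
            rcases nth_mem (NM id24) (d.us.map NM) (l - 11) with t | t
            · exact ⟨1, id24, R.one, by rw [one_mul, mul_one], t⟩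
            obtain ⟨u, a, b⟩ := List.mem_map.1 t
            have k := mk_rep (e4 u a).1
            exact ⟨_, u, k, (k.mulT hx).eq (by rw [(e4 u a).2]; exact hx.mulT k), b.symm⟩
          rw [cnd_false, cnd_true, h3]
          refine ⟨app_lt 11 _ _, ?_⟩
          have k := cP (J.Λ u) _ hc.2
          rwa [← conj_mul, J.sec.act h1 c hc.1, ← map_inv, ← map_mul, ← map_mul, h2, mul_inv_cancel_right] at k
      · rw [cnd_true]
        refine (nth_mem 0 _ l).elim (fun t => by rwa [t, Nat.xor_zero]) fun t => ?_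
        obtain ⟨i, a, b⟩ := List.mem_map.1 t
        have k : 2 ^ i < 2048 := Nat.pow_lt_pow_right (n := 11) one_lt_two (List.mem_range.1 a)
        refine b ▸ ⟨Nat.xor_lt_two_pow (n := 11) hc.1 (Nat.xor_lt_two_pow k (app_lt _ _ _)), ?_⟩
        rw [J.vv_xor, J.vv_xor, ← J.sec.act hx _ k, ← mul_assoc, (J.vv_comm _ _).eq]
        simpa [mul_assoc, J.vv_inv] using cP (J.vv (2 ^ i)) _ hc.2)
    (rt 0 (mem_of_memN e6)) (by decide) (beq_iff.2 e7)
  have s3 : S = Finset.range 2048 := Finset.eq_of_subset_of_card_le (fun c hc => by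
    obtain ⟨_, a, -, rfl⟩ := s2 c hc
    exact Finset.mem_range.2 a.1) (by simp [s1])
  intro c hc
  obtain ⟨_, a, -, rfl⟩ := s2 c (s3 ▸ Finset.mem_range.2 hc)
  exact a.2

theorem cos_all {ks : List (List ℕ)} {ds : List Cos} (e : Grp.allP ds (J4T.cosOK L ks) = true)
    (e' : Grp.allP c24 (fun p => bor (memN p.1 (ds.map Cos.c)) (!Nat.beq (2 ^ 21 % ordT p.1) 0)) = true) {g : G}
    (hg : g ^ 2 ^ 21 = 1) : g ^ 2 = 1 ∨ ∃ w ∈ ks, IsConj (J.g (wd L w)) g := by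
  have := J.fin
  obtain ⟨a, ha⟩ := J.exists_conj_T' J.hH (Q := zpowers g) (by
    obtain ⟨n, -, k⟩ := (Nat.dvd_prime_pow Nat.prime_two).1 (orderOf_dvd_of_pow_eq_one hg)
    exact IsPGroup.of_card (by rw [Nat.card_zpowers, k]))
  have h1 := J.T_le_M (conj_le_iff.1 ha g (mem_zpowers g))
  obtain ⟨p, hp, x, -, h2, ⟨u, -, h3⟩, -⟩ := cls24.exists_rep (mem_top (J.ρ (a * g * a⁻¹)))
  have h4 : J.ρ (a * g * a⁻¹) ^ 2 ^ 21 = 1 := by
    rw [show J.ρ _ = J.ρh ⟨_, h1⟩ from rfl, ← map_pow, show (⟨_, h1⟩ : J.M) ^ 2 ^ 21 = 1 from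
      Subtype.ext (by rw [SubgroupClass.coe_pow, conj_pow, hg]; simp), map_one]
  obtain ⟨d, h5, h6⟩ := List.mem_map.1 (mem_of_memN ((bor_eq_true.1 (Grp.allP_iff.1 e' p hp)).resolve_right fun k =>
    ne_of_not_beq k (Nat.mod_eq_zero_of_dvd (by
      rw [← R.orderOf_eq h2 (ne_of_not_beq (Grp.allP_iff.1 ord_c24 p hp)), ← orderOf_conj' u, h3]
      exact orderOf_dvd_of_pow_eq_one h4))))
  obtain ⟨c, hc, h7⟩ := J.sec.dec (mul_mem (mul_mem (inv_mem (J.ΛM u)) h1) (inv_mem (inv_mem (J.ΛM u))))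
  rw [J.ρ_conj (inv_mem (J.ΛM u)) h1, ← map_inv, J.ρΛ, ← h3, show u⁻¹ * (u * x * u⁻¹) * u⁻¹⁻¹ = x by group] at h7
  have h8 : IsConj (J.vv c * J.Λ x) g := (isConj_iff.2 ⟨J.vv c * J.Λ u⁻¹ * a, by
    rw [← mul_inv_cancel_right (J.vv c * J.Λ x) (J.vv c), mul_assoc (J.vv c) (J.Λ x), ← h7, map_inv]; group⟩).symm
  refine (cosOK hL (Grp.allP_iff.1 e d h5) (h6 ▸ h2) c hc).imp (fun k => ?_) fun k => k.imp fun w k => ⟨k.1, k.2.trans h8⟩
  obtain ⟨b, rfl⟩ := isConj_iff.1 h8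
  rw [conj_pow, k]; simp

theorem lf_all {ks : List (List ℕ)} {ds : List Lf} (e : Grp.allP ds (lfOK L ks) = true)
    (e' : Grp.allP c22 (fun p => bor (memN p.1 (ds.map Lf.c)) (band (blt 0 (ordT p.1)) (Nat.beq (ordT p.1 % 3) 0))) = true)
    {m : ℕ} (hm : ¬3 ∣ m) : ∀ k ∈ centralizer {J.k 6}, k ^ m = 1 →
      ∃ w ∈ ks, k ∈ Grp.cl (centralizer {J.k 6}) (J.g (wd L w)) := by
  intro k hk km
  have h0 := J.cen_p ▸ hk
  obtain ⟨p, hp, x, -, h2, ⟨u, hu, h3⟩, -⟩ := cls22.exists_rep ((Loc.mem_K0 J.cp J.k6).1 h0).2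
  obtain ⟨a, ha, rfl⟩ := (Loc.mem_im inf_le_left).1 ((Loc.im_K0 J.cp J.k6).ge hu)
  obtain ⟨d, h5, h6⟩ := List.mem_map.1 (mem_of_memN ((bor_eq_true.1 (Grp.allP_iff.1 e' p hp)).resolve_right fun t => by
    rw [band_eq_true, blt_iff, beq_iff, ← R.orderOf_eq h2 t.1.ne', ← orderOf_conj' (J.φ a), h3] at t
    exact hm ((Nat.dvd_of_mod_eq_zero t.2).trans (orderOf_dvd_of_pow_eq_one (by rw [← J.φ_pow h0.1, km, J.φ_one])))))
  have t := Grp.allP_iff.1 e d h5
  simp only [lfOK, forceB_eq, band_eq_true] at t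
  obtain ⟨⟨t1, t2, t3⟩, t4, t5, t6⟩ := t
  have r := J.kw_K0 t1
  have h7 : a⁻¹ * k * a⁻¹⁻¹ ∈ J.K0 := mul_mem (mul_mem (inv_mem ha) h0) (inv_mem (inv_mem ha))
  have h8 : (a⁻¹ * k * a⁻¹⁻¹) ^ m = 1 := by rw [conj_pow, km]; simp
  have h9 : J.φ (a⁻¹ * k * a⁻¹⁻¹) = J.φ (J.kw d.w) := by
    rw [Loc.φ_conj (inv_mem ha.1) h0.1, J.φ_inv ha.1, ← h3,
      (J.cdw (Bool.and_eq_true_iff.1 t1).1).r.eq (beq_iff.1 t2 ▸ h6 ▸ h2)]
    group
  suffices ∃ w ∈ ks, a⁻¹ * k * a⁻¹⁻¹ ∈ Grp.cl (centralizer {J.k 6}) (J.g (wd L w)) from this.imp fun w h =>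
    ⟨h.1, Grp.cl_trans h.2 ⟨a, ha.2, by group⟩⟩
  generalize a⁻¹ * k * a⁻¹⁻¹ = s at h7 h8 h9
  obtain ⟨i, -, b, hb, h⟩ := Loc.ker_K J.cp (J.K0_le (mul_mem (inv_mem r) h7)) (by
    rw [J.φ_mul _ (inv_mem r.1) _ h7.1, J.φ_inv r.1, h9, inv_mul_cancel])
  rw [inv_mul_eq_iff_eq_mul, ← mul_assoc] at h
  have c1 : Commute (J.kw d.w) (J.k 6 ^ i) := Commute.pow_right (mem_centralizer_singleton_iff.1 r.2) i
  have h' : J.k 6 ^ i = 1 := by
    have := congrArg (· ^ (2 * d.o * m)) h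
    rw [pow_mul', h8, one_pow, (show Commute _ (J.z ^ b) from J.comm_pow (mul_mem r.1 (pow_mem J.p_K0.1 i)) b).mul_pow,
      c1.mul_pow, mul_right_comm, pow_mul', pw_eq (J.Rw _) t4, one_pow, one_mul, mul_right_comm, mul_assoc, pow_mul (J.z ^ b),
      sq, J.zp_sq, one_pow, mul_one, ← pow_mul] at this
    have k3 := J.k6 ▸ orderOf_dvd_of_pow_eq_one this.symm
    refine orderOf_dvd_iff_pow_eq_one.1 (J.k6 ▸ (Nat.prime_three.dvd_mul.1 k3).resolve_right fun k4 => ?_)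
    have := ne_of_not_beq t3
    rcases Nat.prime_three.dvd_mul.1 k4 with k4 | k4
    · omega
    · exact (Nat.prime_three.dvd_mul.1 k4).elim (by omega) hm
  rw [h', mul_one] at h
  interval_cases b
  · exact cjOK hL (J.Rk 6) (by rw [h, pow_zero, mul_one]; exact J.Rw _) t5
  · exact cjOK hL (J.Rk 6) (by rw [h, pow_one]; exact mul (J.Rw _) J.Rz) t6

end Mod

end Cfsg.Lib.J4T
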