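import Cfsg.Agent.Lib.J4T.CntD

/-! # J₄ has 62 conjugacy classes -/

set_option autoImplicit false
set_option maxRecDepth 100000

namespace Cfsg.Lib.J4T

open Cfsg.Lib.Calc Cfsg.Lib.F2 Cfsg.Lib.Mathieu Cfsg.Lib.Big Cfsg.Lib.J4 Subgroup Cfsg.Lib.Transfer

variable {G : Type*} [Group G]

theorem dvd_red {p a b m o : ℕ} (hp : p.Prime) (h : o ∣ p ^ a * m) (h' : ¬p ^ (b + 1) ∣ o) : o ∣ p ^ b * m := by
  obtain ⟨d, e, h1, h2, rfl⟩ := (Nat.dvd_mul).1 h
  obtain ⟨i, -, rfl⟩ := (Nat.dvd_prime_pow hp).1 h1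
  exact mul_dvd_mul (pow_dvd_pow p (by_contra fun k => h' ((pow_dvd_pow p (by omega)).mul_right e))) h2

theorem conj_pows [Finite G] {p r : ℕ} [Fact p.Prime] (h : ¬p ^ 2 ∣ Nat.card G) {t x u : G} (hx : orderOf x = p)
    (ht : t * x * t⁻¹ = x ^ r) (hu : orderOf u = p) : ∃ i < p, i ≠ 0 ∧ ∀ a j, a * r ^ j % p = i → IsConj (x ^ a) u := by
  classical
  obtain ⟨g, -, e⟩ := conj_zp (N := ⊤) (by rwa [card_top]) trivial trivial hu hx
  obtain ⟨i, hi, k⟩ := Finset.mem_image.1 (mem_zpowers_iff_mem_range_orderOf.1 (e ▸ mem_zpowers (g * u * g⁻¹)))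
  refine ⟨i, hx ▸ Finset.mem_range.1 hi, fun i0 => (Fact.out : p.Prime).ne_one ?_, fun a j c => ?_⟩
  · rw [← hu, orderOf_eq_one_iff, ← conj_eq_one_iff (a := g), ← k, i0, pow_zero]
  refine IsConj.trans ?_ (isConj_iff.2 ⟨g, rfl⟩).symm
  rw [← k, ← c, ← hx, pow_mod_orderOf]
  refine isConj_iff.2 ⟨t ^ j, ?_⟩
  clear c
  induction j with
  | zero => simp
  | succ j ih =>
    rw [pow_succ' t, show t * t ^ j * x ^ a * (t * t ^ j)⁻¹ = t * (t ^ j * x ^ a * (t ^ j)⁻¹) * t⁻¹ by group, ih,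
      ← conj_pow, ht, ← pow_mul, pow_succ, mul_comm r, mul_assoc]

theorem cl_one {x g : G} (h : IsConj x g) : g ∈ Grp.cl (centralizer {1}) x :=
  let ⟨a, e⟩ := isConj_iff.1 h; ⟨a, mem_centralizer_singleton_iff.2 (by simp), e⟩

theorem cen_one : centralizer {(1 : G)} = ⊤ := eq_top_iff.2 fun _ _ => mem_centralizer_singleton_iff.2 (by simp)

namespace Mod

variable (J : Mod G)

include J in
theorem loc2 : LocP (1 : G) (2 ^ 21) ([86775571046077562880, 21799895040, 1816657920] ++ nW es2) := by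
  have e := es2_ok
  have e' := ds2_ok
  rw [Grp.forceL_eq] at e e'
  refine locP J.gd_WB J.one e [(1, _), (J.z, _), (J.cm 3, _)] (by
    simp [cen_one, J.card, J.card_z, J.card_w]) fun k _ h => ?_
  refine (cos_all J.gd_WB e' (by decide +kernel) h).imp (fun t => ?_) fun t => t.imp fun w t => ⟨t.1, cl_one t.2⟩
  by_cases k1 : k = 1
  · exact ⟨_, List.mem_cons_self, by rw [k1]; exact Grp.self_mem_cl _ _⟩
  rcases J.two (orderOf_eq_prime t k1) with c | c
  exacts [⟨(J.z, 21799895040), by simp, cl_one c⟩, ⟨(J.cm 3, 1816657920), by simp, cl_one c⟩]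

theorem loc3 : LocP (J.k 6) (2 ^ 21 * 11 * 5 * 7) (nW es3) := by
  have e := es3_ok
  have e' := ds3_ok
  rw [Grp.forceL_eq] at e e'
  exact locP J.gd_WB (J.Rk 6) e [] (by simp) fun k a b =>
    Or.inr (lf_all J.gd_WB e' (by decide +kernel) (by decide) k a b)

theorem loc5 : LocP (J.pg 15) (2 ^ 21 * 11) (nW es5) := by
  have e := es5_ok
  have e' := ds5_ok
  rw [Grp.forceL_eq, forceB_eq] at e e'
  exact locP (gd_wds _) (J.Rp 15) e [] (by simp) fun k a b => Or.inr (dfsOK (gd_wds _) (J.Rp 15) Nat.prime_five J.pe.1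
    J.five.2.1 (by decide) (by decide) (by decide) (by decide) (by decide) (by decide) e' k a b)

theorem loc7 : LocP (J.pg 17) (2 ^ 21 * 11 * 5) (nW es7) := by
  have e := es7_ok
  have e' := ds7_ok
  rw [Grp.forceL_eq, forceB_eq] at e e'
  exact locP (gd_wds _) (J.Rp 17) e [] (by simp) fun k a b => Or.inr (dfsOK (gd_wds _) (J.Rp 17) Nat.prime_seven J.pe.2.1
    J.seven.2.1 (by decide) (by decide) (by decide) (by decide) (by decide) (by decide) e' k a b)

theorem loc7' : LocP (J.pg 17 ^ 3) (2 ^ 21 * 11 * 5) (nW es7) := by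
  have e : centralizer {J.pg 17 ^ 3} = centralizer {J.pg 17} := le_antisymm
    (fun g hg => mem_centralizer_singleton_iff.2 (by
      have := (Commute.pow_right (mem_centralizer_singleton_iff.1 hg) 5).eq
      rwa [← pow_mul, ← pow_mod_orderOf, J.pe.2.1, pow_one] at this))
    fun g hg => mem_centralizer_singleton_iff.2 (Commute.pow_right (mem_centralizer_singleton_iff.1 hg) 3)
  rw [LocP, e]; exact J.loc7

theorem loc11 : LocP J.a11 (2 ^ 21) ([31944] ++ nW es11) := by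
  have := J.fin
  have e := es11_ok
  have e' := ds11_ok
  rw [Grp.forceL_eq, forceB_eq] at e e'
  refine locP J.gd_WB J.Ra e [(1, _)] (by simp [cen_one, J.cen_a]) fun k a b => ?_
  obtain ⟨q1, q2⟩ := band_eq_true.1 q8_ok
  have h1 : 8 ≤ Nat.card ↥(J.E ⊓ centralizer {J.a11}) := lowG (List.forall_mem_cons.2 ⟨⟨_, ⟨J.e_mem_E (by decide),
    mem_centralizer_singleton_iff.2 (com (J.Re _) J.Ra (allL_iff.1 q1 _ (by simp)))⟩, J.Re _⟩, gd_one ⟨J.e_mem_E (by decide),
    mem_centralizer_singleton_iff.2 (com (J.Re _) J.Ra (allL_iff.1 q1 _ (by simp)))⟩ (J.Re _)⟩) q2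
  have h2 : Nat.card ↥(J.E ⊓ centralizer {J.a11}) ∣ 8 := Nat.dvd_gcd (m := 2 ^ 13) (n := 31944)
    (J.card_E ▸ card_dvd_of_le inf_le_left) (J.cen_a ▸ card_dvd_of_le inf_le_right)
  obtain ⟨c, hc, h3⟩ := conj_le_of_card (p := 2) (n := 3) (inf_le_right : J.E ⊓ centralizer {J.a11} ≤ _)
    (h1.antisymm' (Nat.le_of_dvd (by decide) h2)) (by rw [J.cen_a]; decide) (zpowers_le.2 a) (by
      obtain ⟨n, -, k⟩ := (Nat.dvd_prime_pow Nat.prime_two).1 (orderOf_dvd_of_pow_eq_one b)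
      exact IsPGroup.of_card (by rw [Nat.card_zpowers, k]))
  obtain ⟨h4, h5⟩ := conj_le_iff.1 h3 k (mem_zpowers k)
  obtain ⟨v, hv, i, hi, h6⟩ := J.mem_E.1 h4
  have h7 := J.cd_a.act hv
  rw [h6] at h5
  have h8 := mem_centralizer_singleton_iff.1 h5
  rw [mul_assoc, ← J.comm_pow J.cd_a.memH, ← mul_assoc, ← mul_assoc, mul_left_inj] at h8
  rw [← h8, mul_inv_cancel_right, ← mul_one (J.e v), ← pow_zero J.z] at h7
  obtain ⟨j, hj, rfl⟩ : ∃ j < 4, Calc.nth [0, 1081, 2078, 3111] j = v := (by decide : ∀ v ∈ [0, 1081, 2078, 3111],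
    ∃ j < 4, Calc.nth [0, 1081, 2078, 3111] j = v) v (mem_of_memN ((bor_eq_true.1 (allBig_iff.1 fix11 v hv)).resolve_left
      (by simp [← (J.e_inj hv (app12_lt _ _) h7).1])))
  have t := allLt_iff.1 (allLt_iff.1 e' j hj) i hi
  have r := mz (J.Re (Calc.nth [0, 1081, 2078, 3111] j)) i
  rw [forceB_eq, bor_eq_true] at t
  rw [← h6] at r
  refine t.imp (fun t => ⟨_, List.mem_singleton_self _, ?_⟩) fun t => (cjOK J.gd_WB J.Ra r t).imp fun w t =>
    ⟨t.1, Grp.cl_trans t.2 (Grp.cl_symm ⟨c, hc, rfl⟩)⟩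
  exact conj_eq_one_iff.1 (eq r J.one t) ▸ Grp.self_mem_cl _ _

theorem loc11' : ∃ u : G, LocP u (2 ^ 21) [242, 22] ∧ ∀ w : G, orderOf w = 11 → IsConj J.a11 w ∨ IsConj u w := by
  classical
  have := J.fin
  obtain ⟨h1, h2⟩ := J.Λ_data (c := 8423040984857188785349158186126401) (p := 11) (a := 2) (b := 11)
    (by decide +kernel) (by decide +kernel)
  have h3 := Nat.le_of_dvd (by decide) ((card_norm_dvd J.M _).trans (mul_dvd_mul (d := 10) h2 (by rw [h1]; decide)))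
  have h4 : Nat.card (centralizer {J.Λ (Mathieu.mk 8423040984857188785349158186126401)}) ≤ 242 := by
    refine (J.fixp (f := fun i => [1, 0, 0, 0, 0, 0, 10].getD i 0) (by decide) (J.ΛM _) h1 h3 le_rfl
      (fun i a b => ?_) ((cen_zpowers _).ge.trans (centralizer_le_normalizer _))).trans
        ((Nat.mul_le_mul_left _ (Nat.le_of_dvd (by decide) h2)).trans (by decide))
    interval_cases i
    any_goals (left; decide)
    obtain ⟨y, a, b, c⟩ := J.low_S (p := 11) (m := 552) (i := 6) (by decide) rfl (by decide)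
    exact Or.inr ⟨y, a, b, lt_of_lt_of_le (by decide) (Nat.mul_le_mul_left _ c)⟩
  have h5 := J.sec.act (mk_rep (c := 8423040984857188785349158186126401) (by decide +kernel)) 1421 (by decide)
  rw [show app 11 (NM 8423040984857188785349158186126401) 1421 = 1421 by decide +kernel, mul_inv_eq_iff_eq_mul] at h5
  generalize J.Λ (Mathieu.mk 8423040984857188785349158186126401) = u at h1 h4 h5
  have h6 : orderOf (J.vv 1421) = 2 :=
    orderOf_eq_prime ((sq _).trans (J.vv_sq _)) fun e => absurd (J.vv_eq_one (by decide) e) (by decide)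
  generalize J.vv 1421 = j at h5 h6
  have ju : j ∈ centralizer {u} := mem_centralizer_singleton_iff.2 h5.symm
  have h7 : Nat.card (centralizer {u}) = 242 := h4.antisymm (Nat.le_of_dvd Nat.card_pos
    (Nat.Coprime.mul_dvd_of_dvd_of_dvd (m := 2) (n := 11 ^ 2) (by decide) (h6 ▸ orderOf_dvd_natCard _ ju)
      (sq_dvd_cen Nat.prime_eleven (by rw [J.card]; decide) h1)))
  refine ⟨u, ⟨[(1, 242), (j, 22)], rfl, ?_, fun k a b => ?_⟩, fun w hw => ?_⟩
  · simp only [List.forall_mem_cons, cen_one, inf_top_eq, h7]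
    exact ⟨le_rfl, Nat.le_of_dvd Nat.card_pos (Nat.Coprime.mul_dvd_of_dvd_of_dvd (m := 2) (n := 11) (by decide)
      (h6 ▸ orderOf_dvd_natCard _ ⟨ju, mem_centralizer_singleton_iff.2 rfl⟩)
      (h1 ▸ orderOf_dvd_natCard _ ⟨mem_centralizer_singleton_iff.2 rfl, mem_centralizer_singleton_iff.2 h5⟩)), by simp⟩
  · by_cases k1 : k = 1
    · exact ⟨_, List.mem_cons_self, by rw [k1]; exact Grp.self_mem_cl _ _⟩
    have o : orderOf k = 2 := orderOf_eq_prime (orderOf_dvd_iff_pow_eq_one.1 (Nat.dvd_gcd (m := 242) (n := 2 ^ 21)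
      (h7 ▸ orderOf_dvd_natCard _ a) (orderOf_dvd_of_pow_eq_one b))) k1
    obtain ⟨g, hg, e⟩ := conj_zp (p := 2) (by rw [h7]; decide) a ju o h6
    obtain ⟨i, hi, t⟩ := Finset.mem_image.1 (mem_zpowers_iff_mem_range_orderOf.1 (e ▸ mem_zpowers (g * k * g⁻¹)))
    rw [h6, Finset.mem_range] at hi
    refine ⟨(j, 22), by simp, Grp.cl_symm ⟨g, hg, ?_⟩⟩
    interval_cases i
    · exact absurd (conj_eq_one_iff.1 (t.symm.trans (pow_zero j))) k1
    · exact t.symm.trans (pow_one j)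
  obtain ⟨y, -, -, c⟩ := J.two11
  refine (c w hw).imp IsConj.symm fun e => ((c u h1).resolve_left fun k => ?_).trans e.symm
  have := card_cen_isConj k
  rw [J.cen_a, h7] at this
  exact absurd this (by decide)

include J in
theorem card_classes : Nat.card (ConjClasses G) = 62 := by
  have := J.fin
  obtain ⟨u, l1, l2⟩ := J.loc11'
  obtain ⟨b1, b2, b3, b4⟩ := J.large_spec
  have pl := fun {p e n : ℕ} (hp : p.Prime) (h1 : p ∣ 86775571046077562880) (h2 : ¬p ^ 2 ∣ 86775571046077562880) =>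
    part_large (G := G) (e := e) (n := n) hp (J.card ▸ h1) (J.card ▸ h2)
  have h := (((((((((((J.loc2.part.or J.loc3.part).or J.loc5.part).or J.loc7.part).or J.loc7'.part).or J.loc11.part).or
    l1.part).or (pl (p := 23) (e := 22) (n := 1) (by norm_num) (by decide) (by decide)
      (fun x h => ⟨J.cen23 h, J.norm23 h⟩) (by decide))).or
    (pl (n := 1) (by norm_num) (by decide) (by decide) b1 (by decide))).or
    (pl (n := 3) (by norm_num) (by decide) (by decide) b2 (by decide))).or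
    (pl (n := 3) (by norm_num) (by decide) (by decide) b3 (by decide))).or
    (pl (n := 3) (by norm_num) (by decide) (by decide) b4 (by decide))).card (fun g => ?_) (by decide +kernel)
      (by rw [J.card]; decide +kernel)
  · exact h.trans (by decide +kernel)
  by_contra k
  simp only [not_or] at k
  obtain ⟨⟨⟨⟨⟨⟨⟨⟨⟨⟨⟨k1, k2⟩, k3⟩, k4⟩, k5⟩, k6⟩, k7⟩, k8⟩, k9⟩, k10⟩, k11⟩, k12⟩ := k
  obtain ⟨x, y, U, hU, -⟩ := J.ex11
  have a0 : orderOf g ∣ 43 ^ 1 * (37 ^ 1 * (31 ^ 1 * (29 ^ 1 * (23 ^ 1 * (11 ^ 3 * (3 ^ 3 * (2 ^ 21 * 5 * 7))))))) :=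
    (orderOf_dvd_natCard g).trans (by rw [J.card]; decide)
  have rd := fun {p m : ℕ} (hp : p.Prime) (a : orderOf g ∣ p ^ 1 * m) (b : ¬p ∣ orderOf g) =>
    one_mul m ▸ dvd_red (b := 0) hp a (by rwa [zero_add, pow_one])
  have a1 := dvd_red (b := 1) Nat.prime_eleven (rd (by norm_num) (rd (by norm_num) (rd (by norm_num) (rd (by norm_num)
    (rd (by norm_num) a0 k12) k11) k10) k9) k8)
    (not_sq_dvd Nat.prime_eleven hU.card (by rw [J.card]; decide) hU.pow g)
  have a2 := orderOf_dvd_iff_pow_eq_one.1 (dvd_red (a := 3) (b := 1) (m := 2 ^ 21 * 11 * 5 * 7) Nat.prime_three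
    (a1.trans (by decide)) (not_sq_dvd Nat.prime_three J.heis_R0.card (by rw [J.card]; decide) J.heis_R0.pow g))
  have a3 : g ^ (7 * (2 ^ 21 * 11 * 5)) = 1 := by_contra fun t =>
    let ⟨v, o, s⟩ := exists_spl Nat.prime_three (by decide) a2 t; k2 (s.conj (J.conj3 o).symm)
  have a4 : g ^ (5 * (2 ^ 21 * 11)) = 1 := by_contra fun t => by
    have : Fact (Nat.Prime 7) := ⟨Nat.prime_seven⟩
    obtain ⟨v, o, s⟩ := exists_spl Nat.prime_seven (by decide) a3 t
    obtain ⟨i, i1, i2, c⟩ := conj_pows (by rw [J.card]; decide) J.pe.2.1 J.pe.2.2.2.2.2.2.1 o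
    obtain ⟨j, -, e | e⟩ := (by decide : ∀ i < 7, i ≠ 0 → ∃ j < 3, 1 * 2 ^ j % 7 = i ∨ 3 * 2 ^ j % 7 = i) i i1 i2
    exacts [k4 (s.conj (pow_one (J.pg 17) ▸ c 1 j e)), k5 (s.conj (c 3 j e))]
  have a5 : g ^ (11 * 2 ^ 21) = 1 := by_contra fun t => by
    have : Fact (Nat.Prime 5) := ⟨Nat.prime_five⟩
    obtain ⟨v, o, s⟩ := exists_spl Nat.prime_five (by decide) a4 t
    obtain ⟨i, i1, i2, c⟩ := conj_pows (by rw [J.card]; decide) J.pe.1 J.pe.2.2.2.2.2.2.2.2.2.2.1 o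
    obtain ⟨j, -, e⟩ := (by decide : ∀ i < 5, i ≠ 0 → ∃ j < 4, 1 * 2 ^ j % 5 = i) i i1 i2
    exact k3 (s.conj (pow_one (J.pg 15) ▸ c 1 j e))
  have a6 : g ^ 2 ^ 21 = 1 := by_contra fun t =>
    let ⟨v, o, s⟩ := exists_spl Nat.prime_eleven (by decide) a5 t
    (l2 v o).elim (fun c => k6 (s.conj c)) fun c => k7 (s.conj c)
  exact k1 ⟨1, g, .refl _, .one_left g, a6, (one_mul g).symm⟩

end Mod

end Cfsg.Lib.J4T
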