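import Cfsg.Agent.Lib.J4T.Max

/-! # The orders of the centralisers in J₄ -/

set_option autoImplicit false
set_option maxRecDepth 100000

namespace Cfsg.Lib.J4T

open Cfsg.Lib.Calc Cfsg.Lib.F2 Cfsg.Lib.Mathieu Cfsg.Lib.Big Cfsg.Lib.J4 Subgroup Cfsg.Lib.Transfer

variable {G : Type*} [Group G]

theorem ncard_cover [Finite G] (L : List (G × ℕ)) :
    {g | ∃ p ∈ L, IsConj p.1 g}.ncard ≤ (L.map fun p => (Grp.cl ⊤ p.1).ncard).sum := by
  induction L with
  | nil => simp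
  | cons p L ih =>
    refine (Set.ncard_le_ncard (t := Grp.cl ⊤ p.1 ∪ {g | ∃ p ∈ L, IsConj p.1 g}) ?_).trans
      ((Set.ncard_union_le _ _).trans (Nat.add_le_add_left ih _))
    rintro g ⟨q, a, b⟩
    rcases List.mem_cons.1 a with rfl | a
    exacts [Or.inl (let ⟨c, e⟩ := isConj_iff.1 b; ⟨c, trivial, e⟩), Or.inr ⟨q, a, b⟩]

theorem Part.exact [Finite G] {P : G → Prop} {cs : List ℕ} (h : Part P cs) (hP : ∀ g, P g)
    (h0 : ∀ c ∈ cs, c ∣ Nat.card G) (hs : (cs.map (Nat.card G / ·)).sum ≤ Nat.card G) (g : G) :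
    Nat.card (centralizer {g}) ∈ cs := by
  obtain ⟨L, rfl, a2, a3⟩ := h
  obtain ⟨p, hp, e⟩ := a3 g (hP g)
  have k : ∀ p : G × ℕ, (Grp.cl ⊤ p.1).ncard * Nat.card (centralizer {p.1}) = Nat.card G := fun p => by
    rw [← top_inf_eq (centralizer {p.1}), Grp.ncard_cl_mul, card_top]
  have p0 : ∀ p ∈ L, 0 < p.2 := fun p hp => Nat.pos_of_dvd_of_pos (h0 _ (List.mem_map_of_mem hp)) Nat.card_pos
  have le : ∀ p ∈ L, (Grp.cl ⊤ p.1).ncard ≤ Nat.card G / p.2 := fun p hp =>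
    (Nat.le_div_iff_mul_le (p0 p hp)).2 (k p ▸ Nat.mul_le_mul_left _ (a2 p hp))
  refine card_cen_isConj e ▸ ((a2 p hp).eq_or_lt.resolve_right fun t => ?_) ▸ List.mem_map_of_mem hp
  have h1 := ncard_cover L
  rw [show {g | ∃ p ∈ L, IsConj p.1 g} = Set.univ from Set.eq_univ_of_forall fun g => a3 g (hP g), Set.ncard_univ] at h1
  rw [List.map_map] at hs
  refine absurd (hs.trans h1) (not_le.2 (List.sum_lt_sum _ _ le ⟨p, hp, (le p hp).lt_of_ne fun e => ?_⟩))
  have h2 := Nat.div_mul_cancel (h0 _ (List.mem_map_of_mem hp))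
  rw [← e, ← k p] at h2
  exact t.ne (Nat.eq_of_mul_eq_mul_left ((Set.ncard_pos).2 ⟨_, Grp.self_mem_cl _ _⟩) h2)

/-- the orders of the centralisers -/
def cens : List ℕ := [86775571046077562880, 21799895040, 1816657920, 98304, 43008, 5406720, 768, 512, 1280, 32, 2661120,
  2304, 192, 48, 30, 42, 66, 6720, 160, 960, 40, 80, 840, 35, 84, 28, 56, 31944, 264, 44, 242, 22, 23, 29, 31, 37, 43]

namespace Mod

variable (J : Mod G)
include J

theorem cen_mem (g : G) : Nat.card (centralizer {g}) ∈ cens := by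
  have := J.fin
  obtain ⟨u, l1, l2⟩ := J.loc11'
  obtain ⟨b1, b2, b3, b4⟩ := J.large_spec
  have pl := fun {p e n : ℕ} (hp : p.Prime) (h1 : p ∣ 86775571046077562880) (h2 : ¬p ^ 2 ∣ 86775571046077562880) =>
    part_large (G := G) (e := e) (n := n) hp (J.card ▸ h1) (J.card ▸ h2)
  have h := (((((((((((J.loc2.part.or J.loc3.part).or J.loc5.part).or J.loc7.part).or J.loc7'.part).or J.loc11.part).or
    l1.part).or (pl (p := 23) (e := 22) (n := 1) (by norm_num) (by decide) (by decide)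
      (fun x h => ⟨J.cen23 h, J.norm23 h⟩) (by decide))).or
    (pl (n := 1) (by norm_num) (by decide) (by decide) b1 (by decide))).or
    (pl (n := 3) (by norm_num) (by decide) (by decide) b2 (by decide))).or
    (pl (n := 3) (by norm_num) (by decide) (by decide) b3 (by decide))).or
    (pl (n := 3) (by norm_num) (by decide) (by decide) b4 (by decide))).exact (fun g => ?_)
      (by rw [J.card]; decide +kernel) (by rw [J.card]; decide +kernel) g
  · revert h; generalize Nat.card (centralizer {g}) = c; revert c; decide +kernel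
  by_contra k
  simp only [not_or] at k
  obtain ⟨⟨⟨⟨⟨⟨⟨⟨⟨⟨⟨k1, k2⟩, k3⟩, k4⟩, k5⟩, k6⟩, k7⟩, k8⟩, k9⟩, k10⟩, k11⟩, k12⟩ := k
  obtain ⟨x, y, U, hU, -⟩ := J.ex11
  have a0 : orderOf g ∣ 43 ^ 1 * (37 ^ 1 * (31 ^ 1 * (29 ^ 1 * (23 ^ 1 * (11 ^ 3 * (3 ^ 3 * (2 ^ 21 * 5 * 7))))))) :=
    (orderOf_dvd_natCard g).trans (by rw [J.card]; decide)
  have rd := fun {p m : ℕ} (hp : p.Prime) (a : orderOf g ∣ p ^ 1 * m) (b : ¬p ∣ orderOf g) =>
    one_mul m ▸ dvd_red (b := 0) hp a (by rwa [zero_add, pow_one])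
  have a1 := dvd_red (b := 1) Nat.prime_eleven (rd (by norm_num) (rd (by norm_num) (rd (by norm_num) (rd (by norm_num)
    (rd (by norm_num) a0 k12) k11) k10) k9) k8)
    (not_sq_dvd Nat.prime_eleven hU.card (by rw [J.card]; decide) hU.pow g)
  have a2 := orderOf_dvd_iff_pow_eq_one.1 (dvd_red (a := 3) (b := 1) (m := 2 ^ 21 * 11 * 5 * 7) Nat.prime_three
    (a1.trans (by decide)) (not_sq_dvd Nat.prime_three J.heis_R0.card (by rw [J.card]; decide) J.heis_R0.pow g))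
  have a3 : g ^ (7 * (2 ^ 21 * 11 * 5)) = 1 := by_contra fun t =>
    let ⟨v, o, s⟩ := exists_spl Nat.prime_three (by decide) a2 t; k2 (s.conj (J.conj3 o).symm)
  have a4 : g ^ (5 * (2 ^ 21 * 11)) = 1 := by_contra fun t => by
    have : Fact (Nat.Prime 7) := ⟨Nat.prime_seven⟩
    obtain ⟨v, o, s⟩ := exists_spl Nat.prime_seven (by decide) a3 t
    obtain ⟨i, i1, i2, c⟩ := conj_pows (by rw [J.card]; decide) J.pe.2.1 J.pe.2.2.2.2.2.2.1 o
    obtain ⟨j, -, e | e⟩ := (by decide : ∀ i < 7, i ≠ 0 → ∃ j < 3, 1 * 2 ^ j % 7 = i ∨ 3 * 2 ^ j % 7 = i) i i1 i2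
    exacts [k4 (s.conj (pow_one (J.pg 17) ▸ c 1 j e)), k5 (s.conj (c 3 j e))]
  have a5 : g ^ (11 * 2 ^ 21) = 1 := by_contra fun t => by
    have : Fact (Nat.Prime 5) := ⟨Nat.prime_five⟩
    obtain ⟨v, o, s⟩ := exists_spl Nat.prime_five (by decide) a4 t
    obtain ⟨i, i1, i2, c⟩ := conj_pows (by rw [J.card]; decide) J.pe.1 J.pe.2.2.2.2.2.2.2.2.2.2.1 o
    obtain ⟨j, -, e⟩ := (by decide : ∀ i < 5, i ≠ 0 → ∃ j < 4, 1 * 2 ^ j % 5 = i) i i1 i2
    exact k3 (s.conj (pow_one (J.pg 15) ▸ c 1 j e))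
  have a6 : g ^ 2 ^ 21 = 1 := by_contra fun t =>
    let ⟨v, o, s⟩ := exists_spl Nat.prime_eleven (by decide) a5 t
    (l2 v o).elim (fun c => k6 (s.conj c)) fun c => k7 (s.conj c)
  exact k1 ⟨1, g, .refl _, .one_left g, a6, (one_mul g).symm⟩


/-- The elements of order 11 in `M`. -/
theorem norm11 {x : G} (hx : x ∈ J.M) (ho : orderOf x = 11) : Nat.card (normalizer (zpowers x : Set G)) ≤ 2420 := by
  have := J.fin
  obtain ⟨h1, h2⟩ := J.Λ_data (c := 8423040984857188785349158186126401) (p := 11) (a := 2) (b := 11)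
    (by decide +kernel) (by decide +kernel)
  have h3 := Nat.le_of_dvd (by decide) ((card_norm_dvd J.M _).trans (mul_dvd_mul (d := 10) h2 (by rw [h1]; decide)))
  have h4 : Nat.card (centralizer {J.Λ (Mathieu.mk 8423040984857188785349158186126401)}) ≤ 242 := by
    refine (J.fixp (f := fun i => [1, 0, 0, 0, 0, 0, 10].getD i 0) (by decide) (J.ΛM _) h1 h3 le_rfl
      (fun i a b => ?_) ((cen_zpowers _).ge.trans (centralizer_le_normalizer _))).trans
        ((Nat.mul_le_mul_left _ (Nat.le_of_dvd (by decide) h2)).trans (by decide))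
    interval_cases i
    any_goals (left; decide)
    obtain ⟨y, a, b, c⟩ := J.low_S (p := 11) (m := 552) (i := 6) (by decide) rfl (by decide)
    exact Or.inr ⟨y, a, b, lt_of_lt_of_le (by decide) (Nat.mul_le_mul_left _ c)⟩
  obtain ⟨g, -, e⟩ := conj_zp (by rw [J.card_M]; decide) hx (J.ΛM _) ho h1
  rw [← cen_zpowers, ← e, cen_zpowers, card_cen_conj] at h4
  have := card_norm_dvd ⊤ x
  rw [top_inf_eq, top_inf_eq, ho] at this
  exact (Nat.le_of_dvd (Nat.mul_pos Nat.card_pos (by decide)) this).trans (Nat.mul_le_mul_right _ h4)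

/-- The elements of order 8 that commute with an element of order 5. -/
theorem norm8 {h f : G} (h1 : h ^ 4 = J.z) (h2 : J.φ h ≠ 1) (h3 : orderOf f = 5) (h4 : f * h = h * f) :
    orderOf h = 8 ∧ Nat.card (normalizer (zpowers h : Set G)) ≤ 5120 := by
  have := J.fin
  have o : orderOf h = 8 := ord_pp (p := 2) (n := 2) (h1 ▸ J.ord)
  have a : centralizer {h} ≤ J.H := fun g hg => J.mem_H.2 (h1 ▸ (Commute.pow_right (mem_centralizer_singleton_iff.1 hg) 4).eq)
  have hH := a (mem_centralizer_singleton_iff.2 rfl)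
  have fH := a (mem_centralizer_singleton_iff.2 h4)
  have b : J.im (centralizer {h}) ≤ centralizer {J.φ h} := fun x hx => by
    obtain ⟨g, hg, rfl⟩ := (Loc.mem_im a).1 hx
    exact mem_centralizer_singleton_iff.2 (by
      rw [← J.φ_mul _ (a hg) _ hH, mem_centralizer_singleton_iff.1 hg, J.φ_mul _ hH _ (a hg)])
  obtain ⟨p, hp, y, -, c1, c2, c3⟩ := cls24.exists_rep (mem_top (J.φ h))
  have k := Grp.allP_iff.1 (show Grp.allP c24 (fun p => band (blt 0 (ordT p.1)) (bor (bor (Nat.beq (ordT p.1) 1)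
    (blt 0 (4 % ordT p.1))) (bor (blt 0 (p.2 % 5)) (Nat.beq p.2 7680)))) = true by decide +kernel) p hp
  simp only [band_eq_true, bor_eq_true, blt_iff, beq_iff] at k
  rw [← R.orderOf_eq c1 k.1.ne', ← Grp.orderOf_of_mem_cl c2, ← c3, top_inf_eq] at k
  have k1 := (k.2.resolve_left fun t => t.elim (fun t => h2 (orderOf_eq_one_iff.1 t)) fun t => t.ne'
    (Nat.mod_eq_zero_of_dvd (orderOf_dvd_of_pow_eq_one (by rw [← J.φ_pow hH, h1, J.φ_z])))).resolve_left fun t => t.ne'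
      (Nat.mod_eq_zero_of_dvd (J.orderOf_φ Nat.prime_five (by decide) fH h3 ▸ orderOf_dvd_natCard _
        (b ((Loc.mem_im a).2 ⟨f, mem_centralizer_singleton_iff.2 h4, rfl⟩))))
  have k2 : Nat.card (centralizer {h}) ∣ 2 ^ 13 * 3 * 7680 := Loc.card_im a ▸
    mul_dvd_mul (J.card_Kr ▸ card_dvd_of_le inf_le_left) (k1 ▸ card_dvd_of_le b)
  have k3 := (by decide +kernel : ∀ c ∈ cens, c ∣ 2 ^ 13 * 3 * 7680 → 5 ∣ c → c ≤ 1280) _ (J.cen_mem h) k2
    (h3 ▸ orderOf_dvd_natCard _ (mem_centralizer_singleton_iff.2 h4))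
  have := card_norm_dvd ⊤ h
  rw [top_inf_eq, top_inf_eq, o] at this
  exact ⟨o, (Nat.le_of_dvd (Nat.mul_pos Nat.card_pos (by decide)) this).trans (Nat.mul_le_mul_right _ k3)⟩

end Mod

end Cfsg.Lib.J4T
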