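import Cfsg.Agent.Lib.J4T.Red
import Cfsg.Agent.Lib.Mult.M22
import Cfsg.Agent.Lib.PGroup.Metacyclic

/-! # The triple cover of `M₂₂` is the group generated by the codes (Part I, step 1) -/

set_option autoImplicit false
set_option maxRecDepth 100000

namespace Cfsg.Lib.J4T.Lx

open Cfsg.Lib.Calc Cfsg.Lib.F2 Cfsg.Lib.Mathieu Cfsg.Lib.Mult Subgroup

/-- permutations together with matrices -/
abbrev KK : Type := M24 × Equiv.Perm (Fin 4096)

/-- `k` has code `X` -/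
structure RC (k : KK) (X : ℕ) : Prop where
  r : R k.1 (pc' X)
  a : ∀ v : Fin 4096, (k.2 v).val = app 12 (mc X) v

theorem RC.one : RC 1 cI := ⟨pc'_cI ▸ R.one, fun v => (app_cI v.2).symm⟩

theorem RC.mul {g h : KK} {X Y : ℕ} (a : RC g X) (b : RC h Y) : RC (g * h) (mu X Y) := by
  obtain ⟨e1, e2⟩ := pc'_mu a.1 b.1 rfl rfl
  refine ⟨e1 ▸ a.1.mulT b.1, fun v => ?_⟩
  rw [e2, app_mmul, ← b.2, ← a.2]; rfl

theorem RC.ext {g h : KK} {X : ℕ} (a : RC g X) (b : RC h X) : g = h :=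
  Prod.ext ((a.1.eq_iff b.1).2 rfl) (Equiv.ext fun v => Fin.ext ((a.2 v).trans (b.2 v).symm))

theorem RC.eq {g h : KK} {X Y : ℕ} (a : RC g X) (b : RC h Y) (e : Nat.beq X Y = true) : g = h :=
  a.ext (beq_iff.1 e ▸ b)

theorem RC.ex {X Y : ℕ} (a : okM (pc' X) = true) (b : okM (pc' Y) = true) (e : mu Y X = cI) : ∃ g, RC g X := by
  have e2 := (pc'_mu (mk_rep b) (mk_rep a) rfl rfl).2
  rw [e] at e2
  refine ⟨(Mathieu.mk (pc' X), Equiv.ofBijective (fun x => ⟨app 12 (mc X) x, app12_lt _ _⟩)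
    (Function.Injective.bijective_of_finite fun x y k => Fin.ext ?_)), mk_rep a, fun _ => rfl⟩
  rw [← app_cI x.2, ← app_cI y.2, e2, app_mmul, app_mmul, show app 12 (mc X) x = app 12 (mc X) y from congrArg Fin.val k]

/-- the engine -/
noncomputable def cE : ME := ⟨cI, mu, fun _ => false, fun X => okM (pc' X)⟩

theorem real : cE.Real RC where
  one := by unfold cE; exact RC.one
  mul a b := by dsimp only [cE]; exact a.mul b
  ext a b := a.ext b
  ne _ := by unfold cE; exact Bool.false_ne_true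
  ex a b e := by dsimp only [cE] at a b e; exact RC.ex a b e

/-- the six involutions -/
def l6 : List ℕ := lets.take 6

/-- the group `3.M₂₂` -/
def K0 : Subgroup KK := closure {k | ∃ X ∈ l6, RC k X}

theorem c1 : cE.letOK M22.iv l6 [cI, cP, cP2] = true := by decide +kernel
theorem c2 : cE.relsOK M22.iv l6 [cI, cP, cP2] M22.rels = true := by decide +kernel
theorem c3 : allL (cI :: l6) (fun X => band (Nat.beq (mu X X) cI) (tOK (tAnd (tPt 23) (tPt 0)) (pc' X))) = true := by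
  decide +kernel

theorem mt_mem (c : ℕ) : cE.mt l6 c ∈ cI :: l6 := by
  rcases F2.nth_mem cI (cI :: l6) c with h | h
  · exact h.symm ▸ List.mem_cons_self
  · exact h

theorem exists_P : ∃ π, RC π cP := RC.ex (Y := cP2) (by decide +kernel) (by decide +kernel) (by decide +kernel)

theorem RC.fst {k : KK} {X : ℕ} (h : RC k X) (e : Nat.beq (pc' X) id24 = true) : k.1 = 1 :=
  h.1.eq_one_iff.2 (beq_iff.1 e)

theorem RC.ne_one {k : KK} {X : ℕ} (h : RC k X) (e : Nat.beq (app 12 (mc X) 1) 1 = false) : k ≠ 1 := by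
  rintro rfl
  have : app 12 (mc X) 1 = 1 := (h.2 1).symm
  rw [this] at e
  exact Bool.noConfusion e

theorem RC.cube {π : KK} (h : RC π cP) : π ^ 3 = 1 := by
  rw [pow_succ', sq]; exact (h.mul (h.mul h)).eq RC.one (by decide +kernel)

theorem RC.ord {π : KK} (h : RC π cP) : orderOf π = 3 :=
  have : Fact (Nat.Prime 3) := ⟨Nat.prime_three⟩
  orderOf_eq_prime h.cube (h.ne_one (by decide +kernel))

theorem gen22 {N : Subgroup M24} (h : ∀ X ∈ l6, ∃ g ∈ N, R g (pc' X)) : 443520 ≤ Nat.card N :=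
  le_card_gen (C := [970531819526550031117983620406741024, 984404951986650291017642929327245344,
      974027552735757545258125379239413792, 960139612709388908960211975096961056, 984389775965797844819276082654203936,
      984194560199829098639614076839364832, 981818691054096003685363657089320992, 970452748381697609285226999098476576,
      961029066359601346093702817927759904, 972606645568131968584696805283956768])
    (D := [0, 0, 0, 0, 0, 0, 859141, 4123670059789, 2277637, 650517792444685]) (r := 6)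
    (L := [(1, [0, 1, 2, 3, 4, 5], 22), (2, [0, 1, 2, 3, 4], 21), (3, [0, 1, 2, 3], 20), (4, [6, 7, 8], 16), (5, [9], 3)])
    (by norm_num) (fun a ha => by
      obtain ⟨g, h1, h2⟩ := h (cE.mt l6 (a + 1)) (by interval_cases a <;> decide +kernel)
      refine ⟨g, h1, ?_⟩
      convert h2 using 1
      interval_cases a <;> decide +kernel) (by decide +kernel)

section
variable {L : Type*} [Group L] {σ : L →* M24}

theorem ker_cube (hk : Nat.card σ.ker = 3) {x : L} (hx : σ x = 1) : x ^ 3 = 1 := by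
  have := congrArg Subtype.val (pow_card_eq_one' (x := (⟨x, hx⟩ : σ.ker)))
  rwa [hk] at this

theorem uniq (hk : Nat.card σ.ker = 3) (hc : σ.ker ≤ center L) {x y : L} (hx : x * x = 1) (hy : y * y = 1)
    (e : σ x = σ y) : x = y := by
  have h1 : σ (x⁻¹ * y) = 1 := by rw [map_mul, map_inv, e, inv_mul_cancel]
  have h2 := ker_cube hk h1
  have h3 := mem_center_iff.1 (hc h1) x
  generalize hk : x⁻¹ * y = k at h2 h3
  obtain rfl : y = x * k := by rw [← hk, mul_inv_cancel_left]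
  have h4 : k * k = 1 := by
    rw [← hy, mul_assoc, ← mul_assoc k, ← h3, ← mul_assoc, ← mul_assoc, hx, one_mul]
  rw [pow_succ, sq, h4, one_mul] at h2
  rw [h2, mul_one]

theorem exists_lift (hk : Nat.card σ.ker = 3) {g : M24} (hg : g ∈ σ.range) (h : g * g = 1) :
    ∃ x, σ x = g ∧ x * x = 1 := by
  obtain ⟨y, rfl⟩ := hg
  refine ⟨y ^ 3, by rw [map_pow, pow_succ, sq, h, one_mul], ?_⟩
  rw [← sq, ← pow_mul, mul_comm, pow_mul]
  exact ker_cube hk (by rw [sq, map_mul, h])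

theorem perfect (hr : σ.range = m22) (hp : σ.ker ≤ commutator L) : commutator L = ⊤ := by
  have : (commutator L).map σ = (⊤ : Subgroup L).map σ := by
    rw [commutator_def, map_commutator, ← MonoidHom.range_eq_map, hr, Rd.perf22]
  have := congrArg (comap σ) this
  rwa [comap_map_eq, comap_map_eq, top_sup_eq, sup_eq_left.2 hp] at this

theorem ker_le_center (hr : σ.range = m22) (hk : Nat.card σ.ker = 3) (hp : σ.ker ≤ commutator L) :
    σ.ker ≤ center L := by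
  have : Fact (Nat.Prime 3) := ⟨Nat.prime_three⟩
  have h := PGroup.commutator_le_centralizer_of_isCyclic (R := ⊤) (A := ⊤) (isCyclic_of_prime_card hk)
    (normalizer_eq_top σ.ker).ge (normalizer_eq_top σ.ker).ge
  rw [← commutator_def, perfect hr hp] at h
  exact fun x hx => mem_center_iff.2 fun y => (h (mem_top y) x hx).symm

theorem eq_top_of_map (hr : σ.range = m22) (hk : Nat.card σ.ker = 3) (hp : σ.ker ≤ commutator L) {N : Subgroup L}
    (h : m22 ≤ N.map σ) : N = ⊤ := by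
  have hc := ker_le_center hr hk hp
  have h1 : ∀ x, ∃ a ∈ N, ∃ k ∈ center L, x = a * k := fun x => by
    obtain ⟨a, ha, e⟩ := h (hr ▸ ⟨x, rfl⟩ : σ x ∈ m22)
    exact ⟨a, ha, a⁻¹ * x, hc (by rw [MonoidHom.mem_ker, map_mul, map_inv, e, inv_mul_cancel]), by group⟩
  rw [eq_top_iff, ← perfect hr hp, commutator_def, commutator_le]
  intro x _ y _
  obtain ⟨a, ha, k, hk, rfl⟩ := h1 x
  obtain ⟨b, hb, l, hl, rfl⟩ := h1 y
  have e : a * k * (b * l) * (a * k)⁻¹ * (b * l)⁻¹ = a * b * a⁻¹ * b⁻¹ := by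
    have e1 := mem_center_iff.1 hk
    have e2 := mem_center_iff.1 hl
    calc _ = a * (k * (b * l)) * k⁻¹ * a⁻¹ * l⁻¹ * b⁻¹ := by group
      _ = a * b * (l * a⁻¹) * l⁻¹ * b⁻¹ := by rw [← e1]; group
      _ = _ := by rw [← e2]; group
  rw [commutatorElement_def, e]
  exact mul_mem (mul_mem (mul_mem ha hb) (inv_mem ha)) (inv_mem hb)

theorem exists_lets : ∃ κ : ℕ → KK, (∀ c, RC (κ c) (cE.mt l6 c)) ∧ Lab κ M22.iv ∧ (∀ c, κ c * κ c = 1) ∧
    (∀ c, (κ c).1 ∈ m22) ∧ closure (Set.range κ) = K0 ∧ ∀ π, RC π cP → (∀ c, π * κ c = κ c * π) ∧ π ∈ K0 ∧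
      ∀ k ∈ K0, k.1 = 1 → k ∈ zpowers π := by
  obtain ⟨κ, k1, k2, k3⟩ := real.lets c1
  have c3' := fun c => band_eq_true.1 (allL_iff.1 c3 _ (mt_mem c))
  have k4 : ∀ c, (κ c).1 ∈ m22 := fun c => by
    obtain ⟨g, h1, h2⟩ := mem22.exists (c3' c).2
    exact ((k1 c).1.eq_iff h2).2 rfl ▸ h1
  have k5 : closure (Set.range κ) = K0 := by
    refine le_antisymm ((closure_le _).2 ?_) ((closure_le _).2 ?_)
    · rintro _ ⟨c, rfl⟩
      rcases List.mem_cons.1 (mt_mem c) with e | e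
      · rw [(k1 c).ext (e ▸ RC.one)]; exact one_mem _
      · exact subset_closure ⟨_, e, k1 c⟩
    · rintro k ⟨X, hX, h⟩
      obtain ⟨c, -, e⟩ := anyLt_iff.1 (allL_iff.1 (show allL l6 (fun X => anyLt 7 fun c => Nat.beq X (cE.mt l6 c)) = true by
        decide +kernel) X hX)
      exact subset_closure ⟨c, (h.eq (k1 c) e).symm⟩
  refine ⟨κ, k1, k2, fun c => ((k1 c).mul (k1 c)).eq RC.one (c3' c).1, k4, k5, fun π hπ => ?_⟩
  have hc := k3 π cP (by simp) hπ
  refine ⟨hc, ?_, ?_⟩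
  · have : π = κ 5 * (κ 1 * (κ 3 * (κ 1 * (κ 6 * (κ 3 * (κ 4 * (κ 2 * (κ 5 * (κ 6 * (κ 4 * κ 3)))))))))) :=
      hπ.eq ((k1 _).mul ((k1 _).mul ((k1 _).mul ((k1 _).mul ((k1 _).mul ((k1 _).mul ((k1 _).mul ((k1 _).mul
        ((k1 _).mul ((k1 _).mul ((k1 _).mul (k1 _)))))))))))) (by decide +kernel)
    have m : ∀ c, κ c ∈ K0 := fun c => k5 ▸ subset_closure ⟨c, rfl⟩
    rw [this]
    repeat' refine mul_mem (m _) ?_
    exact m _
  let γ : ℕ → m22 := fun c => ⟨(κ c).1, k4 c⟩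
  have hγ : Lab γ M22.iv := ⟨Subtype.ext (congrArg Prod.fst k2.zero), fun c => Subtype.ext (congrArg Prod.fst (k2.inv c))⟩
  have hZ : ∀ t ∈ M22.rels, t.ev κ ∈ zpowers π := fun t ht => by
    have := List.all_eq_true.1 c2 t ht
    rw [forceB_eq] at this
    have h := (real.ev k1 k2 t).1
    have := F2.mem_of_memN this
    simp only [List.mem_cons, List.not_mem_nil, or_false] at this
    rcases this with e | e | e <;> rw [e] at h
    · rw [h.ext RC.one]; exact one_mem _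
    · rw [h.ext hπ]; exact mem_zpowers _
    · rw [h.eq (hπ.mul hπ) (by decide +kernel)]; exact mul_mem (mem_zpowers _) (mem_zpowers _)
  have hπ1 : ∀ z ∈ zpowers π, z.1 = 1 := by
    rintro _ ⟨i, rfl⟩
    change π.1 ^ i = 1
    rw [hπ.fst (by decide +kernel), one_zpow]
  have hr : ∀ t ∈ M22.rels, t.ev γ = 1 := fun t ht => Subtype.ext (by
    refine Eq.trans ?_ (hπ1 _ (hZ t ht))
    exact (W.map_ev m22.subtype γ t).trans (W.map_ev (MonoidHom.fst _ _) κ t).symm)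
  have hg : gensOK M22.iv M22.gens = true := by decide +kernel
  have P : IsPres.{0, 0} γ M22.iv M22.rels := IsPres.of_card hγ hr card_m22 (by
    rw [Nat.card_congr ((genW γ M22.gens).equivMapOfInjective _ m22.subtype_injective).toEquiv]
    refine gen22 fun X hX => ?_
    obtain ⟨c, -, e⟩ := anyLt_iff.1 (allL_iff.1 (show allL l6 (fun X => anyLt 7 fun c => Nat.beq X (cE.mt l6 c)) = true by
        decide +kernel) X hX)
    exact ⟨_, ⟨γ c, mem_genW_of_gensOK hγ hg c, rfl⟩, beq_iff.1 e ▸ (k1 c).1⟩) hg M22.tcb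
  let C := centralizer (zpowers π : Set KK)
  have hC : ∀ c, κ c ∈ C := by
    rintro c _ ⟨i, rfl⟩
    exact (Commute.zpow_left (hc c) i)
  have hL : Lab (subLet hC) M22.iv := ⟨Subtype.ext k2.zero, fun c => Subtype.ext (k2.inv c)⟩
  have hz : (zpowers π).subgroupOf C ≤ center C := fun z hz => mem_center_iff.2 fun y => Subtype.ext (y.2 z hz).symm
  have := Schur.normal_of_le_center hz
  obtain ⟨φ, hφ⟩ := P (C ⧸ (zpowers π).subgroupOf C) _ (hL.map (QuotientGroup.mk' _)) fun t ht => by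
    rw [← W.map_ev]
    exact (QuotientGroup.eq_one_iff _).2 (by rw [mem_subgroupOf, coe_ev_subLet]; exact hZ t ht)
  have key : ∀ k ∈ closure (Set.range κ), ∃ (h1 : k.1 ∈ m22) (h2 : k ∈ C), φ ⟨k.1, h1⟩ = (⟨k, h2⟩ : C) := by
    intro k hk
    induction hk using closure_induction with
    | mem x hx => obtain ⟨c, rfl⟩ := hx; exact ⟨k4 c, hC c, hφ c⟩
    | one => exact ⟨one_mem _, one_mem _, map_one φ⟩
    | mul x y _ _ a b =>
      obtain ⟨a1, a2, a3⟩ := a
      obtain ⟨b1, b2, b3⟩ := b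
      exact ⟨mul_mem a1 b1, mul_mem a2 b2, (map_mul φ ⟨_, a1⟩ ⟨_, b1⟩).trans (by rw [a3, b3]; rfl)⟩
    | inv x _ a =>
      obtain ⟨a1, a2, a3⟩ := a
      exact ⟨inv_mem a1, inv_mem a2, (map_inv φ ⟨_, a1⟩).trans (by rw [a3]; rfl)⟩
  intro k hk h1
  obtain ⟨a1, a2, a3⟩ := key k (k5 ▸ hk)
  rw [show (⟨k.1, a1⟩ : m22) = 1 from Subtype.ext h1, map_one, eq_comm, QuotientGroup.eq_one_iff] at a3
  exact a3

theorem zpowers_eq {A : Type*} [Group A] {S : Subgroup A} (h : Nat.card S = 3) {a : A} (ha : a ∈ S) (h1 : a ≠ 1) :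
    zpowers a = S := by
  have : Finite S := Nat.finite_of_card_ne_zero (by omega)
  have h2 : zpowers a ≤ S := zpowers_le.2 ha
  refine eq_of_le_of_card_ge h2 ?_
  rcases (Nat.dvd_prime Nat.prime_three).1 (h ▸ card_dvd_of_le h2) with e | e
  · exact absurd (mem_bot.1 (card_eq_one.1 e ▸ mem_zpowers a)) h1
  · omega

/-- A perfect triple cover of `m22` is `K0`. -/
theorem cover [Finite L] (hr : σ.range = m22) (hk : Nat.card σ.ker = 3) (hp : σ.ker ≤ commutator L) :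
    ∃ e : L ≃* K0, ∀ g, (e g).1.1 = σ g := by
  obtain ⟨κ, k1, k2, k3, k4, k5, k6⟩ := exists_lets
  obtain ⟨π, hπ⟩ := exists_P
  obtain ⟨p1, p2, p3⟩ := k6 π hπ
  have hc := ker_le_center hr hk hp
  choose l l1 l2 using fun c => exists_lift hk (hr ▸ k4 c) (congrArg Prod.fst (k3 c))
  let Γ : Subgroup (L × KK) := closure (Set.range fun c => (l c, κ c))
  have hΓ : ∀ c, (l c, κ c) ∈ Γ := fun c => subset_closure ⟨c, rfl⟩
  have g1 : ∀ x ∈ Γ, x.2.1 = σ x.1 := by
    have : Γ ≤ ((MonoidHom.fst _ _).comp (MonoidHom.snd L KK)).eqLocus (σ.comp (MonoidHom.fst L KK)) :=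
      (closure_le _).2 (by rintro _ ⟨c, rfl⟩; exact (l1 c).symm)
    exact fun x hx => this hx
  have g2 : Γ.map (MonoidHom.snd L KK) = K0 := by
    rw [MonoidHom.map_closure, ← Set.range_comp, ← k5]; rfl
  have g3 : Γ.map (MonoidHom.fst L KK) = ⊤ := by
    refine eq_top_of_map hr hk hp (eq_of_le_of_card_ge ((map_le_range _ _).trans hr.le) ?_).ge
    rw [card_m22]
    refine gen22 fun X hX => ?_
    obtain ⟨c, -, e⟩ := anyLt_iff.1 (allL_iff.1 (show allL l6 (fun X => anyLt 7 fun c => Nat.beq X (cE.mt l6 c)) = true by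
        decide +kernel) X hX)
    exact ⟨_, ⟨_, ⟨_, hΓ c, rfl⟩, l1 c⟩, beq_iff.1 e ▸ (k1 c).1⟩
  have g4 : ∀ x ∈ Γ, σ x.1 = 1 → x.2 ∈ zpowers π := fun x hx h => p3 _ (g2 ▸ ⟨x, hx, rfl⟩) ((g1 x hx).trans h)
  have hπc : ∀ x ∈ Γ, ∀ z ∈ zpowers π, x.2 * z = z * x.2 := fun x hx => by
    have : K0 ≤ centralizer (zpowers π : Set KK) := k5 ▸ (closure_le _).2 (by
      rintro _ ⟨c, rfl⟩ _ ⟨i, rfl⟩
      exact Commute.zpow_left (p1 c) i)
    exact fun z hz => (this (g2 ▸ ⟨x, hx, rfl⟩) z hz).symm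
  let ξ : Γ →* m22 := ((σ.comp (MonoidHom.fst L KK)).comp Γ.subtype).codRestrict m22 fun x => hr ▸ ⟨x.1.1, rfl⟩
  have hξ : ∀ x : Γ, x ∈ ξ.ker ↔ σ x.1.1 = 1 := fun x => Subtype.ext_iff
  have s1 : Function.Surjective ξ := fun ⟨g, hg⟩ => by
    obtain ⟨a, rfl⟩ := hr.ge hg
    obtain ⟨x, hx, rfl⟩ := g3.ge (mem_top a)
    exact ⟨⟨x, hx⟩, rfl⟩
  have s2 : ξ.ker ≤ center Γ := fun x hx => mem_center_iff.2 fun y => Subtype.ext (Prod.ext
    (mem_center_iff.1 (hc ((hξ x).1 hx)) _) (hπc _ y.2 _ (g4 _ x.2 ((hξ x).1 hx))))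
  have s3 : ∀ x : Γ, x ^ 2 ∈ commutator Γ := fun ⟨x, hx⟩ => by
    rw [← Abelianization.ker_of, MonoidHom.mem_ker, map_pow]
    induction hx using closure_induction with
    | mem x hx =>
      obtain ⟨c, rfl⟩ := hx
      rw [← map_pow, show (⟨_, subset_closure ⟨c, rfl⟩⟩ : Γ) ^ 2 = 1 from by
        rw [sq]; exact Subtype.ext (Prod.ext (l2 c) (k3 c)), map_one]
    | one => exact (congrArg (· ^ 2) (map_one _)).trans (one_pow 2)
    | mul x y hx hy a b =>
      rw [show (⟨x * y, mul_mem hx hy⟩ : Γ) = ⟨x, hx⟩ * ⟨y, hy⟩ from rfl, map_mul, mul_pow, a, b, one_mul]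
    | inv x hx a => rw [show (⟨x⁻¹, inv_mem hx⟩ : Γ) = ⟨x, hx⟩⁻¹ from rfl, map_inv, inv_pow, a, inv_one]
  have s4 : Schur.hopf ξ = ξ.ker := inf_eq_left.2 fun x hx => by
    have h3 : x ^ 3 = 1 := by
      obtain ⟨i, hi⟩ := g4 _ x.2 ((hξ x).1 hx)
      refine Subtype.ext (Prod.ext (ker_cube hk ((hξ x).1 hx)) ?_)
      change x.1.2 ^ 3 = 1
      rw [← hi, ← zpow_natCast, ← zpow_mul, mul_comm, zpow_mul, zpow_natCast, hπ.cube, one_zpow]
    have : x = (x ^ 2) ^ 2 := by rw [← pow_mul, show 2 * 2 = 3 + 1 from rfl, pow_succ, h3, one_mul]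
    rw [this]; exact pow_mem (s3 x) 2
  have s5 : ¬σ.ker.prod (zpowers π) ≤ Γ := fun h => by
    obtain ⟨A, _, hA⟩ := Schur.exists_hasSchurMultiplier (G := m22)
    obtain ⟨f, hf⟩ := lb_hopf s1 s2 A hA
    refine Mult.Mathieu.m22_3_nd A hA (dvd_trans ?_ (card_dvd_of_surjective f hf))
    have : Nat.card (σ.ker.prod (zpowers π)) = 3 ^ 2 := by
      rw [Nat.card_congr (prodEquiv _ _).toEquiv, Nat.card_prod, hk, Nat.card_zpowers, hπ.ord]; rfl
    rw [s4, ← this, ← Nat.card_congr (subgroupOfEquivOfLe h).toEquiv]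
    exact card_dvd_of_le fun x hx => (hξ x).2 hx.1
  have i1 : Function.Injective ((MonoidHom.fst L KK).comp Γ.subtype) := by
    rw [injective_iff_map_eq_one]
    rintro ⟨⟨a, b⟩, hx⟩ (rfl : a = 1)
    by_contra hne
    have hb : b ≠ 1 := by rintro rfl; exact hne rfl
    have e := zpowers_eq (by rw [Nat.card_zpowers, hπ.ord]) (g4 _ hx (map_one σ)) hb
    refine s5 fun ⟨a, c⟩ h => ?_
    obtain ⟨⟨a, d⟩, hy, rfl⟩ := g3.ge (mem_top a)
    obtain ⟨i, hi⟩ : d⁻¹ * c ∈ zpowers b := e ▸ mul_mem (inv_mem (g4 _ hy h.1)) h.2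
    convert mul_mem hy (zpow_mem hx i) using 1
    exact Prod.ext (by simp) (by simp [show b ^ i = d⁻¹ * c from hi])
  have i2 : Function.Injective ((MonoidHom.snd L KK).comp Γ.subtype) := by
    rw [injective_iff_map_eq_one]
    rintro ⟨⟨a, b⟩, hx⟩ (rfl : b = 1)
    by_contra hne
    have ha : a ≠ 1 := by rintro rfl; exact hne rfl
    have e := zpowers_eq hk (show a ∈ σ.ker from (g1 _ hx).symm) ha
    refine s5 fun ⟨c, d⟩ h => ?_
    obtain ⟨⟨b, d⟩, hy, rfl⟩ := g2.ge (zpowers_le.2 p2 h.2)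
    have hb : b ∈ σ.ker := by
      obtain ⟨j, hj⟩ := h.2
      refine (g1 _ hy).symm.trans ?_
      change d.1 = 1
      rw [← show π ^ j = d from hj]
      change π.1 ^ j = 1
      rw [hπ.fst (by decide +kernel), one_zpow]
    obtain ⟨i, hi⟩ : b⁻¹ * c ∈ zpowers a := e ▸ mul_mem (inv_mem hb) h.1
    convert mul_mem hy (zpow_mem hx i) using 1
    exact Prod.ext (by simp [show a ^ i = b⁻¹ * c from hi]) (by simp)
  let e1 := MulEquiv.ofBijective _ ⟨i1, fun a => let ⟨x, hx, e⟩ := g3.ge (mem_top a); ⟨⟨x, hx⟩, e⟩⟩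
  let e2 : Γ ≃* K0 := MulEquiv.ofBijective
    (((MonoidHom.snd L KK).comp Γ.subtype).codRestrict K0 fun x => g2 ▸ ⟨x, x.2, rfl⟩)
    ⟨fun _ _ h => i2 (congrArg Subtype.val h), fun a => let ⟨x, hx, e⟩ := g2.ge a.2; ⟨⟨x, hx⟩, Subtype.ext e⟩⟩
  refine ⟨e1.symm.trans e2, fun g => ?_⟩
  obtain ⟨x, rfl⟩ := e1.surjective g
  rw [MulEquiv.trans_apply, e1.symm_apply_apply]
  exact g1 _ x.2

end

end Cfsg.Lib.J4T.Lx
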