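import Cfsg.Agent.Lib.F2.Basic
import Cfsg.Agent.Lib.Mathieu.Classes
import Cfsg.Prelude.Def_Transfer

/-!
# Groups of type J₄: interfaces

`Hyp z E φ`: the common form of the hypotheses on `C(z)`.
`Loc G`: coordinates for `H = E K` (`E = 2^(1+12)`, `K / ⟨z⟩ = 3.M₂₂.2`).  An element of `K / ⟨z⟩` has a *code*
`X`: `pc' X` is its permutation in `M₂₄` (stabiliser of the duad `{0, 23}`), `mc X` its matrix on `E / ⟨z⟩ = F₂¹²`.
`Glob G`: in addition `M = 2¹¹ M₂₄`, acting on `V = {cm m}` as on the even cocode.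
-/

set_option autoImplicit false

namespace Cfsg.Lib.J4T

open Cfsg.Lib.Calc Cfsg.Lib.F2 Cfsg.Lib.Mathieu Cfsg.Lib.Golay Subgroup
open scoped Pointwise

/-- parity of `v &&& w` (12 bits) -/
noncomputable def dot (v w : ℕ) : ℕ := appA 1 v w 12
def FM : ℕ := 0x2003000800c002003800c002003000800c0
/-- the cocycle of the canonical section -/
noncomputable def ff (v w : ℕ) : ℕ := dot (app 12 FM v) w
/-- the quadratic form (squares) -/
noncomputable def qq (v : ℕ) : ℕ := ff v v
/-- the symplectic form (commutators) -/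
noncomputable def bb (v w : ℕ) : ℕ := Nat.xor (ff v w) (ff w v)

/-- permutation part of a code -/
def pc' (X : ℕ) : ℕ := Nat.land X (msk 120)
/-- matrix part of a code -/
def mc (X : ℕ) : ℕ := Nat.shiftRight X 120
/-- product of codes -/
noncomputable def mu (X Y : ℕ) : ℕ :=
  Nat.add (mulT (pc' X) (pc' Y)) (Nat.shiftLeft (mmul 12 (mc X) (mc Y)) 120)
/-- `1` for the codes outside `3.M₂₂` -/
noncomputable def og (X : ℕ) : ℕ := cnd (Nat.beq (Nat.land X 31) 0) 0 1

/-- codes of `1`, `p`, `p²`, `s` -/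
def cI : ℕ := 0x800400200100080040020010008004002001bdab49ca307b9ac5a928398a418820
def cP : ℕ := 0xc008003002000c008003002000c008003002bdab49ca307b9ac5a928398a418820
def cP2 : ℕ := 0x400c001003000400c001003000400c001003bdab49ca307b9ac5a928398a418820
def cS : ℕ := 0xb00d001002005c0a4002103203501a003001059949c9a77a2352092e814cb1a837
/-- the letters: six involutions (over `Lib.Mult.M22.cs`), `p`, and the outer involution `s` -/
def lets : List ℕ := [0x9c07802001000800400200100b8064292171baeae9c1522d18db4464399e848820,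
  0x800400540fc0e409c01ad35bc0e80980f40abd96e94df08d1a7a8ca66212450820,
  0x440cc0e409c08404c01b636dc488c4bbf66abb97441c837d8a6aa933931b180820,
  0xbc06802001000800400200100580f4392271b8ea89aa11610af4c974399aeb0820,
  0xc0080200100400c00803402008004090070bd9629c192538b1abd28191a63d020,
  0x729e171603d01303202f01a0a1f53a48cc48bd8c89c96973ca48aa140d5ac188e0, cP, cS]

/-- The hypotheses on the centraliser of `z`. -/
structure Hyp {G : Type*} [Group G] (z : G) (E : Subgroup G) (φ : centralizer ({z} : Set G) →* M24) : Prop where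
  ord : orderOf z = 2
  es : IsExtraspecial 2 E
  card : Nat.card E = 2 ^ 13
  le : E ≤ centralizer {z}
  norm : centralizer {z} ≤ normalizer (E : Set G)
  cen : centralizer {z} ⊓ centralizer (E : Set G) ≤ E
  range : φ.range = MulAction.stabilizer M24 (Golay.G.toF 8388609)
  le_ker : E.subgroupOf (centralizer {z}) ≤ φ.ker
  card_ker : Nat.card φ.ker = 3 * 2 ^ 13
  perf : φ.ker ≤ ⁅m22.comap φ, m22.comap φ⁆ ⊔ E.subgroupOf (centralizer {z})

/-- `k ∈ K` has code `X`. -/
def LK {G : Type*} [Group G] (z : G) (e : ℕ → G) (K : Subgroup G) (φ : G → M24) (k : G) (X : ℕ) : Prop :=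
  k ∈ K ∧ R (φ k) (pc' X) ∧ ∀ v < 4096, k * e v * k⁻¹ = e (app 12 (mc X) v) * z ^ (og X * qq v)

/-- Coordinates for `H = 2^(1+12).3.M₂₂.2`. -/
structure Loc (G : Type*) [Group G] where
  z : G
  e : ℕ → G
  H : Subgroup G
  K : Subgroup G
  φ : G → M24
  ord : orderOf z = 2
  zK : z ∈ K
  KH : K ≤ H
  eH : ∀ v, e v ∈ H
  Hz : H ≤ centralizer {z}
  e_mul : ∀ v < 4096, ∀ w < 4096, e v * e w = e (v ^^^ w) * z ^ ff v w
  φ_mul : ∀ g ∈ H, ∀ h ∈ H, φ (g * h) = φ g * φ h
  φ_e : ∀ v, φ (e v) = 1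
  dec : ∀ h ∈ H, ∃ v < 4096, ∃ k ∈ K, h = e v * k
  lets : ∀ X ∈ lets, ∃ k, LK z e K φ k X
  gen : K ≤ closure (insert z {k | ∃ X ∈ J4T.lets, LK z e K φ k X})
  ker : ∀ k ∈ K, φ k = 1 → LK z e K φ k cI ∨ LK z e K φ k cP ∨ LK z e K φ k cP2
  faith : ∀ k, LK z e K φ k cI → k ∈ zpowers z

namespace Loc

variable {G : Type*} [Group G] (L : Loc G)

/-- `k ∈ K` has code `X` -/
abbrev Cd (k : G) (X : ℕ) : Prop := LK L.z L.e L.K L.φ k X

/-- an element with code `X` (determined up to `z`) -/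
noncomputable def el (X : ℕ) : G := Calc.dec L.Cd X

/-- the extraspecial group -/
def E : Subgroup G := closure (insert L.z (L.e '' Set.Iio 4096))

end Loc

/-- codes of two elements of order 3 and two involutions of the hexad group -/
def cX1 : ℕ := 0x1803403002007c0e8003202103d02b010030bb9959c9e36a23432d368288239420
def cX2 : ℕ := 0x3402c0c408c0d00b0001a03501b03602b016b8eb44cd11b1dcc51a506ac8279420
def cA : ℕ := 0x80c40821313208404c020010008004002001bba95821336d9e15aa32198a438980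
def cB : ℕ := 0x80440c23912708c048020010008004002001b8daf94d88a1eb15a830718a4b0920
/-- coordinates (11 bits) of the duads `{i, 23}` -/
def ELL : ℕ := 0x8b46314d33b2579a73dd84433265ad4d93559f3302240b6b533866cb585121
/-- coordinates of an even subset of the 24 points -/
noncomputable def lin (m : ℕ) : ℕ := appA 11 ELL m 24
/-- a tetrad of the sextet `z` -/
def Z0 : ℕ := 0x4051
/-- the octad `hexad ∪ {0, 23}` -/
def O0 : ℕ := 0x800c75

namespace Loc

variable {G : Type*} [Group G] (L : Loc G)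

noncomputable def a1 : G := L.el cA * L.el cX1 * (L.el cA)⁻¹ * (L.el cX1)⁻¹
noncomputable def a2 : G := L.el cX1 * L.a1 * (L.el cX1)⁻¹
noncomputable def a3 : G := L.el cB * L.el cX2 * (L.el cB)⁻¹ * (L.el cX2)⁻¹
noncomputable def a4 : G := L.el cX2 * L.a3 * (L.el cX2)⁻¹

/-- the element of `C_V(p)` with coordinates `c` (5 bits) -/
noncomputable def aa (c : ℕ) : G :=
  L.a1 ^ get 1 c 0 * L.a2 ^ get 1 c 1 * L.a3 ^ get 1 c 2 * L.a4 ^ get 1 c 3 * L.z ^ get 1 c 4
/-- the element of `V` with coordinates `c` (11 bits) -/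
noncomputable def vv (c : ℕ) : G := L.e (c % 64) * L.aa (c / 64)
/-- the element of `V` attached to an even subset -/
noncomputable def cm (m : ℕ) : G := L.vv (lin m)
/-- the elementary abelian group of order `2¹¹` -/
def V : Subgroup G := closure (L.vv '' Set.Iio 2048)

end Loc

/-- `H` together with `M = 2¹¹ M₂₄`. -/
structure Glob (G : Type*) [Group G] extends Loc G where
  M : Subgroup G
  ρ : G → M24
  ρ_mul : ∀ g ∈ M, ∀ h ∈ M, ρ (g * h) = ρ g * ρ h
  VM : toLoc.V ≤ M
  conj : ∀ g ∈ M, ∀ c, R (ρ g) c → ∀ m < 2 ^ 24, pc m % 2 = 0 → g * toLoc.cm m * g⁻¹ = toLoc.cm (img c m)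
  kerρ : ∀ g ∈ M, ρ g = 1 → g ∈ toLoc.V
  surj : ∀ x, ∃ g ∈ M, ρ g = x
  HM : ∀ h ∈ H, φ h ∈ MulAction.stabilizer M24 (Golay.G.toF O0) → h ∈ M
  MH : ∀ g ∈ M, g * z = z * g → g ∈ H

end Cfsg.Lib.J4T
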