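import Cfsg.Agent.Lib.J4T.ModD

/-! # The Sylow 11-subgroup of a group with the coordinates of J₄ -/

set_option autoImplicit false
set_option maxRecDepth 100000

namespace Cfsg.Lib.J4T

open Cfsg.Lib.Calc Cfsg.Lib.F2 Cfsg.Lib.Mathieu Cfsg.Lib.Big Cfsg.Lib.J4 Subgroup Cfsg.Lib.Transfer
open scoped commutatorElement

variable {G : Type*} [Group G]

theorem subset_cl [Finite G] {N : Subgroup G} {u : G} {T : Set G} (hT : Grp.cl N u ⊆ T) {a b : ℕ} (h1 : T.ncard ≤ a)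
    (h2 : Nat.card ↥(N ⊓ centralizer {u}) ≤ b) (h3 : a * b ≤ Nat.card N) : T ⊆ Grp.cl N u :=
  (Set.eq_of_subset_of_ncard_le hT (h1.trans (Nat.le_of_mul_le_mul_right
    (((Nat.mul_le_mul_left a h2).trans h3).trans (Grp.ncard_cl_mul N u).ge) Nat.card_pos))).ge

theorem isConj_of_cl {N : Subgroup G} {u v : G} (h : v ∈ Grp.cl N u) : IsConj v u :=
  let ⟨k, _, e⟩ := h; (isConj_iff.2 ⟨k, e⟩).symm

theorem ncard_diff_sub [Finite G] {A B : Subgroup G} (h : A ≤ B) :
    ((B : Set G) \ A).ncard = Nat.card B - Nat.card A :=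
  Set.ncard_sdiff h

/-- normal form in a Heisenberg group -/
noncomputable def hzC (X Y A : ℕ) (e : List ℕ) (i : ℕ) : ℕ :=
  eM.mul (eM.mul (eM.pw Y (Calc.nth e (i + 1))) (eM.pw X (Calc.nth e i))) (eM.pw A (Calc.nth e (i + 2)))

/-- `g` normalises a Heisenberg group -/
noncomputable def normH (X Y A g : ℕ) (e : List ℕ) : Bool := band (Nat.beq (eM.mul g X) (eM.mul (hzC X Y A e 0) g))
  (band (Nat.beq (eM.mul g Y) (eM.mul (hzC X Y A e 3) g)) (Nat.beq (eM.mul g A) (eM.mul (eM.pw A (Calc.nth e 6)) g)))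

theorem Heis.normH {J : Mod G} {p : ℕ} {x y c g : G} {U : Subgroup G} (h : Heis p x y c U) {X Y A C : ℕ} (a : J.R x X)
    (b : J.R y Y) (d : J.R c A) (k : J.R g C) {e : List ℕ} (ok : normH X Y A C e = true) : g ∈ normalizer (U : Set G) :=
  have := J.fin
  have r : ∀ i, J.R _ (hzC X Y A e i) := fun _ => Mod.mul (Mod.mul (Mod.pw b _) (Mod.pw a _)) (Mod.pw d _)
  h.norm (h.mem.2 ⟨_, _, _, Mod.cj k a (r 0) (band_eq_true.1 ok).1⟩)
    (h.mem.2 ⟨_, _, _, Mod.cj k b (r 3) (band_eq_true.1 (band_eq_true.1 ok).2).1⟩)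
    (Mod.cj k d (Mod.pw d _) (band_eq_true.1 (band_eq_true.1 ok).2).2 ▸ pow_mem h.c_mem _)

/-- a word for an element of order 11 -/
def wa : List ℕ := [6, 6, 4, 3, 1, 0, 2, 5, 1, 4, 0, 2]
/-- its matrix -/
noncomputable def cA11 : ℕ := mz cZ 1 (kC wa)

def g11_R0 : ℕ := (nat_lit 0x60200000e0000000180000000200000000500000000200000001c000000030000000028020000060000000100000000000000000300000000a40400000400000001501000000)
def g11_D0 : ℕ := (nat_lit 0x820106015705001802001502000d02000602000302000000000000)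
noncomputable def g11_L0 : Calc.Lv :=
  ⟨(nat_lit 11), (nat_lit 13), (nat_lit 3), (nat_lit 8), (nat_lit 2), get (nat_lit 12) (nat_lit 0x701901801a01b01000601c01),
    fun l x => get (nat_lit 35) g11_R0 (Nat.add (Nat.mul x (nat_lit 2)) (Nat.sub l (nat_lit 11))), get (nat_lit 24) g11_D0⟩
noncomputable def g11_L1 : Calc.Lv :=
  ⟨(nat_lit 4), (nat_lit 6), (nat_lit 1), (nat_lit 6), (nat_lit 0), get (nat_lit 11) (nat_lit 0x10090180340580800),
    fun l x => get (nat_lit 3) (nat_lit 27936316179) (Nat.add (Nat.mul x (nat_lit 2)) (Nat.sub l (nat_lit 4))), get (nat_lit 10) (nat_lit 2476587614208)⟩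
noncomputable def g11_lvs : List Calc.Lv := [g11_L0, g11_L1]

theorem chk11 : pull [7176, 13, 16, 18, 22, 11, 31775, 27, 32, 30, 32, 34, 34, 34, 34, 41, 10240, 23, 18451, 20, 1024, 2, 3, 4, 4, 5, 6, 8, 8, 9, 10, 12, 13, 14, 15, 15, 17, 18, 19, 19, 21, 21, 23, 64581, 24601, 25, 26, 28, 28, 29, 31, 31, 32, 33, 34, 76878, 80, 77, 3072, 15360, 17408, 42026, 43, 43, 45, 46, 46, 48, 49, 49, 51, 51, 53, 53, 55, 96354, 98, 98, 102, 4096, 19456, 62525, 63, 64, 65, 4096, 69632, 97376, 98, 101, 103, 105, 109, 99, 121975, 119, 116, 120, 119, 118, 120, 125, 125, 125, 123, 11264, 112, 89176, 89, 89, 91, 91, 92, 94, 94, 95, 97, 97, 99, 99, 100, 104549, 103, 103, 105, 106, 106, 108, 108, 110, 110, 112, 113, 113, 115, 115, 117, 117, 119, 120, 120, 164002, 168, 163, 3072, 172032, 25600, 130176, 129, 130, 130, 131, 132, 133, 135, 136, 139400, 138, 139, 139, 140, 142, 142, 144, 145, 145, 147, 190652, 188, 193, 190, 4096, 199680, 17408, 27648,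 158875, 156, 157, 159, 4096, 74752, 193726, 192, 194, 202, 191, 212174, 206, 209, 208, 214, 214, 218, 7168] [107, 13, 219, 0] (fun C => forceB cA11 fun A =>
    band (band (band (Nat.beq (eM.pw (C 0) 11) eM.one) (Nat.beq (eM.pw (C 1) 11) eM.one))
      (band (Nat.beq (eM.mul (C 0) (C 1)) (eM.mul (eM.mul (C 1) (C 0)) A)) (band (eM.com (C 0) A) (eM.com (C 1) A))))
    (band (band (normH (C 0) (C 1) A (C 2) [4, 1, 2, 1, 6, 3, 1]) (normH (C 0) (C 1) A (C 3) [4, 2, 4, 9, 7, 4, 10]))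
      (band (eM.homOK 9 4 [31813091856, 35743077936] ([2, 3].map C) [1025, 2, 2, 4, 0, 5126, 7, 7, 9, 9, 6, 7169, 12300, 14336, 14336, 16384, 16385] [19, 12, 6, 5, 7, 13, 1, 0, 2, 3, 4, 17, 18] g11_lvs)
        (lowG ([2, 3].map C) [1024, 2, 1, 2, 4, 4, 1024, 2050, 5, 1027, 3075, 4099] [([6, 1, 48, 0x95d6eb60fe56b7a3e3b4ce2f7ecc, 6, 0x5ac71eb484585470e73dddcd9757ff002f864ca52e490bfd6c9676d0bf0492604569730e], [5, 4, 3, 2, 1, 0])] 48)))) = true := by decide +kernel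

theorem fix11 : allBig 4096 (fun v => bor (Nat.beq (app 12 (mc (evw wa)) v) v).not (memN v [0, 1081, 2078, 3111])) = true := by
  decide +kernel

instance fact11 : Fact (Nat.Prime 11) := ⟨Nat.prime_eleven⟩

namespace Mod

variable (J : Mod G)

/-- an element of class 11A -/
def a11 : G := J.kw wa * J.z ^ 1

theorem Ra : J.R J.a11 cA11 := mz (J.Rw _) 1
theorem cd_a : J.Cd J.a11 (evw wa) := (J.cdw (by decide)).mul_zp 1
theorem ord_a : orderOf J.a11 = 11 := ordp J.Ra Nat.prime_eleven (by decide +kernel)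
theorem p_a : J.k 6 * J.a11 = J.a11 * J.k 6 := com (J.Rk 6) J.Ra (by decide +kernel)

theorem ex11 : ∃ x y U, Heis 11 x y J.a11 U ∧
    ∃ K ≤ normalizer (U : Set G), Nonempty (K ≃* GL (Fin 2) (ZMod 3)) ∧ Nat.card K = 48 := by
  have := J.fin
  obtain ⟨g, C, hR, e⟩ := J.pull chk11
  simp only [forceB_eq, band_eq_true] at e
  obtain ⟨⟨⟨e1, e2⟩, e3, e4, e5⟩, ⟨e6, e7⟩, e8⟩ := e
  obtain ⟨U, h⟩ := exists_heis (by decide) (pw_eq (hR 0) e1) (pw_eq (hR 1) e2) J.ord_a
    (eq (mul (hR 0) (hR 1)) (mul (mul (hR 1) (hR 0)) J.Ra) e3) (com (hR 0) J.Ra e4) (com (hR 1) J.Ra e5)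
  refine ⟨_, _, U, h, _, gen_le_of hR (l := [2, 3]) (by
    simpa using ⟨h.normH (hR 0) (hR 1) J.Ra (hR 2) e6, h.normH (hR 0) (hR 1) J.Ra (hR 3) e7⟩),
    iso_of ((Grp.coded_zmod 3).inj_vec (k := 2) rfl) ((Grp.coded_zmod 3).faithful_GL rfl)
      ((Grp.coded_zmod 3).gl_list (As := [31, 12]) rfl (by decide +kernel)) (ex_of hR _) (band_eq_true.2 e8)
      (by rw [Matrix.card_GL_field]; decide) (by decide +kernel)⟩

theorem mem_D {g : G} (hg : g ∈ centralizer {J.a11} ⊓ centralizer {J.z}) : ∃ v ∈ [0, 1081, 2078, 3111], ∃ i < 11, ∃ j < 3,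
    ∃ b < 2, g = J.e v * (J.a11 ^ i * (J.k 6 ^ j * J.z ^ b)) := by
  have aH := J.cd_a.memH
  have o := J.orderOf_φ Nat.prime_eleven (by decide) aH J.ord_a
  have gH : g ∈ J.H := J.hH ▸ hg.2
  have ga := mem_centralizer_singleton_iff.1 hg.1
  have h1 : zpowers (J.φ J.a11) = centralizer {J.φ J.a11} := eq_of_le_of_card_ge
    (zpowers_le.2 (mem_centralizer_singleton_iff.2 rfl))
    (by rw [Nat.card_zpowers, o]; exact Nat.le_of_dvd (by decide) (cen24 (by decide +kernel) o))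
  have h2 : J.φ g ∈ zpowers (J.φ J.a11) :=
    h1 ▸ mem_centralizer_singleton_iff.2 (by rw [← J.φ_mul _ gH _ aH, ga, J.φ_mul _ aH _ gH])
  obtain ⟨i, hi, e⟩ := (mem_zpowers_iff_mem_range_orderOf.1 h2 |> Finset.mem_image.1)
  obtain ⟨v, hv, k, X, hk, rfl⟩ := J.dec' gH
  have h3 := pow_mem J.cd_a.mem i
  obtain ⟨j, hj, b, hb, e'⟩ := Loc.ker_K J.cp (mul_mem (inv_mem h3) hk.mem) (by
    rw [J.φ_mul _ (inv_mem (J.KH h3)) _ hk.memH, J.φ_inv (J.KH h3), J.φ_pow aH, e, J.φ_ek _ hk.memH, inv_mul_cancel])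
  rw [inv_mul_eq_iff_eq_mul] at e'
  refine ⟨v, ?_, i, o ▸ Finset.mem_range.1 hi, j, hj, b, hb, e' ▸ rfl⟩
  have h4 : Commute k J.a11 := e' ▸ ((Commute.refl _).pow_left i).mul_left
    ((Commute.pow_left J.p_a j).mul_left (J.comm_pow aH b).symm)
  have h5 := J.cd_a.act hv
  rw [mul_assoc, h4.eq, ← mul_assoc, ← mul_assoc, mul_left_inj] at ga
  rw [← ga, mul_inv_cancel_right, ← mul_one (J.e v), ← pow_zero J.z] at h5
  exact mem_of_memN ((bor_eq_true.1 (allBig_iff.1 fix11 v hv)).resolve_left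
    (by simp [← (J.e_inj hv (app12_lt _ _) h5).1]))

theorem card_K0_cen {x : G} {b : ℕ} (hx : x ∈ J.K0) (h : Nat.card (centralizer {J.φ x}) ∣ b) :
    Nat.card ↥(J.K0 ⊓ centralizer {x}) ∣ 6 * b := by
  have k : J.K0 ⊓ centralizer {x} ≤ J.H := inf_le_left.trans inf_le_left
  rw [Loc.card_im k]
  refine mul_dvd_mul ?_ ((card_dvd_of_le fun y hy => ?_).trans h)
  · rw [← Loc.ord_zp J.cp J.k6, ← Nat.card_zpowers, ← J.ker_K0]
    exact card_dvd_of_le (inf_le_inf_left _ inf_le_left)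
  · obtain ⟨g, hg, rfl⟩ := (Loc.mem_im k).1 hy
    exact mem_centralizer_singleton_iff.2 (by
      rw [← J.φ_mul _ hg.1.1 _ hx.1, mem_centralizer_singleton_iff.1 hg.2, J.φ_mul _ hx.1 _ hg.1.1])

theorem cen_a : Nat.card (centralizer {J.a11}) = 31944 := by
  have := J.fin
  have aH := J.cd_a.memH
  have eD : ∀ v ∈ [1081, 2078], J.e v ∈ centralizer {J.a11} := fun v hv => mem_centralizer_singleton_iff.2 (by
    simp only [List.mem_cons, List.not_mem_nil, or_false] at hv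
    rcases hv with rfl | rfl <;> exact com (J.Re _) J.Ra (by decide +kernel))
  have hE : ∀ v < 4096, ∀ b, J.e v * J.z ^ b ∈ J.E := fun v hv b => mul_mem (J.e_mem_E hv) (pow_mem J.z_mem_E b)
  have odd : ∀ {g : G} {n : ℕ}, g ∈ J.E → Odd n → g ^ n = 1 → g = 1 := fun {g n} hg hn e => orderOf_eq_one_iff.1
    (Nat.eq_one_of_dvd_coprimes ((Nat.coprime_two_left.2 hn).pow_left 13)
      (J.card_E ▸ orderOf_dvd_natCard _ hg) (orderOf_dvd_of_pow_eq_one e))
  have cm : ∀ i j b, J.a11 ^ i * (J.k 6 ^ j * J.z ^ b) = J.z ^ b * (J.k 6 ^ j * J.a11 ^ i) := fun i j b => by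
    rw [J.comm_pow (pow_mem J.cp.memH j), ← mul_assoc, J.comm_pow (pow_mem aH i), mul_assoc, (Commute.pow_pow J.p_a j i).eq]
  obtain ⟨n, h1, h2, h3⟩ := zl (C := centralizer {J.a11}) J.ord
    (mem_comm (eD 1081 (by simp)) (eD 2078 (by simp)) ((J.e_comm (by decide) (by decide)).trans
      (by rw [show bb 1081 2078 = 1 by decide +kernel, pow_one])))
    Nat.prime_eleven (by decide) J.ord_a (mem_centralizer_singleton_iff.2 rfl) le_rfl (fun g hg h => by
      have zC : J.z ∈ centralizer {J.a11} := mem_centralizer_singleton_iff.2 (J.comm aH).symm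
      obtain ⟨v, hv, i, hi, j, hj, b, hb, e⟩ := J.mem_D (g := g * J.z * g⁻¹)
        ⟨mul_mem (mul_mem hg zC) ((centralizer _).inv_mem hg), mem_centralizer_singleton_iff.2 h.symm.eq⟩
      have o : orderOf (g * J.z * g⁻¹) = 2 := (orderOf_conj' _ _).trans J.ord
      generalize g * J.z * g⁻¹ = t at e o
      have v' : v < 4096 := (by decide : ∀ v ∈ [0, 1081, 2078, 3111], v < 4096) v hv
      have t2 : t * t = 1 := by rw [← sq, ← o, pow_orderOf_eq_one]
      have k1 := mul_mem (pow_mem J.cp.mem j) (pow_mem J.cd_a.mem i)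
      have k2 : (J.k 6 ^ j * J.a11 ^ i) ^ 33 = 1 := by
        rw [(Commute.pow_pow J.p_a j i).mul_pow, ← pow_mul, ← pow_mul,
          orderOf_dvd_iff_pow_eq_one.1 (J.k6 ▸ Dvd.dvd.mul_left (by decide) j),
          orderOf_dvd_iff_pow_eq_one.1 (J.ord_a ▸ Dvd.dvd.mul_left (by decide) i), one_mul]
      rw [cm, ← mul_assoc] at e
      generalize J.k 6 ^ j * J.a11 ^ i = u at e k1 k2
      have k3 : u * u ∈ J.E := by
        have := mul_mem (hE v v' b) (J.conj_mem_E (J.KH k1) (hE v v' b))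
        rw [show J.e v * J.z ^ b * (u * (J.e v * J.z ^ b) * u⁻¹) = t * t * (u * u)⁻¹ by rw [e]; group, t2, one_mul] at this
        exact inv_mem_iff.1 this
      have k4 := odd k3 (n := 33) (by decide) (by rw [← sq, ← pow_mul, mul_comm, pow_mul, k2, one_pow])
      rw [show 33 = 2 * 16 + 1 from rfl, pow_succ, pow_mul, sq, k4, one_pow, one_mul] at k2
      rw [k2, mul_one] at e
      rw [e, mul_assoc, ← mul_assoc (J.z ^ b), ← J.comm_pow (J.eH v), mul_assoc, J.zp_sq, mul_one, J.e_sq v'] at t2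
      obtain rfl : v = 0 := by_contra fun v0 => J.z_ne (by
        rwa [(by decide +kernel : ∀ v ∈ [0, 1081, 2078, 3111], v ≠ 0 → qq v = 1) v hv v0, pow_one] at t2)
      rw [J.e_zero, one_mul] at e
      exact e.trans ((J.zp_cases b).resolve_left fun k => by simp [e, k] at o))
    fun N a b d x hx => by
      obtain ⟨v, hv, i, hi, j, hj, c, hc, e⟩ := J.mem_D (a hx)
      have v' : v < 4096 := (by decide : ∀ v ∈ [0, 1081, 2078, 3111], v < 4096) v hv
      have xH : x ∈ J.H := J.hH ▸ (a hx).2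
      have k1 : x * J.e 1081 * x⁻¹ = J.e 1081 := by
        have e1 : J.e 1081 ∈ J.E := J.e_mem_E (by decide)
        refine mul_inv_eq_one.1 (odd (mul_mem (J.conj_mem_E xH e1) (inv_mem e1)) d ?_)
        refine congrArg Subtype.val (pow_card_eq_one' (G := N) (x := ⟨_, ?_⟩))
        simpa [mul_assoc] using mul_mem hx
          ((mem_normalizer_iff.1 (b ⟨eD 1081 (by simp), J.Hz (J.eH _)⟩) _).1 (inv_mem hx))
      rw [cm, ← mul_assoc (J.z ^ c), ← J.comm_pow (pow_mem J.cp.memH j), ← mul_assoc] at e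
      obtain rfl : j = 0 := by
        have ea : J.a11 ^ i * J.e 1081 * (J.a11 ^ i)⁻¹ = J.e 1081 :=
          mul_inv_eq_iff_eq_mul.2 (Commute.pow_left (mem_centralizer_singleton_iff.1 (eD 1081 (by simp))).symm i)
        rw [e, show ∀ s u w : G, s * u * w * (s * u)⁻¹ = s * (u * w * u⁻¹) * s⁻¹ from fun _ _ _ => by group, ea] at k1
        have k2 : ∀ X, J.Cd (J.k 6 ^ j) X → app 12 (mc X) 1081 = 1081 := fun X h => (J.e_inj (app12_lt _ _) (by decide)
          (b := 0) ((J.conj_e v' (h.mul_zp c) (by decide)).symm.trans (k1.trans (by simp)))).1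
        interval_cases j
        exacts [rfl, absurd (k2 _ ((pow_one (J.k 6)).symm ▸ J.cp)) (by decide +kernel),
          absurd (k2 _ (Loc.cd_P2 J.cp)) (by decide +kernel)]
      rw [pow_zero, one_mul, ← mul_inv_eq_iff_eq_mul] at e
      have k3 : Commute x (J.a11 ^ i)⁻¹ := (Commute.pow_right (mem_centralizer_singleton_iff.1 (a hx).1) i).inv_right
      rw [mul_inv_eq_one.1 (odd (g := x * (J.a11 ^ i)⁻¹) (e ▸ hE v v' c) (d.mul (by decide : Odd 11)) (by
        rw [k3.mul_pow, pow_mul, show x ^ Nat.card N = 1 from congrArg Subtype.val (pow_card_eq_one' (G := N) (x := ⟨x, hx⟩)),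
          inv_pow, ← pow_mul, (orderOf_dvd_iff_pow_eq_one (x := J.a11)).1
            (by rw [J.ord_a]; exact (dvd_mul_left 11 _).mul_left i)]; simp))]
      exact npow_mem_zpowers _ _
  have h4 : Nat.card ↥(centralizer {J.a11} ⊓ centralizer {J.z}) ≤ 264 :=
    (card_le_of_surj (fun t : Fin 4 × Fin 11 × Fin 3 × Fin 2 => J.e ([0, 1081, 2078, 3111].get t.1) *
      (J.a11 ^ t.2.1.1 * (J.k 6 ^ t.2.2.1.1 * J.z ^ t.2.2.2.1))) fun g hg => by
        obtain ⟨v, hv, i, hi, j, hj, b, hb, e⟩ := J.mem_D hg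
        obtain ⟨t, rfl⟩ := List.get_of_mem hv
        exact ⟨(t, ⟨i, hi⟩, ⟨j, hj⟩, ⟨b, hb⟩), e.symm⟩).trans (by simp)
  obtain ⟨d, hd⟩ : 11 ∣ Nat.card ↥(centralizer {J.a11} ⊓ centralizer {J.z}) :=
    J.ord_a ▸ orderOf_dvd_natCard _ ⟨mem_centralizer_singleton_iff.2 rfl, J.Hz aH⟩
  have h5 : n * d = Nat.card (centralizer {J.a11}) := by rw [hd] at h1; linarith
  have h6 : n ∣ 86775571046077562880 := J.card ▸ (h5 ▸ dvd_mul_right n d).trans (card_subgroup_dvd_card _)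
  have h7 := le_of_primes (a := 3) Nat.prime_eleven (fun q hq hn => by_contra fun q1 => ?_) h6 (by decide) (by decide)
  · obtain ⟨x, y, U, h, K, k1, -, k2⟩ := J.ex11
    have k3 := card_norm_dvd K J.a11
    rw [inf_eq_left.2 (k1.trans h.norm_le), k2, J.ord_a, show Nat.totient 11 = 10 by decide] at k3
    have k4 := k3.trans (Nat.mul_dvd_mul_right (card_dvd_of_le inf_le_right) 10)
    have k5 := h.card ▸ card_dvd_of_le h.le_cen
    have : n * d ≤ 11 ^ 3 * 24 := Nat.mul_le_mul h7 (by omega)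
    have := Nat.card_pos (α := centralizer {J.a11})
    omega
  obtain ⟨S, s1, -, ⟨k, s3, s4⟩, s5, s6⟩ := h3 q hq q1 hn
  have s7 : q ^ 2 ∣ 86775571046077562880 := ((pow_dvd_pow q (by omega)).trans s4).trans h6
  obtain rfl : q = 3 := by
    rcases primes_G hq (hn.trans h6) with rfl | rfl | rfl | rfl | rfl | rfl | rfl | rfl | rfl | rfl <;>
      first | rfl | exact absurd rfl q1 | exact absurd (h2.of_dvd_nat hn) (by decide) | exact absurd s7 (by decide)
  obtain ⟨s, hs⟩ := exists_prime_orderOf_dvd_card' (G := S) 3 (s3 ▸ dvd_pow_self 3 (by omega))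
  obtain ⟨g, hg⟩ := isConj_iff.1 (J.conj3 ((orderOf_coe s).trans hs))
  have c : ∀ t : G, t * s = s * t → g * t * g⁻¹ ∈ J.K0 := fun t h => J.cen_p ▸ mem_centralizer_singleton_iff.2 (by
    rw [← hg, conj_mul, conj_mul, h])
  have c1 := c _ (mem_centralizer_singleton_iff.1 (s1 s.2)).symm
  have c2 : g ⋆ S ≤ J.K0 ⊓ centralizer {g * J.a11 * g⁻¹} := conj_le_iff.2 fun t ht => ⟨c t (s6 _ ht _ s.2),
    mem_centralizer_singleton_iff.2 (by rw [conj_mul, conj_mul, mem_centralizer_singleton_iff.1 (s1 ht)])⟩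
  exact absurd (((pow_dvd_pow 3 (by omega : 2 ≤ k + 2)).trans (s3 ▸ card_conj g S ▸ card_dvd_of_le c2)).trans
    (J.card_K0_cen (b := 11) c1 (cen24 (by decide +kernel)
      (J.orderOf_φ Nat.prime_eleven (by decide) c1.1 ((orderOf_conj' _ _).trans J.ord_a))))) (by decide)

theorem card_norm_U {x y : G} {U K : Subgroup G} (h : Heis 11 x y J.a11 U) (k1 : K ≤ normalizer (U : Set G))
    (k2 : Nat.card K = 48) : Nat.card (normalizer (U : Set G)) = 319440 := by
  have := J.fin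
  have k3 := (card_dvd_of_le h.norm_le).trans (top_inf_eq (normalizer (zpowers J.a11 : Set G)) ▸ card_norm_dvd ⊤ J.a11)
  rw [top_inf_eq, J.cen_a, J.ord_a, show Nat.totient 11 = 10 by decide] at k3
  have k4 := k2 ▸ card_dvd_of_le k1
  obtain ⟨d, e, e'⟩ := norm_card (m := 65195770883604480) (le_top : U ≤ ⊤) h.card (by rw [card_top, J.card]; norm_num)
    (by decide)
  rw [top_inf_eq] at e
  have := Nat.le_of_dvd (by decide) k3
  omega

theorem two11 : ∃ y : G, orderOf y = 11 ∧ Nat.card (centralizer {y}) ≤ 242 ∧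
    ∀ w : G, orderOf w = 11 → IsConj w J.a11 ∨ IsConj w y := by
  have := J.fin
  obtain ⟨x, y, U, h, K, k1, -, k2⟩ := J.ex11
  have hN := J.card_norm_U h k1 k2
  have sy : ∀ w : G, orderOf w = 11 → ∃ g, g * w * g⁻¹ ∈ U := fun w hw => by
    obtain ⟨g, -, k⟩ := conj_le_of_card (le_top : U ≤ ⊤) h.card (by rw [card_top, J.card]; norm_num)
      (le_top : zpowers w ≤ ⊤) (IsPGroup.of_card (n := 1) (by rw [Nat.card_zpowers, hw]; rfl))
    exact ⟨g, conj_le_iff.1 k w (mem_zpowers w)⟩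
  obtain ⟨w, o, c⟩ := J.cen11_le
  obtain ⟨g, hg⟩ := sy w o
  rw [← card_cen_conj g] at c
  rw [← orderOf_conj' g] at o
  generalize g * w * g⁻¹ = u at o c hg
  have hZ : Nat.card (zpowers J.a11) = 11 := by rw [Nat.card_zpowers, J.ord_a]
  have uZ : u ∉ zpowers J.a11 := fun k => absurd ((h.card ▸ card_le_of_le (show U ≤ centralizer {u} from fun t ht =>
    mem_centralizer_singleton_iff.2 ((h.cen.ge k).2 t ht))).trans c) (by decide)
  have c1 := subset_cl (N := normalizer (U : Set G)) (u := u) (T := (U : Set G) \ zpowers J.a11) (a := 1320) (by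
    rintro _ ⟨k, hk, rfl⟩
    exact ⟨(mem_normalizer_iff.1 hk u).1 hg, fun e => uZ ((mem_normalizer_iff.1 (h.norm_le hk) u).2 e)⟩)
    (by rw [ncard_diff_sub (zpowers_le.2 h.c_mem), h.card, hZ]; decide) ((card_le_of_le inf_le_right).trans c) hN.ge
  have c2 := subset_cl (N := normalizer (U : Set G)) (u := J.a11) (T := (zpowers J.a11 : Set G) \ (⊥ : Subgroup G))
    (a := 10) (by
      rintro _ ⟨k, hk, rfl⟩
      exact ⟨(mem_normalizer_iff.1 (h.norm_le hk) _).1 (mem_zpowers _), fun e => by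
        have := J.ord_a; simp [conj_eq_one_iff.1 (mem_bot.1 e)] at this⟩)
    (by rw [ncard_diff_sub bot_le, hZ, card_bot]) ((card_le_of_le inf_le_right).trans J.cen_a.le) hN.ge
  refine ⟨u, o, c, fun w hw => ?_⟩
  obtain ⟨g, hg⟩ := sy w hw
  by_cases k : g * w * g⁻¹ ∈ zpowers J.a11
  · exact Or.inl ((isConj_iff.2 ⟨g, rfl⟩).trans (isConj_of_cl (c2 ⟨k, fun e => by
      simp [conj_eq_one_iff.1 (mem_bot.1 e)] at hw⟩)))
  · exact Or.inr ((isConj_iff.2 ⟨g, rfl⟩).trans (isConj_of_cl (c1 ⟨hg, k⟩)))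

end Mod

end Cfsg.Lib.J4T
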