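import Mathlib

/-! # Small modules over `F₂` (Part I, linear algebra) -/

set_option autoImplicit false

namespace Cfsg.Lib.J4T.Lx

open Module

/-- linear combination in characteristic two -/
scoped macro "ch2 " e:term : tactic =>
  `(tactic| (linear_combination (norm := skip) (1 : ZMod 2) • ($e); match_scalars <;> decide))

variable {V : Type*} [AddCommGroup V] [Module (ZMod 2) V]

theorem add_self (x : V) : x + x = 0 := by ch2 (rfl : (0 : V) = 0)

theorem modEq_fix [Finite V] (U : Submodule (ZMod 2) V) (F : V →ₗ[ZMod 2] V) {q : ℕ} (hq : q.Prime)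
    (hU : ∀ x ∈ U, F x ∈ U) (hF : F ^ q = 1) :
    2 ^ finrank (ZMod 2) U ≡ 2 ^ finrank (ZMod 2) ↥(U ⊓ LinearMap.ker (F + 1)) [MOD q] := by
  classical
  have := Fact.mk hq
  have := Fintype.ofFinite U
  let f : Function.End U := fun x => ⟨F x, hU x x.2⟩
  have h1 : ∀ n (x : U), ((f ^ n) x : V) = (F ^ n) x := fun n => by
    induction n with
    | zero => exact fun _ => rfl
    | succ n ih => exact fun x => by rw [pow_succ, pow_succ]; exact ih _
  have h2 := Equiv.Perm.card_fixedPoints_modEq (f := f) (p := q) (n := 1) (by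
    funext x
    exact Subtype.ext (by rw [h1, pow_one, hF]; rfl))
  rw [← Nat.card_eq_fintype_card, ← Nat.card_eq_fintype_card, natCard_eq_pow_finrank (K := ZMod 2)] at h2
  have e : Nat.card f.fixedPoints = Nat.card ↥(U ⊓ LinearMap.ker (F + 1)) := Nat.card_congr
    ⟨fun x => ⟨x.1.1, x.1.2, by
      have : F x.1 = x.1 := congrArg Subtype.val x.2
      change F x.1 + x.1 = 0
      rw [this, add_self]⟩, fun x => ⟨⟨x.1, x.2.1⟩, Subtype.ext (by
      have : F x.1 + x.1 = 0 := x.2.2
      change F x.1 = x.1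
      ch2 this)⟩, fun _ => rfl, fun _ => rfl⟩
  rw [e, natCard_eq_pow_finrank (K := ZMod 2) (V := ↥(U ⊓ LinearMap.ker (F + 1))), Nat.card_zmod] at h2
  exact h2

/-- An element of order `11` is trivial in dimension at most `9`. -/
theorem eleven [Finite V] (U : Submodule (ZMod 2) V) (F : V →ₗ[ZMod 2] V) (hU : ∀ x ∈ U, F x ∈ U) (hF : F ^ 11 = 1)
    (h : finrank (ZMod 2) U ≤ 9) : ∀ x ∈ U, F x = x := by
  have h1 := modEq_fix U F (by norm_num) hU hF
  have h2 := Submodule.finrank_mono (inf_le_left : U ⊓ LinearMap.ker (F + 1) ≤ U)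
  have h3 : U ⊓ LinearMap.ker (F + 1) = U := Submodule.eq_of_le_of_finrank_le inf_le_left (by
    generalize finrank (ZMod 2) U = a at *
    generalize finrank (ZMod 2) ↥(U ⊓ LinearMap.ker (F + 1)) = b at *
    have : ∀ a < 10, ∀ b < 10, 2 ^ a % 11 = 2 ^ b % 11 → a ≤ b := by decide
    exact this a (by omega) b (by omega) h1)
  intro x hx
  have : F x + x = 0 := (h3.ge hx).2
  ch2 this

section five
variable {P F U : V →ₗ[ZMod 2] V}

theorem five_swap (hP : ∀ x, P (P x) = P x + x) (hPF : ∀ x, F (P x) = P (F x)) (hPU : ∀ x, U (P x) = P (U x))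
    (hFU : ∀ x, F (U x) = U (F (F x))) {x : V} (h : F (F x) + P (F x) + x = 0) :
    F (F (U x)) + (P + 1) (F (U x)) + U x = 0 := by
  have h1 : F (F x) = P (F x) + x := by ch2 h
  have h2 : F (F (F (F x))) = F x + P x := by
    simp only [h1, map_add, hPF, hP]
    ch2 (rfl : (0 : V) = 0)
  rw [LinearMap.add_apply, End.one_apply, hFU, hFU, h2, ← hPU, ← map_add, ← map_add, ← map_add, h1, P.map_add, hP]
  convert U.map_zero using 2
  ch2 (rfl : (0 : V) = 0)

theorem five_four [Finite V] (hP : ∀ x, P (P x) = P x + x) (hPF : ∀ x, F (P x) = P (F x)) (hF : F ^ 5 = 1) {x : V}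
    (h : F (F x) + P (F x) + x = 0) (h0 : x ≠ 0) : 4 ≤ finrank (ZMod 2) (LinearMap.ker (F * F + P * F + 1)) := by
  have h1 := modEq_fix (LinearMap.ker (F * F + P * F + 1)) F (q := 5) (by norm_num) (fun y hy => by
    have : F (F y) + P (F y) + y = 0 := hy
    change F (F (F y)) + P (F (F y)) + F y = 0
    rw [← hPF, ← map_add, ← map_add, this, map_zero]) hF
  have h2 : LinearMap.ker (F * F + P * F + 1) ⊓ LinearMap.ker (F + 1) = ⊥ := by
    rw [eq_bot_iff]
    rintro y ⟨a, b⟩
    have a : F (F y) + P (F y) + y = 0 := a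
    have b : F y + y = 0 := b
    have b' : F y = y := by ch2 b
    rw [b', b'] at a
    have c : P y = 0 := by ch2 a
    have := hP y
    rw [c, map_zero, zero_add] at this
    exact this.symm
  rw [h2, finrank_bot] at h1
  have h3 : finrank (ZMod 2) (LinearMap.ker (F * F + P * F + 1)) ≠ 0 := fun e =>
    h0 ((Submodule.finrank_eq_zero.1 e).le (show x ∈ LinearMap.ker (F * F + P * F + 1) from h))
  generalize finrank (ZMod 2) (LinearMap.ker (F * F + P * F + 1)) = a at *
  by_contra k
  have : ∀ a < 4, 2 ^ a % 5 = 2 ^ 0 % 5 → a = 0 := by decide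
  exact h3 (this a (by omega) h1)

/-- The Frobenius group of order `20` acting `F₄`-linearly in dimension at most `3`. -/
theorem five [Finite V] (hP : ∀ x, P (P x) = P x + x) (hPF : ∀ x, F (P x) = P (F x)) (hPU : ∀ x, U (P x) = P (U x))
    (hFU : ∀ x, F (U x) = U (F (F x))) (hU : Function.Injective U) (hF : F ^ 5 = 1) (h : finrank (ZMod 2) V < 8)
    (x : V) : F x = x := by
  have h5 : ∀ x, F (F (F (F (F x)))) = x := fun x => congrArg (· x) hF
  have hP' : ∀ x, (P + 1) ((P + 1) x) = (P + 1) x + x := fun x => by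
    simp only [LinearMap.add_apply, End.one_apply, map_add, hP]
    ch2 (rfl : (0 : V) = 0)
  have hPF' : ∀ x, F ((P + 1) x) = (P + 1) (F x) := fun x => by
    simp only [LinearMap.add_apply, End.one_apply, map_add, hPF]
  have hPU' : ∀ x, U ((P + 1) x) = (P + 1) (U x) := fun x => by
    simp only [LinearMap.add_apply, End.one_apply, map_add, hPU]
  have hU0 : ∀ x, x ≠ 0 → U x ≠ 0 := fun x hx e => hx (hU (e.trans U.map_zero.symm))
  have key : ∀ y z, y ≠ 0 → z ≠ 0 → F (F y) + P (F y) + y = 0 → F (F z) + (P + 1) (F z) + z = 0 → False :=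
    fun y z hy hz a b => by
      have h1 := five_four hP hPF hF a hy
      have h2 := five_four hP' hPF' hF b hz
      have h3 := Submodule.finrank_sup_add_finrank_inf_eq (LinearMap.ker (F * F + P * F + 1))
        (LinearMap.ker (F * F + (P + 1) * F + 1))
      have h4 : LinearMap.ker (F * F + P * F + 1) ⊓ LinearMap.ker (F * F + (P + 1) * F + 1) = ⊥ := by
        rw [eq_bot_iff]
        rintro y ⟨a, b⟩
        have a : F (F y) + P (F y) + y = 0 := a
        have b : F (F y) + (P (F y) + F y) + y = 0 := b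
        have c : F y = 0 := by ch2 a + b
        have := h5 y
        rw [c] at this
        simpa using this.symm
      have h5 := Submodule.finrank_le (LinearMap.ker (F * F + P * F + 1) ⊔ LinearMap.ker (F * F + (P + 1) * F + 1))
      rw [h4, finrank_bot] at h3
      omega
  by_contra hx
  have hy : x + F x ≠ 0 := fun e => hx (by ch2 e)
  have h6 : F (F (F (F (x + F x)))) + F (F (F (x + F x))) + F (F (x + F x)) + F (x + F x) + (x + F x) = 0 := by
    simp only [map_add, h5]
    ch2 (rfl : (0 : V) = 0)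
  generalize x + F x = y at hy h6
  by_cases hz : F (F y) + (P + 1) (F y) + y = 0
  · refine key (U y) y (hU0 y hy) hy ?_ hz
    have := five_swap hP' hPF' hPU' hFU hz
    simp only [LinearMap.add_apply, End.one_apply] at this
    ch2 this
  · have a : F (F (F (F y) + (P + 1) (F y) + y)) + P (F (F (F y) + (P + 1) (F y) + y)) + (F (F y) + (P + 1) (F y) + y) = 0 := by
      simp only [LinearMap.add_apply, End.one_apply, map_add, hPF, hP]
      ch2 h6
    exact key _ _ hz (hU0 _ hz) a (five_swap hP hPF hPU hFU a)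

end five

/-- A `2`-element has a fixed vector. -/
theorem exists_fix (C : Submodule (ZMod 2) V) (F : V →ₗ[ZMod 2] V) (hC : ∀ x ∈ C, F x ∈ C)
    (hF : ∀ x, F (F (F (F x))) = x) (h : C ≠ ⊥) : C ⊓ LinearMap.ker (F + 1) ≠ ⊥ := by
  intro e
  have k : ∀ x ∈ C, F x + x = 0 → x = 0 := fun x hx h => e.le (show x ∈ C ⊓ LinearMap.ker (F + 1) from ⟨hx, h⟩)
  refine h (eq_bot_iff.2 fun x hx => ?_)
  have m : ∀ x ∈ C, F x + x ∈ C := fun x hx => add_mem (hC x hx) hx
  refine k x hx (k _ (m x hx) (k _ (m _ (m x hx)) (k _ (m _ (m _ (m x hx))) ?_)))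
  simp only [map_add, hF]
  ch2 (rfl : (0 : V) = 0)

end Cfsg.Lib.J4T.Lx
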