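import Cfsg.Agent.Lib.J4T.Cov
import Cfsg.Agent.Lib.J4T.Lin

/-! # A vector fixed by `2⁴ : S₅` (Part I, step 2) -/

set_option autoImplicit false
set_option maxRecDepth 100000

namespace Cfsg.Lib.J4T.Lx

open Cfsg.Lib.Calc Cfsg.Lib.F2 Cfsg.Lib.Mathieu Subgroup Module

/-- `k ∈ K0` has code `X` -/
structure C0 (k : K0) (X : ℕ) : Prop where
  rc : RC k.1 X

theorem C0.one : C0 1 cI := ⟨RC.one⟩
theorem C0.mul {g h : K0} {X Y : ℕ} (a : C0 g X) (b : C0 h Y) : C0 (g * h) (mu X Y) := ⟨a.1.mul b.1⟩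
theorem C0.eq {g h : K0} {X Y : ℕ} (a : C0 g X) (b : C0 h Y) (e : Nat.beq X Y = true) : g = h :=
  Subtype.ext (a.1.eq b.1 e)
theorem C0.ext {g h : K0} {X : ℕ} (a : C0 g X) (b : C0 h X) : g = h := Subtype.ext (a.1.ext b.1)

/-- some element of `N` has code `X` -/
def Gn (N : Subgroup K0) (X : ℕ) : Prop := ∃ k ∈ N, C0 k X

/-- the element with code `X` -/
noncomputable def el (X : ℕ) : K0 := Calc.dec C0 X

theorem Gn.c {N : Subgroup K0} {X : ℕ} (h : Gn N X) : C0 (el X) X := let ⟨k, _, h⟩ := h; dec_spec ⟨k, h⟩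
theorem Gn.mem {N : Subgroup K0} {X : ℕ} (h : Gn N X) {k : K0} (c : C0 k X) : k ∈ N :=
  let ⟨_, a, b⟩ := h; b.ext c ▸ a
theorem Gn.one (N : Subgroup K0) : Gn N cI := ⟨1, one_mem _, C0.one⟩
theorem Gn.mul {N : Subgroup K0} {X Y : ℕ} (a : Gn N X) (b : Gn N Y) : Gn N (mu X Y) :=
  let ⟨_, a, a'⟩ := a; let ⟨_, b, b'⟩ := b; ⟨_, mul_mem a b, a'.mul b'⟩

/-- the code of a word -/
noncomputable def evL (Ls w : List ℕ) : ℕ :=
  List.rec (motive := fun _ => ℕ) cI (fun i _ ih => forceN ih (mu (F2.nth cI Ls i))) w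

theorem evL_cons (Ls : List ℕ) (i : ℕ) (w : List ℕ) : evL Ls (i :: w) = mu (F2.nth cI Ls i) (evL Ls w) := forceN_eq _ _

theorem Gn.nth {N : Subgroup K0} {Ls : List ℕ} (h : ∀ X ∈ Ls, Gn N X) (i : ℕ) : Gn N (F2.nth cI Ls i) := by
  rcases F2.nth_mem cI Ls i with e | e
  · exact e.symm ▸ Gn.one N
  · exact h _ e

theorem Gn.evL {N : Subgroup K0} {Ls : List ℕ} (h : ∀ X ∈ Ls, Gn N X) (w : List ℕ) : Gn N (evL Ls w) := by
  induction w with
  | nil => exact Gn.one N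
  | cons i w ih => rw [evL_cons]; exact (Gn.nth h i).mul ih

theorem Gn.of {N : Subgroup K0} {Ls : List ℕ} (h : ∀ X ∈ Ls, Gn N X) (w : List ℕ) {X : ℕ}
    (e : Nat.beq (Lx.evL Ls w) X = true) : Gn N X := beq_iff.1 e ▸ Gn.evL h w

theorem gn_l6 : ∀ X ∈ l6, Gn ⊤ X := fun X hX => by
  have := band_eq_true.1 (allL_iff.1 (show allL l6 (fun X => band (okM (pc' X)) (Nat.beq (mu X X) cI)) = true by
    decide +kernel) X hX)
  obtain ⟨k, h⟩ := RC.ex this.1 this.1 (beq_iff.1 this.2)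
  exact ⟨⟨k, subset_closure ⟨X, hX, h⟩⟩, mem_top _, ⟨h⟩⟩

theorem eq_top_of_l6 {N : Subgroup K0} (h : ∀ X ∈ l6, Gn N X) : N = ⊤ := by
  have : K0 ≤ N.map K0.subtype := (closure_le _).2 fun k ⟨X, hX, c⟩ =>
    let ⟨g, a, b⟩ := h X hX; ⟨g, a, b.1.ext c⟩
  refine eq_top_iff.2 fun k _ => ?_
  obtain ⟨g, a, b⟩ := this k.2
  exact Subtype.ext b ▸ a

theorem gn_P : Gn ⊤ cP := Gn.of gn_l6 [4, 0, 2, 0, 5, 2, 3, 1, 4, 5, 3, 2] (by decide +kernel)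

/-- the central element of order three -/
noncomputable def pp : K0 := el cP

theorem c_pp : C0 pp cP := gn_P.c

theorem comm_pp (k : K0) : k * pp = pp * k := by
  have : centralizer {pp} = ⊤ := eq_top_of_l6 fun X hX => by
    obtain ⟨g, -, c⟩ := gn_l6 X hX
    exact ⟨g, mem_centralizer_singleton_iff.2 ((c.mul c_pp).eq (c_pp.mul c) (allL_iff.1 (show allL l6 (fun X =>
      Nat.beq (mu X cP) (mu cP X)) = true by decide +kernel) X hX)), c⟩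
  exact mem_centralizer_singleton_iff.1 (this.ge (mem_top k))

theorem pp_cube : pp * (pp * pp) = 1 := (c_pp.mul (c_pp.mul c_pp)).eq C0.one (by decide +kernel)

/-- the letters of `K0` -/
def l7 : List ℕ := l6 ++ [cP]

theorem gn_l7 : ∀ X ∈ l7, Gn ⊤ X := List.forall_mem_append.2 ⟨gn_l6, List.forall_mem_singleton.2 gn_P⟩

/-- a basis of `O₂(Y)` -/
def aL : List ℕ := [0x80040020010018034002001000b006002001ba4f49bdac92230596cea894419820,
  0x800400200100f80a40021013009007002001bca149d9154b5c7589f1614c41a820,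
  0x8014032001000b0060020010008004002001bbce30a50cb35d05aa51a98a4a0a60,
  0x803402203102e9697d02101300a005002001ba6a11bd10935cc59ad13a84499680]
/-- order `5` -/
def cF : ℕ := 0xc0680d539f27b98674a2351280a405002001bcd5538d260be455c696139a462200
/-- order `4` -/
def cU : ℕ := 0x602d01503f023a525f93e729b2d61b002001b8a349992d2c9ee255564320b09c60
/-- an involution -/
def cY : ℕ := 0x602d01503f026a6d5d33f22a62ed19002001bd9949a4d07a8b523a423c5ab0a060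
/-- order `5` -/
def cF1 : ℕ := 0x80f40a21013068ad45a3c52880540f002001bcdac3d151198ae5bc224492485aa0
/-- generators of the stabiliser `Y` of the vector `1` -/
def yL : List ℕ := aL ++ [cF, cF1, cU]

theorem gn_aL : ∀ X ∈ aL, Gn ⊤ X := by
  simp only [aL, List.forall_mem_cons, List.not_mem_nil, false_imp_iff, implies_true, and_true]
  exact ⟨Gn.of gn_l7 [4, 3, 0, 4] (by decide +kernel), Gn.of gn_l7 [4, 5, 0, 5, 3, 4] (by decide +kernel),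
    Gn.of gn_l7 [1, 2, 0, 5, 0, 2, 1] (by decide +kernel), Gn.of gn_l7 [0, 5, 1, 4, 1, 5, 0] (by decide +kernel)⟩
theorem gn_F : Gn ⊤ cF := Gn.of gn_l7 [3, 4, 1, 5, 3, 1, 3] (by decide +kernel)
theorem gn_U : Gn ⊤ cU := Gn.of gn_l7 [4, 2, 0, 1, 0, 2, 5, 4] (by decide +kernel)
theorem gn_Y : Gn ⊤ cY := Gn.of gn_l7 [4, 5, 4] (by decide +kernel)
theorem gn_F1 : Gn ⊤ cF1 := Gn.of gn_l7 [6, 6, 1, 2, 1, 5, 3, 4, 2, 5] (by decide +kernel)

theorem gn_yL : ∀ X ∈ yL, Gn ⊤ X := List.forall_mem_append.2 ⟨gn_aL,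
  List.forall_mem_cons.2 ⟨gn_F, List.forall_mem_cons.2 ⟨gn_F1, List.forall_mem_singleton.2 gn_U⟩⟩⟩

variable {V : Type*} [AddCommGroup V] [Module (ZMod 2) V] (ρ : Representation (ZMod 2) K0 V)

theorem rmul (g h : K0) (x : V) : ρ g (ρ h x) = ρ (g * h) x := by rw [map_mul]; rfl
theorem rone (x : V) : ρ 1 x = x := by rw [map_one]; rfl
theorem rinv (g : K0) (x : V) : ρ g⁻¹ (ρ g x) = x := by rw [rmul, inv_mul_cancel, rone]
theorem rinv' (g : K0) (x : V) : ρ g (ρ g⁻¹ x) = x := by rw [rmul, mul_inv_cancel, rone]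
theorem rinj (g : K0) : Function.Injective (ρ g) := Function.LeftInverse.injective (rinv ρ g)
theorem rpp (g : K0) (x : V) : ρ g (ρ pp x) = ρ pp (ρ g x) := by rw [rmul, comm_pp, rmul]

/-- stabiliser -/
def St (x : V) : Subgroup K0 where
  carrier := {k | ρ k x = x}
  one_mem' := rone ρ x
  mul_mem' {a b} (ha : ρ a x = x) (hb : ρ b x = x) := show ρ (a * b) x = x by rw [← rmul, hb, ha]
  inv_mem' {a} (ha : ρ a x = x) := show ρ a⁻¹ x = x by conv_lhs => rw [← ha, rinv]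

theorem mem_St {x : V} {k : K0} : k ∈ St ρ x ↔ ρ k x = x := Iff.rfl

/-- `[V, p]` -/
noncomputable def WW : Submodule (ZMod 2) V := LinearMap.ker (ρ pp * ρ pp + ρ pp + 1)

theorem mem_WW {x : V} : x ∈ WW ρ ↔ ρ pp (ρ pp x) + ρ pp x + x = 0 := Iff.rfl

theorem WW_inv (g : K0) {x : V} (h : x ∈ WW ρ) : ρ g x ∈ WW ρ := by
  rw [mem_WW] at h ⊢
  rw [← rpp ρ g, ← rpp ρ g, ← (ρ g).map_add, ← (ρ g).map_add, h, map_zero]

theorem eq_zero_of_pp {x : V} (h : x ∈ WW ρ) (e : pp ∈ St ρ x) : x = 0 := by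
  rw [mem_WW, (mem_St ρ).1 e, (mem_St ρ).1 e] at h
  ch2 h

theorem WW_ne (h : ρ pp ≠ 1) : WW ρ ≠ ⊥ := fun e => h (LinearMap.ext fun x => by
  have : ρ pp x + x ∈ WW ρ := by
    rw [mem_WW]
    simp only [map_add]
    rw [show ρ pp (ρ pp (ρ pp x)) = x by rw [rmul, rmul, mul_assoc, pp_cube, rone]]
    ch2 (rfl : (0 : V) = 0)
  have : ρ pp x + x = 0 := e.le this
  change ρ pp x = x
  ch2 this)

/-- the fixed vectors of the listed codes -/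
noncomputable def CC (l : List ℕ) : Submodule (ZMod 2) V where
  carrier := {x | x ∈ WW ρ ∧ ∀ X ∈ l, el X ∈ St ρ x}
  zero_mem' := ⟨zero_mem _, fun _ _ => map_zero _⟩
  add_mem' a b := ⟨add_mem a.1 b.1, fun X hX => by
    rw [mem_St, map_add, (mem_St ρ).1 (a.2 X hX), (mem_St ρ).1 (b.2 X hX)]⟩
  smul_mem' c _ a := ⟨Submodule.smul_mem _ c a.1, fun X hX => by rw [mem_St, map_smul, (mem_St ρ).1 (a.2 X hX)]⟩

theorem CC_cons (X : ℕ) (l : List ℕ) : CC ρ (X :: l) = CC ρ l ⊓ LinearMap.ker (ρ (el X) + 1) := by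
  ext x
  change (_ ∧ ∀ Y ∈ X :: l, _) ↔ (_ ∧ _) ∧ ρ (el X) x + x = 0
  rw [List.forall_mem_cons, mem_St]
  exact ⟨fun ⟨a, b, c⟩ => ⟨⟨a, c⟩, by ch2 b⟩, fun ⟨⟨a, b⟩, c⟩ => ⟨a, by ch2 c, b⟩⟩

theorem CC_gn {l : List ℕ} (hl : ∀ X ∈ l, Gn ⊤ X) {x : V} (h : x ∈ CC ρ l) : ∀ X ∈ l, Gn (St ρ x) X :=
  fun X hX => ⟨_, h.2 X hX, (hl X hX).c⟩

/-- `g` normalises the group generated by `l` -/
noncomputable def nrmOK (l : List ℕ) (ws : List (List ℕ)) (g : ℕ) : Bool :=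
  allL l fun a => Grp.anyL (ws.map (evL l)) fun b => Nat.beq (mu a g) (mu g b)

theorem CC_inv {l : List ℕ} (hl : ∀ X ∈ l, Gn ⊤ X) {ws : List (List ℕ)} {g : K0} {Y : ℕ} (c : C0 g Y)
    (e : nrmOK l ws Y = true) : ∀ x ∈ CC ρ l, ρ g x ∈ CC ρ l := fun x h => ⟨WW_inv ρ g h.1, fun X hX => by
  obtain ⟨b, hb, e⟩ := Grp.anyL_iff.1 (allL_iff.1 e X hX)
  obtain ⟨w, -, rfl⟩ := List.mem_map.1 hb
  obtain ⟨k, h1, h2⟩ := Gn.evL (CC_gn ρ hl h) w
  rw [mem_St, rmul, ((hl X hX).c.mul c).eq (c.mul h2) e, ← rmul, (mem_St ρ).1 h1]⟩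

theorem CC_ne {l : List ℕ} (hl : ∀ X ∈ l, Gn ⊤ X) {ws : List (List ℕ)} {Y : ℕ} (c : Gn ⊤ Y)
    (e : band (nrmOK l ws Y) (Nat.beq (mu Y (mu Y (mu Y Y))) cI) = true) (h : CC ρ l ≠ ⊥) : CC ρ (Y :: l) ≠ ⊥ := by
  rw [CC_cons]
  refine exists_fix _ _ (CC_inv ρ hl c.c (band_eq_true.1 e).1) (fun x => ?_) h
  rw [rmul, rmul, rmul, mul_assoc, mul_assoc,
    (c.c.mul (c.c.mul (c.c.mul c.c))).eq C0.one (band_eq_true.1 e).2, rone]

/-- all subwords -/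
def w16 : List (List ℕ) := [[], [0], [1], [0, 1], [2], [0, 2], [1, 2], [0, 1, 2], [3], [0, 3], [1, 3], [0, 1, 3], [2, 3],
  [0, 2, 3], [1, 2, 3], [0, 1, 2, 3]]

theorem CC_aL (h : ρ pp ≠ 1) : CC ρ aL ≠ ⊥ := by
  have g := gn_aL
  have h0 : CC ρ [] ≠ ⊥ := fun e => WW_ne ρ h (eq_bot_iff.2 fun x hx => e.le ⟨hx, by simp⟩)
  unfold aL at g ⊢
  have g1 := (List.forall_mem_cons.1 g).2
  have g2 := (List.forall_mem_cons.1 g1).2
  have g3 := (List.forall_mem_cons.1 g2).2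
  refine CC_ne ρ g1 (ws := w16) (g _ List.mem_cons_self) (by decide +kernel) ?_
  refine CC_ne ρ g2 (ws := w16) (g1 _ List.mem_cons_self) (by decide +kernel) ?_
  refine CC_ne ρ g3 (ws := w16) (g2 _ List.mem_cons_self) (by decide +kernel) ?_
  exact CC_ne ρ (by simp) (ws := w16) (g3 _ List.mem_cons_self) (by decide +kernel) h0

theorem finrank_CC [Finite V] (hV : finrank (ZMod 2) V = 12) : finrank (ZMod 2) (CC ρ aL) ≤ 6 := by
  obtain ⟨g, -, c⟩ := Gn.nth gn_l6 0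
  have gg : g * g = 1 := (c.mul c).eq C0.one (by decide +kernel)
  have h1 := Submodule.finrank_sup_add_finrank_inf_eq (CC ρ aL) ((CC ρ aL).map (ρ g))
  have h2 := Submodule.finrank_le (CC ρ aL ⊔ (CC ρ aL).map (ρ g))
  have h3 := (Submodule.equivMapOfInjective _ (rinj ρ g) (CC ρ aL)).finrank_eq
  have h4 : CC ρ aL ⊓ (CC ρ aL).map (ρ g) = ⊥ := by
    rw [eq_bot_iff]
    rintro _ ⟨a, y, b, rfl⟩
    refine eq_zero_of_pp ρ a.1 (Gn.mem (Gn.of (Ls := aL ++ aL.map fun X => mu (F2.nth cI l6 0) (mu X (F2.nth cI l6 0)))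
      (List.forall_mem_append.2 ⟨CC_gn ρ gn_aL a, fun Y hY => ?_⟩) [0, 6, 3, 5, 0, 6, 3, 5, 0, 6, 3, 5, 0, 6, 3, 5]
      (by decide +kernel)) c_pp)
    obtain ⟨X, hX, rfl⟩ := List.mem_map.1 hY
    refine ⟨_, ?_, c.mul ((gn_aL X hX).c.mul c)⟩
    rw [mem_St, rmul, mul_assoc, mul_assoc, gg, mul_one, ← rmul, (mem_St ρ).1 (b.2 X hX)]
  rw [h4, finrank_bot] at h1
  omega

theorem exists_v0 [Finite V] (hV : finrank (ZMod 2) V = 12) (h : ρ pp ≠ 1) :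
    ∃ v ∈ WW ρ, v ≠ 0 ∧ ∀ X ∈ yL, Gn (St ρ v) X := by
  have iF := CC_inv ρ gn_aL (ws := w16) gn_F.c (by decide +kernel)
  have iU := CC_inv ρ gn_aL (ws := w16) gn_U.c (by decide +kernel)
  have iY := CC_inv ρ gn_aL (ws := w16) gn_Y.c (by decide +kernel)
  have iP := CC_inv ρ gn_aL (ws := w16) c_pp (by decide +kernel)
  have hF : ∀ x ∈ CC ρ aL, ρ (el cF) x = x := fun x hx => congrArg Subtype.val
    (five (P := (ρ pp).restrict iP) (F := (ρ (el cF)).restrict iF) (U := (ρ (el cU)).restrict iU)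
      (fun x => Subtype.ext (by
        have := (mem_WW ρ).1 x.2.1
        change ρ pp (ρ pp x) = ρ pp x + x
        ch2 this))
      (fun x => Subtype.ext (rpp ρ _ _)) (fun x => Subtype.ext (rpp ρ _ _))
      (fun x => Subtype.ext (by
        change ρ _ (ρ _ x) = ρ _ (ρ _ (ρ _ x))
        rw [rmul, rmul, rmul, (gn_F.c.mul gn_U.c).eq ((gn_U.c.mul gn_F.c).mul gn_F.c) (by decide +kernel)]))
      (fun x y e => Subtype.ext (rinj ρ _ (congrArg Subtype.val e)))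
      (LinearMap.ext fun x => Subtype.ext (by
        change ρ _ (ρ _ (ρ _ (ρ _ (ρ _ x)))) = x
        rw [rmul, rmul, rmul, rmul,
          ((((gn_F.c.mul gn_F.c).mul gn_F.c).mul gn_F.c).mul gn_F.c).eq C0.one (by decide +kernel), rone]))
      (lt_of_le_of_lt (finrank_CC ρ hV) (by norm_num)) ⟨x, hx⟩)
  obtain ⟨v, hv, h0⟩ := (Submodule.ne_bot_iff _).1
    (CC_ne ρ gn_aL (ws := w16) gn_U (by decide +kernel) (CC_aL ρ h))
  have hv' : v ∈ CC ρ aL := ⟨hv.1, fun X hX => hv.2 X (List.mem_cons_of_mem _ hX)⟩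
  refine ⟨v, hv.1, h0, List.forall_mem_append.2 ⟨CC_gn ρ gn_aL hv', List.forall_mem_cons.2 ⟨⟨_, hF v hv', gn_F.c⟩,
    List.forall_mem_cons.2 ⟨⟨_, ?_, gn_F1.c⟩, List.forall_mem_singleton.2 ⟨_, hv.2 _ List.mem_cons_self, gn_U.c⟩⟩⟩⟩⟩
  rw [mem_St, gn_F1.c.eq (gn_Y.c.mul (gn_F.c.mul gn_Y.c)) (by decide +kernel), ← rmul, ← rmul, hF _ (iY v hv'), rmul,
    (gn_Y.c.mul gn_Y.c).eq C0.one (by decide +kernel), rone]

end Cfsg.Lib.J4T.Lx
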