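import Cfsg.Agent.Lib.J4T.Three2
import Cfsg.Agent.Lib.J4T.ThM

/-! # Bounds for normalisers of subgroups of prime order, from the double cosets of `M` -/

set_option autoImplicit false
set_option maxRecDepth 100000

namespace Cfsg.Lib.J4T

open Cfsg.Lib.Calc Cfsg.Lib.F2 Cfsg.Lib.Mathieu Cfsg.Lib.Big Cfsg.Lib.J4 Subgroup Cfsg.Lib.Transfer
open Cfsg.Lib.Golay (cntB)

variable {G : Type*} [Group G]

theorem norm_card1 [Finite G] {p m : ℕ} [Fact p.Prime] {S : Subgroup G} {y : G} (hy : y ∈ S) (ho : orderOf y = p)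
    (hS : Nat.card S = p * m) (hm : ¬p ∣ m) :
    ∃ d, Nat.card ↥(S ⊓ normalizer (zpowers y : Set G)) = p * d ∧ d % p = m % p := by
  simpa using norm_card (n := 1) (zpowers_le.2 hy) (by rw [Nat.card_zpowers, ho, pow_one]) (by rwa [pow_one]) hm

theorem card_norm_eq [Finite G] {p : ℕ} [Fact p.Prime] (h : ¬p ^ 2 ∣ Nat.card G) {x y : G} (hx : orderOf x = p)
    (hy : orderOf y = p) : Nat.card (normalizer (zpowers x : Set G)) = Nat.card (normalizer (zpowers y : Set G)) ∧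
      Nat.card (centralizer {x}) = Nat.card (centralizer {y}) := by
  obtain ⟨g, -, e⟩ := conj_zp (N := ⊤) (by rwa [card_top]) (mem_top x) (mem_top y) hx hy
  rw [← cen_zpowers y, ← e, cen_zpowers, card_cen_conj, ← conj_zpowers, ← conj_normalizer, card_conj]
  exact ⟨rfl, rfl⟩

theorem mem_norm_zp [Finite G] {g x : G} {n : ℕ} (h : g * x * g⁻¹ = x ^ n) : g ∈ normalizer (zpowers x : Set G) :=
  mem_normalizer_of_conj_le (by rw [conj_zpowers, h]; exact zpowers_le.2 (npow_mem_zpowers x n))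

theorem ord_pp {g : G} {p n : ℕ} [hp : Fact p.Prime] (h : orderOf (g ^ p ^ n) = p) : orderOf g = p ^ (n + 1) :=
  orderOf_eq_prime_pow (fun k => hp.out.one_lt.ne (by rw [← h, k, orderOf_one]))
    (by rw [pow_succ, pow_mul]; exact orderOf_dvd_iff_pow_eq_one.1 h.dvd)

/-- the orders of the stabilisers -/
def sz (i : ℕ) : ℕ := [501397585920, 33030144, 17694720, 147456, 15360, 9216, 6072].getD i 0

theorem s2_chk : e12.slp (dc.comp 0 cvq2) [5124, 3] (fun L => band (e12.ordOK (e12.pw (F2.nth e12.one L 0) 6) 5)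
    (e12.ordOK (e12.pw (F2.nth e12.one L 0) 10) 3)) = true := by decide +kernel

theorem s4_chk : e12.slp (dc.comp 0 cvq4) [3, 2, 2, 2053] (fun L => band (e12.ordOK (F2.nth e12.one L 1) 5)
    (band (e12.ordOK (e12.pw (F2.nth e12.one L 0) 2) 2) (Nat.beq (e12.mul (F2.nth e12.one L 0) (F2.nth e12.one L 1))
      (e12.mul (e12.pw (F2.nth e12.one L 1) 2) (F2.nth e12.one L 0))))) = true := by decide +kernel

namespace Mod

variable (J : Mod G)

/-- the stabilisers in `M` of the cosets of `M` -/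
noncomputable abbrev S (i : ℕ) : Subgroup J4.H := SS J.ι (rep J.δ J.ι i)

theorem card_S {i : ℕ} (hi : i < 7) : Nat.card (J.S i) = sz i :=
  J.sol.card_SS J.card.symm.dvd hi (by interval_cases i <;> rfl)

theorem gd_S {i : ℕ} {qs L : List ℕ} {k : List ℕ → Bool} (h : dc.pairOK 1557 i qs = true)
    (e : e12.slp (dc.comp 0 qs) L k = true) :
    ∃ L, (∀ j, ∃ g ∈ J.S i, RH g (F2.nth e12.one L j)) ∧ k L = true := by
  obtain ⟨L, h1, h2⟩ := lawH.slp (DC.gd_SS J.sol.sem h) e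
  exact ⟨L, fun j => (nth_mem e12.one L j).elim (fun e => ⟨1, one_mem _, e.symm ▸ lawH.one⟩) (h1 _), h2⟩

theorem fixp {p b : ℕ} [Fact p.Prime] (h2 : ¬p ^ 2 ∣ 501397585920) {x : G} (hx : x ∈ J.M) (ho : orderOf x = p)
    (hb : Nat.card ↥(J.M ⊓ normalizer (zpowers x : Set G)) ≤ b) {f : ℕ → ℕ} (f0 : 1 ≤ f 0)
    (hf : ∀ i, 1 ≤ i → i < 7 → ¬p ∣ sz i ∨ ∃ y ∈ J.S i, orderOf y = p ∧
      b < (f i + 1) * Nat.card ↥(J.S i ⊓ normalizer (zpowers y : Set J4.H)))
    {C : Subgroup G} (hC : C ≤ normalizer (zpowers x : Set G)) :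
    Nat.card C ≤ (∑ i ∈ Finset.range 7, f i) * Nat.card ↥(J.M ⊓ C) := by
  have := J.fin
  rw [← J.range_ι] at hx hb ⊢
  obtain ⟨x, rfl⟩ := hx
  rw [orderOf_injective _ J.sol.inj] at ho
  rw [inf_comm]
  refine full_le J.sol.full x (fun i hi => ?_) hC
  rcases Nat.eq_zero_or_pos i with rfl | i0
  · exact ((Set.ncard_le_ncard (Set.sep_subset _ _) (Set.toFinite _)).trans
      ((J.sol.exact J.card.symm.dvd).2 0 hi).le).trans f0
  simp only [mem_orb]
  rcases hf i i0 hi with k | ⟨y, hy, oy, k⟩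
  · exact (fix_eq_zero J.ι _ (by rwa [ho, ← SS, J.card_S hi])).le.trans (Nat.zero_le _)
  · have h1 := fix_mul_le J.ι _ (by rwa [cardH]) ho oy hy
    have h3 : Nat.card (normalizer (zpowers x : Set J4.H)) ≤ b := by
      rw [← card_map_of_injective J.sol.inj]
      exact (card_le_of_le (le_inf (map_le_range _ _) (J.ι.map_zpowers x ▸ le_normalizer_map _))).trans hb
    exact Nat.lt_succ_iff.1 (Nat.lt_of_mul_lt_mul_right ((h1.trans h3).trans_lt k))

theorem Λ_inj : Function.Injective J.Λ := fun a b e => by rw [← J.ρΛ a, e, J.ρΛ]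

theorem Λ_data {c p a b : ℕ} (e : band (okM c) (band (band (blt 0 p) (Nat.beq (ordT c) p))
      (Nat.beq (cntB 2048 fun v => Nat.beq (app 11 (NM c) v) v) a)) = true)
    (e' : Grp.allP c24 (fun q => band (blt 0 (ordT q.1)) (bor (!Nat.beq (ordT q.1) p) (Nat.beq (b % q.2) 0))) = true) :
    orderOf (J.Λ (Mathieu.mk c)) = p ∧ Nat.card ↥(J.M ⊓ centralizer {J.Λ (Mathieu.mk c)}) ∣ a * b := by
  have := J.fin
  simp only [band_eq_true, beq_iff, blt_iff] at e
  obtain ⟨e1, ⟨e2, e3⟩, e4⟩ := e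
  have o : orderOf (Mathieu.mk c) = p := (R.orderOf_eq (mk_rep e1) (by omega)).trans e3
  refine ⟨(orderOf_injective _ J.Λ_inj _).trans o, (J.card_cen_dvd (J.ΛM _)).trans ?_⟩
  rw [Loc.card_V_cen (J.act_ρ (J.ΛM _) (c := c) (by rw [J.ρΛ]; exact mk_rep e1)), e4, J.ρΛ]
  exact Nat.mul_dvd_mul_left _ (cen24 e' o)

theorem low_S {p m i : ℕ} [Fact p.Prime] (hi : i < 7) (e : sz i = p * m) (hm : ¬p ∣ m) :
    ∃ y ∈ J.S i, orderOf y = p ∧ p * (m % p) ≤ Nat.card ↥(J.S i ⊓ normalizer (zpowers y : Set J4.H)) := by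
  have c := (J.card_S hi).trans e
  generalize J.S i = S at c
  obtain ⟨y, ho⟩ := exists_prime_orderOf_dvd_card' (G := S) p (c ▸ dvd_mul_right _ _)
  obtain ⟨d, h1, h2⟩ := norm_card1 y.2 ((orderOf_coe y).trans ho) c hm
  exact ⟨y, y.2, (orderOf_coe y).trans ho, by rw [h1, ← h2]; exact Nat.mul_le_mul_left _ (Nat.mod_le _ _)⟩

include J in
theorem norm5_lt {x : G} (hx : orderOf x = 5) : Nat.card (normalizer (zpowers x : Set G)) < 161280 := by
  have := J.fin
  have : Fact (Nat.Prime 5) := ⟨Nat.prime_five⟩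
  obtain ⟨h1, h2⟩ := J.Λ_data (c := 979099910898169287315155563703569473) (p := 5) (a := 8) (b := 60)
    (by decide +kernel) (by decide +kernel)
  have h3 := Nat.le_of_dvd (by decide) ((card_norm_dvd J.M _).trans (mul_dvd_mul (d := 4) h2 (by rw [h1]; decide)))
  rw [(card_norm_eq (by rw [J.card]; decide) hx h1).1]
  refine ((J.fixp (f := fun i => [1, 0, 42, 0, 32].getD i 0) (by decide) (J.ΛM _) h1 h3 le_rfl (fun i a b => ?_)
    le_rfl).trans (Nat.mul_le_mul_left _ h3)).trans_lt (by decide)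
  interval_cases i
  any_goals (left; decide)
  · obtain ⟨L, k, e⟩ := J.gd_S cv2_p s2_chk
    obtain ⟨g, hg, r⟩ := k 0
    have o := lawH.orderOf canH (lawH.pw r 6) (band_eq_true.1 e).1
    obtain ⟨d, k1, k2⟩ := norm_card1 (m := 3538944) (pow_mem hg 6) o (J.card_S (by decide)) (by decide)
    have k3 := orderOf_dvd_natCard (J.S 2 ⊓ normalizer (zpowers (g ^ 6) : Set J4.H))
      ⟨pow_mem hg 10, mem_norm_zp (n := 1) (by group)⟩
    rw [lawH.orderOf canH (lawH.pw r 10) (band_eq_true.1 e).2, k1] at k3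
    exact Or.inr ⟨_, pow_mem hg 6, o, k1 ▸ (by omega : 1920 < (42 + 1) * (5 * d))⟩
  · obtain ⟨L, k, e⟩ := J.gd_S cv4_p s4_chk
    obtain ⟨g, hg, r⟩ := k 0
    obtain ⟨y, hy, s⟩ := k 1
    simp only [band_eq_true, beq_iff] at e
    have o := lawH.orderOf canH s e.1
    obtain ⟨d, k1, k2⟩ := norm_card1 (m := 3072) hy o (J.card_S (by decide)) (by decide)
    have k3 := orderOf_dvd_natCard (J.S 4 ⊓ normalizer (zpowers y : Set J4.H)) ⟨hg, mem_norm_zp (n := 2)
      (mul_inv_eq_iff_eq_mul.2 (lawH.uniq (lawH.mul r s) (e.2.2 ▸ lawH.mul (lawH.pw s 2) r)))⟩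
    have k4 := lawH.orderOf canH (lawH.pw r 2) e.2.1
    rw [ord_pp (g := g) (p := 2) (n := 1) k4, k1] at k3
    exact Or.inr ⟨_, hy, o, k1 ▸ (by omega : 1920 < (32 + 1) * (5 * d))⟩

include J in
theorem norm7_le {x : G} (hx : orderOf x = 7) : Nat.card (normalizer (zpowers x : Set G)) ≤ 9576 := by
  have := J.fin
  have : Fact (Nat.Prime 7) := ⟨Nat.prime_seven⟩
  obtain ⟨h1, h2⟩ := J.Λ_data (c := 9759154893309751776970966210612289) (p := 7) (a := 4) (b := 42)
    (by decide +kernel) (by decide +kernel)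
  have h3 := (card_norm_dvd J.M _).trans (mul_dvd_mul (d := 6) h2 (by rw [h1]; decide))
  obtain ⟨d, k1, k2⟩ := norm_card1 (m := 71628226560) (J.ΛM _) h1 J.card_M (by decide)
  have h4 := k1.trans_le (show 7 * d ≤ 504 by
    obtain ⟨t, ht⟩ := k1 ▸ h3
    rcases t with _ | _ | t
    exacts [by omega, by omega, by nlinarith])
  rw [(card_norm_eq (by rw [J.card]; decide) hx h1).1]
  refine (J.fixp (f := fun i => [1, 18].getD i 0) (by decide) (J.ΛM _) h1 h4 le_rfl (fun i a b => ?_)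
    le_rfl).trans ((Nat.mul_le_mul_left _ h4).trans (by decide))
  interval_cases i
  any_goals (left; decide)
  obtain ⟨y, a, b, c⟩ := J.low_S (p := 7) (m := 4718592) (i := 1) (by decide) rfl (by decide)
  exact Or.inr ⟨y, a, b, lt_of_lt_of_le (by decide) (Nat.mul_le_mul_left _ c)⟩

include J in
theorem cen11_le : ∃ x : G, orderOf x = 11 ∧ Nat.card (centralizer {x}) ≤ 242 := by
  have := J.fin
  have : Fact (Nat.Prime 11) := ⟨Nat.prime_eleven⟩
  obtain ⟨h1, h2⟩ := J.Λ_data (c := 8423040984857188785349158186126401) (p := 11) (a := 2) (b := 11)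
    (by decide +kernel) (by decide +kernel)
  have h3 := Nat.le_of_dvd (by decide) ((card_norm_dvd J.M _).trans (mul_dvd_mul (d := 10) h2 (by rw [h1]; decide)))
  refine ⟨_, h1, (J.fixp (f := fun i => [1, 0, 0, 0, 0, 0, 10].getD i 0) (by decide) (J.ΛM _) h1 h3 le_rfl
    (fun i a b => ?_) ((cen_zpowers _).ge.trans (centralizer_le_normalizer _))).trans
      ((Nat.mul_le_mul_left _ (Nat.le_of_dvd (by decide) h2)).trans (by decide))⟩
  interval_cases i
  any_goals (left; decide)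
  obtain ⟨y, a, b, c⟩ := J.low_S (p := 11) (m := 552) (i := 6) (by decide) rfl (by decide)
  exact Or.inr ⟨y, a, b, lt_of_lt_of_le (by decide) (Nat.mul_le_mul_left _ c)⟩

include J in
theorem norm23 {x : G} (hx : orderOf x = 23) : Nat.card (normalizer (zpowers x : Set G)) = 506 := by
  have := J.fin
  have : Fact (Nat.Prime 23) := ⟨by norm_num⟩
  obtain ⟨h1, h2⟩ := J.Λ_data (c := 24310314090034201988627368867400769) (p := 23) (a := 1) (b := 23)
    (by decide +kernel) (by decide +kernel)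
  have h3 := Nat.le_of_dvd (by decide) ((card_norm_dvd J.M _).trans (mul_dvd_mul (d := 22) h2 (by rw [h1]; decide)))
  obtain ⟨d, k1, k2⟩ := norm_card1 (m := 21799895040) (J.ΛM _) h1 J.card_M (by decide)
  have h4 := k1.trans_le (show 23 * d ≤ 253 by omega)
  obtain ⟨d, k1, k2⟩ := norm_card1 (m := 3772850915046850560) (mem_top x) hx (by rw [card_top, J.card]) (by decide)
  rw [top_inf_eq] at k1
  suffices Nat.card (normalizer (zpowers x : Set G)) ≤ 506 by omega
  rw [(card_norm_eq (by rw [J.card]; decide) hx h1).1]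
  refine (J.fixp (f := fun i => [1, 0, 0, 0, 0, 0, 1].getD i 0) (by decide) (J.ΛM _) h1 h4 le_rfl (fun i a b => ?_)
    le_rfl).trans ((Nat.mul_le_mul_left _ h4).trans (by decide))
  interval_cases i
  any_goals (left; decide)
  obtain ⟨y, a, b, c⟩ := J.low_S (p := 23) (m := 264) (i := 6) (by decide) rfl (by decide)
  exact Or.inr ⟨y, a, b, lt_of_lt_of_le (by decide) (Nat.mul_le_mul_left _ c)⟩

end Mod

end Cfsg.Lib.J4T
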