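import Cfsg.Agent.Lib.J4T.Stab

/-! # The Gram matrix of the orbit of the fixed vector (Part I, steps 3 and 4) -/

set_option autoImplicit false
set_option maxRecDepth 100000

namespace Cfsg.Lib.J4T.Lx

open Cfsg.Lib.Calc Cfsg.Lib.F2 Cfsg.Lib.Mathieu Subgroup Module Finset

/-- words carrying the test vectors to `1` -/
def rowW : List (List ℕ) := [[], [6, 6], [5, 2, 6], [5, 2], [3, 1, 4, 0, 2], [0, 3, 4, 1, 2], [5, 1, 3, 5, 4], [2, 0, 1, 4, 5], [1, 5, 1, 3, 5, 2], [5, 1, 3, 5, 0, 2], [0, 1, 2, 1, 5, 0], [2, 4, 1, 5, 4], [1, 0, 3], [2, 5, 1, 3], [5, 0, 5], [5, 0, 2, 6], [5, 1, 4, 6], [5, 1, 4]]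
/-- the test vectors -/
def rowV : List ℕ := [1, 2, 4, 8, 16, 32, 64, 128, 256, 512, 1024, 2048, 1258, 2175, 33, 50, 2040, 2396]
/-- orbit numbers of pairs of test vectors -/
def CT : ℕ := 0x13445698a9678a9898214475a98a5698a9a9441356a9678a5667754421758a5698755667676713a9a9a98a56985656218a8a8a9875a9a998981344448a44448aa9a9214444984444985698441344678a56a975a9442144569875568a9844441344448a7598a94444214444988a678a8a5644134467985698987544214456a95667448a444413448a7556449844442144a975a944678a5644138a678a445698754421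
/-- dual bases -/
def certs : List ℕ := [0x200001000080000400020000100008000040002000010000800004000262d4941cc520c41000c,
  0x132004e8000c2c0d8d01b804db013a344a8602c0c4c8113218034b1347358941cc520c410060,
  0x1008100348006c020100c0010000800041201088a010bc08310030800483dcd62d4730c41006c,
  0x1c70010401453c3c450521000081c70014401653c3d4505a1051080c17358941cc520c41060c,
  0x27b309dac27df09edc0008020342bb508ecc08000360006c009fcc008062d4941cc520c410660,
  0xb6d048c823130ede0102a08cc8311306e102b130c04410220a07c319362d4941cc520c41066c]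

/-- code of a word -/
noncomputable def rX (i : ℕ) : ℕ := evL l7 (rowW.getD i [])
/-- test vector -/
noncomputable def rV (i : ℕ) : ℕ := Calc.nth rowV i
/-- orbit number -/
def ct (i j : ℕ) : ℕ := Calc.get 4 CT (18 * i + j)

theorem row_ok : allLt 18 (fun i => forceB (mc (rX i)) fun C => band (band (blt (rV i) 4096) (Nat.beq (app 12 C (rV i)) 1))
    (allLt 18 fun j => Nat.beq (cls (app 12 C (rV j))) (ct i j))) = true := by decide +kernel
theorem row_pow : allLt 12 (fun i => Nat.beq (rV i) (2 ^ i)) = true := by decide +kernel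
theorem row_bb : allLt 12 (fun i => forceB (mc (rX i)) fun C => allBig 4096 fun c => bor (Nat.beq (cls c) 0)
    (Nat.beq (Calc.get 1 1536 (cls (app 12 C c))) (bb (2 ^ i) c))) = true := by decide +kernel

/-- parity -/
noncomputable def xr (f : ℕ → Bool) (n : ℕ) : Bool :=
  Nat.rec (motive := fun _ => Bool) false (fun i ih => xor ih (f i)) n

theorem z2_xr (f : ℕ → Bool) (n : ℕ) : z2 (xr f n) = ∑ i ∈ range n, z2 (f i) := by
  induction n with
  | zero => exact z2_false
  | succ n ih => rw [sum_range_succ, ← ih, ← z2_xor]; rfl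

/-- `τ` is not a possible Gram function for elementary reasons -/
noncomputable def viol (τ : ℕ) : Bool :=
  bor (bor (τ.testBit 0) (τ.testBit 1)) (bor (Grp.anyL [1, 4, 16, 64] fun c => xor (xor
    (τ.testBit (cls (app 12 (mc cP) (app 12 (mc cP) c)))) (τ.testBit (cls (app 12 (mc cP) c)))) (τ.testBit (cls c)))
    (anyLt 12 fun i => xor (τ.testBit (ct i 0)) (τ.testBit (ct 0 i))))

/-- thirteen independent vectors -/
noncomputable def certOK (τ z : ℕ) : Bool :=
  allLt 13 fun j => forceB (Calc.get 5 (z >>> 11) j) fun c => band (blt c 18) (allLt 13 fun k =>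
    forceB (Calc.get 18 (z >>> 76) k) fun m => xor (xr (fun i => m.testBit i && τ.testBit (ct i c)) 18) (!Nat.beq k j))

theorem tau_ok : allBig 2048 (fun τ => bor (viol τ) (bor (bor (Nat.beq τ 0) (Nat.beq τ 1536))
    (Grp.anyL certs fun z => band (Nat.beq (Nat.land z 2047) τ) (certOK τ z)))) = true := by decide +kernel

theorem xor_ind {P : ℕ → Prop} (h0 : P 0) (h1 : ∀ i < 12, P (2 ^ i))
    (h2 : ∀ a < 4096, ∀ b < 4096, P a → P b → P (a ^^^ b)) : ∀ v < 4096, P v := by
  suffices ∀ n ≤ 12, ∀ v < 2 ^ n, P v from this 12 le_rfl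
  intro n hn
  induction n with
  | zero => intro v hv; obtain rfl : v = 0 := by omega
            exact h0
  | succ n ih =>
    intro v hv
    by_cases h : v < 2 ^ n
    · exact ih (by omega) v h
    · have e : v = 2 ^ n ^^^ (v - 2 ^ n) := by
        have h3 : v - 2 ^ n < 2 ^ n := by rw [pow_succ] at hv; omega
        obtain ⟨u, rfl⟩ : ∃ u, v = 2 ^ n + u := ⟨v - 2 ^ n, by omega⟩
        rw [Nat.add_sub_cancel_left] at h3 ⊢
        refine Nat.eq_of_testBit_eq fun j => ?_
        rw [Nat.testBit_xor, Nat.testBit_two_pow]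
        rcases lt_trichotomy j n with k | rfl | k
        · rw [Nat.testBit_two_pow_add_gt k]; simp [k.ne']
        · rw [Nat.testBit_two_pow_add_eq]; simp
        · have := Nat.pow_le_pow_right (show 0 < 2 by norm_num) (show n + 1 ≤ j from k)
          rw [Nat.testBit_lt_two_pow (by omega), Nat.testBit_lt_two_pow (by omega)]; simp [k.ne]
      have h4 : 2 ^ (n + 1) ≤ 2 ^ 12 := Nat.pow_le_pow_right (by norm_num) hn
      rw [e]
      exact h2 _ (by omega) _ (by omega) (h1 n (by omega)) (ih (by omega) _ (by rw [pow_succ] at hv; omega))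

/-- the lowest bit -/
def zb (n : ℕ) : ZMod 2 := z2 (n.testBit 0)

theorem zb_xor (a b : ℕ) : zb (a ^^^ b) = zb a + zb b := by rw [zb, Nat.testBit_xor, z2_xor]; rfl
theorem zb_zero : zb 0 = 0 := rfl
theorem zb_one : zb 1 = 1 := rfl
theorem zb_get (a i : ℕ) : zb (Calc.get 1 a i) = z2 (a.testBit i) := by rw [zb, testBit_get]; simp
theorem xor_bb (a b w : ℕ) : bb (a ^^^ b) w = bb a w ^^^ bb b w := by rw [bb_comm, bb_xor, bb_comm w, bb_comm w]
theorem zero_bb (v : ℕ) : bb 0 v = 0 := by rw [bb_comm, bb_zero]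

variable {V : Type*} [AddCommGroup V] [Module (ZMod 2) V] {ρ : Representation (ZMod 2) K0 V}
  {B : LinearMap.BilinForm (ZMod 2) V} {v : V}

theorem wd (hY : ∀ X ∈ yL, Gn (St ρ v) X) {g h : K0} (e : act g 1 = act h 1) : ρ g v = ρ h v := by
  have : h⁻¹ * g ∈ St ρ v := stab_le hY (by rw [act_mul, e]; exact act_inv rfl)
  rw [mem_St, ← rmul] at this
  conv_rhs => rw [← this, rinv']

theorem beta_cls (hB : ∀ g x y, B (ρ g x) (ρ g y) = B x y) (hY : ∀ X ∈ yL, Gn (St ρ v) X) {g h : K0}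
    (e : cls (act g 1) = cls (act h 1)) : B v (ρ g v) = B v (ρ h v) := by
  have key : ∀ g : K0, ∃ k : K0, (act k 1).val = Calc.nth RP (cls (act g 1)) ∧ B v (ρ g v) = B v (ρ k v) := fun g => by
    obtain ⟨y, a, b⟩ := exists_root hY (act g 1).2
    obtain ⟨k, -, d⟩ := Gn.evL gn_l7 (repW.getD (cls (act g 1)) [])
    have e : (act k 1).val = Calc.nth RP (cls (act g 1)) := (d.act 1).trans (beq_iff.1 ((bor_eq_true.1
      (of_allLt rep_ok (cls_lt (act g 1).2))).resolve_left fun e => cls_ne g (beq_iff.1 e)))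
    refine ⟨k, e, ?_⟩
    rw [← hB y v (ρ k v), (mem_St ρ).1 a, rmul,
      wd hY (g := y * k) (h := g) (Fin.ext (b (act k 1) (e.trans (root_eq (cls_ne g)).symm)))]
  obtain ⟨k, a, b⟩ := key g
  obtain ⟨l, c, d⟩ := key h
  rw [b, d, wd hY (Fin.ext (a.trans (e ▸ c.symm)))]

theorem exists_tau (hB : ∀ g x y, B (ρ g x) (ρ g y) = B x y) (hY : ∀ X ∈ yL, Gn (St ρ v) X) :
    ∃ τ < 2048, τ.testBit 0 = false ∧ ∀ g, B v (ρ g v) = z2 (τ.testBit (cls (act g 1))) := by
  classical
  let t : ℕ → ℕ := fun k => if ∃ g, cls (act g 1) = k ∧ B v (ρ g v) = 1 then 1 else 0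
  have ht : ∀ i < 11, t i < 2 ^ 1 := fun i _ => by simp only [t]; split_ifs <;> norm_num
  have h1 : ∀ i < 11, z2 ((pack 1 t 11).testBit i) = zb (t i) := fun i hi => by rw [← zb_get, get_pack ht hi]
  refine ⟨pack 1 t 11, pack_lt ht, z2_inj ?_, fun g => ?_⟩
  · rw [h1 0 (by norm_num)]
    simp only [t]
    rw [if_neg fun ⟨g, a, _⟩ => cls_ne g a]; rfl
  · rw [h1 _ (cls_lt (act g 1).2)]
    simp only [t]
    split_ifs with h
    · obtain ⟨k, a, b⟩ := h
      rw [← beta_cls hB hY a, b]; rfl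
    · have : ∀ a : ZMod 2, a ≠ 1 → a = zb 0 := by decide
      exact this _ fun e => h ⟨g, rfl, e⟩

theorem exists_rows : ∃ r : ℕ → K0, (∀ i, C0 (r i) (rX i)) ∧ r 0 = 1 ∧ ∀ i < 18, (act (r i)⁻¹ 1).val = rV i := by
  have h : ∀ i, C0 (el (rX i)) (rX i) := fun i => (Gn.evL gn_l7 _).c
  refine ⟨_, h, (h 0).eq C0.one (by decide +kernel), fun i hi => ?_⟩
  have := of_allLt row_ok hi
  simp only [forceB_eq, band_eq_true, blt_iff, beq_iff] at this
  rw [act_inv (v := ⟨_, this.1.1⟩) (Fin.ext (((h i).act _).trans this.1.2))]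

theorem tau_cases [Finite V] (hV : finrank (ZMod 2) V = 12) (hA : B.IsAlt) (hB : ∀ g x y, B (ρ g x) (ρ g y) = B x y)
    (hW : v ∈ WW ρ) {τ : ℕ} (h1 : τ < 2048) (h2 : τ.testBit 0 = false)
    (h3 : ∀ g, B v (ρ g v) = z2 (τ.testBit (cls (act g 1)))) : τ = 0 ∨ τ = 1536 := by
  obtain ⟨r, r1, r0, r2⟩ := exists_rows
  have G : ∀ i < 18, ∀ j < 18, B (ρ (r i)⁻¹ v) (ρ (r j)⁻¹ v) = z2 (τ.testBit (ct i j)) := fun i hi j hj => by
    have := of_allLt row_ok hi
    simp only [forceB_eq, band_eq_true, allLt_iff, beq_iff] at this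
    rw [← hB (r i), rinv', rmul, h3, act_mul, (r1 i).act, r2 j hj, this.2 j hj]
  rcases bor_eq_true.1 (allBig_iff.1 tau_ok τ h1) with e | e
  · exfalso
    simp only [viol, bor_eq_true, Grp.anyL_iff, anyLt_iff] at e
    rcases e with (e | e) | ⟨c, hc, e⟩ | ⟨i, hi, e⟩
    · rw [h2] at e; exact Bool.false_ne_true e
    · have := h3 1
      rw [rone, hA.self_eq_zero, act_one, show cls (1 : Fin 4096) = 1 by decide +kernel, e] at this
      exact absurd this (by decide)
    · obtain ⟨g, rfl⟩ := exists_act (c := c) (by simp at hc; omega) (by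
        clear e; revert c; simp only [List.forall_mem_cons]; decide +kernel)
      have a := congrArg z2 e
      rw [z2_xor, z2_xor, ← c_pp.act, ← c_pp.act, ← act_mul pp g, ← act_mul, ← h3, ← h3, ← h3, ← rmul, ← rmul, ← map_add,
        ← map_add, (mem_WW ρ).1 (WW_inv ρ g hW), map_zero] at a
      exact absurd a (by decide)
    · have a := congrArg z2 e
      rw [z2_xor, ← G i (by omega) 0 (by omega), ← G 0 (by omega) i (by omega), ← hA.neg_eq, neg_add_cancel] at a
      exact absurd a (by decide)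
  rcases bor_eq_true.1 e with e | e
  · exact (bor_eq_true.1 e).imp beq_iff.1 beq_iff.1
  exfalso
  obtain ⟨z, -, e⟩ := Grp.anyL_iff.1 e
  have e := (band_eq_true.1 e).2
  simp only [certOK, allLt_iff, forceB_eq, band_eq_true, blt_iff] at e
  have key : ∀ k j : Fin 13, (∑ i ∈ range 18, z2 ((Calc.get 18 (z >>> 76) k).testBit i) • B (ρ (r i)⁻¹ v))
      (ρ (r (Calc.get 5 (z >>> 11) j))⁻¹ v) = z2 (Nat.beq k j) := fun k j => by
    have a := congrArg z2 ((e j j.2).2 k k.2)
    rw [z2_xor, z2_xr] at a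
    rw [LinearMap.sum_apply, sum_congr rfl fun i hi => by
      rw [LinearMap.smul_apply, G i (mem_range.1 hi) _ (e j j.2).1, smul_eq_mul, ← z2_and]]
    have : ∀ (s : ZMod 2) (b : Bool), s + z2 (!b) = z2 true → s = z2 b := by decide
    exact this _ _ a
  have li := LinearIndependent.of_pairwise_dual_eq_zero_one (R := ZMod 2) _ _ (fun k j h => (key k j).trans (by
    rw [Bool.eq_false_iff.2 fun e => h (Fin.ext (beq_iff.1 e))]; rfl)) fun k => (key k k).trans (by
    rw [beq_iff.2 rfl]; rfl)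
  have := li.fintype_card_le_finrank
  rw [hV, Fintype.card_fin] at this
  omega

theorem tau_ne [Finite V] (hV : finrank (ZMod 2) V = 12) (hN : B.Nondegenerate)
    (hB : ∀ g x y, B (ρ g x) (ρ g y) = B x y) (hW : v ∈ WW ρ) (h0 : v ≠ 0) : ¬∀ g, B v (ρ g v) = 0 := fun h => by
  let U := Submodule.span (ZMod 2) (Set.range fun g => ρ g v)
  have hU : ∀ g, ρ g v ∈ U := fun g => Submodule.subset_span ⟨g, rfl⟩
  have h1 : U ≤ B.orthogonal U := by
    refine Submodule.span_le.2 ?_
    rintro _ ⟨g, rfl⟩ x hx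
    have : U ≤ LinearMap.ker (B.flip (ρ g v)) := Submodule.span_le.2 (by
      rintro _ ⟨k, rfl⟩
      change B (ρ k v) (ρ g v) = 0
      rw [← hB k⁻¹, rinv, rmul, h])
    exact this hx
  have h2 := Submodule.finrank_mono h1
  rw [B.finrank_orthogonal hN, hV] at h2
  obtain ⟨x, -, c⟩ := Gn.evL gn_l7 [0, 1, 0, 4, 5]
  obtain ⟨l, -, d⟩ := Gn.nth gn_l7 2
  have h3 := eleven U (ρ x) (fun y hy => (show U ≤ U.comap (ρ x) from Submodule.span_le.2 (by
    rintro _ ⟨g, rfl⟩
    change ρ x (ρ g v) ∈ U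
    rw [rmul]; exact hU _)) hy) (by
      rw [← map_pow, show x ^ 11 = 1 from Subtype.ext ((real.pw c.1 11).eq RC.one (by decide +kernel)), map_one])
    (by omega)
  refine h0 (eq_zero_of_pp ρ hW (Gn.mem (Gn.of (Ls := [_, _]) (List.forall_mem_cons.2 ⟨⟨x, ?_, c⟩,
    List.forall_mem_singleton.2 ⟨_, ?_, d.mul (c.mul d)⟩⟩) [0, 0, 1, 1, 0, 0, 1, 1, 0, 0, 1, 1, 0, 0, 1, 1]
    (by decide +kernel)) c_pp))
  · exact h3 v (by simpa using hU 1)
  · rw [mem_St, ← rmul, ← rmul, h3 _ (hU l), rmul, (d.mul d).eq C0.one (by decide +kernel), rone]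

/-- The module is the standard one. -/
theorem exists_theta [Finite V] (hV : finrank (ZMod 2) V = 12) (hA : B.IsAlt) (hN : B.Nondegenerate)
    (hB : ∀ g x y, B (ρ g x) (ρ g y) = B x y) (hp : ρ pp ≠ 1) :
    ∃ θ : ℕ → V, (∀ a b, θ (a ^^^ b) = θ a + θ b) ∧ (∀ x, ∃ a < 4096, θ a = x) ∧
      (∀ a < 4096, ∀ b < 4096, B (θ a) (θ b) = zb (bb a b)) ∧
      ∀ g X, C0 g X → ∀ a < 4096, ρ g (θ a) = θ (app 12 (mc X) a) := by
  obtain ⟨v, hW, h0, hY⟩ := exists_v0 ρ hV hp
  obtain ⟨τ, h1, h2, h3⟩ := exists_tau hB hY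
  obtain rfl : τ = 1536 := (tau_cases hV hA hB hW h1 h2 h3).resolve_left (by
    rintro rfl
    exact tau_ne hV hN hB hW h0 fun g => by rw [h3, Nat.zero_testBit]; rfl)
  obtain ⟨r, r1, r0, r2⟩ := exists_rows
  have r3 : ∀ i < 12, (act (r i)⁻¹ 1).val = 2 ^ i := fun i hi =>
    (r2 i (by omega)).trans (beq_iff.1 (of_allLt row_pow hi))
  let θ : ℕ → V := fun a => ∑ i ∈ range 12, z2 (a.testBit i) • ρ (r i)⁻¹ v
  have t1 : ∀ a b, θ (a ^^^ b) = θ a + θ b := fun a b => by
    simp only [θ, Nat.testBit_xor, z2_xor, add_smul, sum_add_distrib]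
  have t0 : θ 0 = 0 := by simp only [θ, Nat.zero_testBit, z2_false, zero_smul, sum_const_zero]
  have t2 : ∀ i < 12, θ (2 ^ i) = ρ (r i)⁻¹ v := fun i hi => by
    simp only [θ]
    rw [sum_eq_single i (fun j _ e => by rw [Nat.testBit_two_pow_of_ne e.symm, z2_false, zero_smul])
      (fun e => absurd (mem_range.2 hi) e), Nat.testBit_two_pow_self, z2_true, one_smul]
  have t3 : ∀ g, ∀ a < 4096, B (θ a) (ρ g v) = zb (bb a (act g 1)) := fun g => xor_ind
    (by rw [t0, zero_bb, LinearMap.map_zero, LinearMap.zero_apply, zb_zero]) (fun i hi => by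
      have := of_allLt row_bb hi
      rw [forceB_eq] at this
      have := beq_iff.1 ((bor_eq_true.1 (allBig_iff.1 this _ (act g 1).2)).resolve_left fun e => cls_ne g (beq_iff.1 e))
      rw [t2 i hi, ← hB (r i), rinv', rmul, h3, act_mul, (r1 i).act, ← this, zb_get])
    fun a _ b _ x y => by rw [t1, xor_bb, zb_xor, LinearMap.map_add, LinearMap.add_apply, x, y]
  have t4 : ∀ a < 4096, ∀ b < 4096, B (θ a) (θ b) = zb (bb a b) := fun a ha => xor_ind
    (by rw [t0, bb_zero, map_zero, zb_zero]) (fun i hi => by rw [t2 i hi, t3 _ a ha, r3 i hi])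
    fun b _ c _ x y => by rw [t1, bb_xor, zb_xor, map_add, x, y]
  have t5 : ∀ x, ∃ a < 4096, θ a = x := fun x => by
    have : Function.Bijective fun a : Fin 4096 => θ a := by
      refine (Nat.bijective_iff_injective_and_card _).2 ⟨fun a b e => ?_, by
        rw [natCard_eq_pow_finrank (K := ZMod 2) (V := V), hV, Nat.card_zmod, Nat.card_fin]; rfl⟩
      by_contra hne
      obtain ⟨w, hw, e'⟩ := exists_bb (xor_lt a.2 b.2) fun k => hne (Fin.ext (Nat.xor_eq_zero_iff.1 k))
      have := t4 _ (xor_lt a.2 b.2) w hw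
      rw [t1, show θ a = θ b from e, add_self, e', LinearMap.map_zero, LinearMap.zero_apply] at this
      exact absurd this (by decide)
    obtain ⟨a, e⟩ := this.2 x
    exact ⟨a, a.2, e⟩
  have t6 : ∀ g, ρ g v = θ (act g 1) := fun g => by
    have := hN.2 (ρ g v + θ (act g 1)) fun x => by
      obtain ⟨a, ha, rfl⟩ := t5 x
      rw [map_add, t3 g a ha, t4 a ha _ (act g 1).2, add_self]
    ch2 this
  exact ⟨θ, t1, t5, t4, fun g X c => xor_ind (by rw [app_zero, t0, map_zero])
    (fun i hi => by rw [t2 i hi, rmul, t6, act_mul, c.act, r3 i hi])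
    fun a _ b _ x y => by rw [app_xor, t1, t1, map_add, x, y]⟩

end Cfsg.Lib.J4T.Lx
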