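import Cfsg.Agent.Lib.J4T.Max

/-! # A subgroup of J₄ that does not grow inside a normaliser -/

set_option autoImplicit false
set_option maxRecDepth 100000

namespace Cfsg.Lib.J4T

open Cfsg.Lib.Calc Cfsg.Lib.F2 Cfsg.Lib.Mathieu Cfsg.Lib.Big Cfsg.Lib.J4 Subgroup Cfsg.Lib.Transfer

/-- a power by repeated squaring -/
noncomputable def pwB (C : ℕ) (bs : List ℕ) : ℕ → ℕ :=
  List.rec (motive := fun _ => ℕ → ℕ) id
    (fun b _ ih a => forceN (eM.mul a a) fun s => forceN (cnd (Nat.beq b 0) s (eM.mul s C)) ih) bs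

/-- the exponent -/
def exB (bs : List ℕ) : ℕ → ℕ :=
  List.rec (motive := fun _ => ℕ → ℕ) id (fun b _ ih e => ih (if b = 0 then e + e else e + e + 1)) bs

/-- `A * B` has the order `exB bs 1 - 1` -/
noncomputable def ordB (A B : ℕ) (bs : List ℕ) : Bool := forceB (eM.mul A B) fun g =>
  band (!Nat.beq g (eM.mul eM.one eM.one)) (Nat.beq (pwB g bs g) g)

/-- a member of a list -/
noncomputable def nx (L : List ℕ) (r i : ℕ) : ℕ := forceN (Calc.get 10 r i) (F2.nth eM.one L)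

/-- an element of the normaliser gives elements of the listed orders -/
noncomputable def topOK (Ns Ys : List ℕ) (ps : List (ℕ × List ℕ)) (r : ℕ) : Bool :=
  forceB (nx Ns r 0) fun A => forceB (nx Ns r 1) fun B => forceB (eM.mul A B) fun T =>
    Grp.allP ps fun p => forceB (nx Ys r p.1) fun C => bor (ordB T C p.2)
      (forceB (eM.mul T C) fun A => forceB (eM.mul T (nx Ys r (p.1 + 1))) fun B => ordB A B p.2)

/-- all of them do -/
noncomputable def topAll (Ng pN Yg pY : List ℕ) (ps : List (ℕ × List ℕ)) (rs : List ℕ) : Bool :=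
  eM.slp Ng pN fun Ns => eM.slp Yg pY fun Ys => allL rs (topOK Ns Ys ps)

/-- the number of objects found from several roots -/
noncomputable def orbR (act : ℕ → ℕ → ℕ) (k : ℕ) (h : ℕ → ℕ) (fuel : ℕ) (rs : List ℕ) : List ℕ → ℕ → ℕ → ℕ :=
  List.rec (motive := fun _ => List ℕ → ℕ → ℕ → ℕ) (dfsOut act k h (fun _ => true) fuel)
    (fun y _ ih st V n => forceN y fun y => dfsPush h (fun _ => true) y ih st V n) rs

/-- the double cosets of the elements contain `m` cosets -/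
noncomputable def cntAll (Ng pN Fs Gs : List ℕ) (v D p q r m : ℕ) (rs : List ℕ) : Bool := eM.slp Ng pN fun Ns =>
  band (band (eM.vld v) (allL Gs fun C => Nat.beq (eM.app C v) v))
    (Nat.ble m (orbR (fun l c => eM.app (F2.nth eM.one Fs l) c) Fs.length (ph D p q r) m (v :: rs.map fun t =>
      forceN (nx Ns t 0) fun A => forceN (nx Ns t 1) fun B => forceN (eM.app B v) (eM.app A)) [] 0 0))

theorem orbR_spec {good : ℕ → Prop} {act : ℕ → ℕ → ℕ} {k : ℕ} {h : ℕ → ℕ} (hact : ∀ l < k, ∀ c, good c → good (act l c))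
    (fuel : ℕ) {rs : List ℕ} (hr : ∀ c ∈ rs, good c) : ∀ st V n, DfsInv id good h (fun _ => true) st V n →
      DfsRes id good (fun _ => true) (orbR act k h fuel rs st V n) := by
  induction rs with
  | nil => exact dfsOut_spec (fun _ _ _ _ e => congrArg h e) hact fuel
  | cons y rs ih =>
    intro st V n H
    rw [show orbR act k h fuel (y :: rs) st V n = dfsPush h (fun _ => true) y (orbR act k h fuel rs) st V n from
      forceN_eq y fun y => dfsPush h (fun _ => true) y (orbR act k h fuel rs) st V n]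
    exact dfsPush_spec (fun _ _ _ _ e => congrArg h e) (hr y List.mem_cons_self)
      (ih fun c hc => hr c (List.mem_cons_of_mem _ hc)) H

variable {G : Type*} [Group G]

theorem all_of_cnt [Finite G] {N F : Subgroup G} (h : F ≤ N) {P : G → Prop} (hP : ∀ g, P g → ∀ k ∈ F, P (g * k))
    {c : G → ℕ} (hc : ∀ g, ∀ k ∈ F, c (g * k) = c g) {S : Finset ℕ} (hS : ∀ y ∈ S, ∃ g ∈ N, P g ∧ c g = y)
    (e : Nat.card N ≤ S.card * Nat.card F) : ∀ g ∈ N, P g := fun g hg => by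
  choose! t t1 t2 t3 using hS
  obtain ⟨⟨y, k⟩, a⟩ := ((Nat.bijective_iff_injective_and_card (fun x : S × F =>
    (⟨t x.1 * x.2, mul_mem (t1 _ x.1.2) (h x.2.2)⟩ : N))).2 (by
      have i : Function.Injective fun x : S × F => (⟨t x.1 * x.2, mul_mem (t1 _ x.1.2) (h x.2.2)⟩ : N) := fun x y a => by
        have a : t x.1 * x.2 = t y.1 * y.2 := Subtype.ext_iff.1 a
        have b : x.1 = y.1 := Subtype.ext (((hc _ _ x.2.2).trans (t3 _ x.1.2)).symm.trans
          ((congrArg c a).trans ((hc _ _ y.2.2).trans (t3 _ y.1.2))))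
        exact Prod.ext b (Subtype.ext (mul_left_cancel (a.trans (by rw [b]))))
      exact ⟨i, (Nat.card_le_card_of_injective _ i).antisymm (by simpa using e)⟩)).2 ⟨g, hg⟩
  exact (show t y * k = g from Subtype.ext_iff.1 a) ▸ hP _ (t2 _ y.2) _ k.2

namespace Mod

variable {J : Mod G}

theorem gd_slpL {S : Subgroup G} {L : List ℕ} (h : ∀ C ∈ L, Big.Gd J.R S C) (prog : List ℕ) :
    ∀ C ∈ slpL L prog, Big.Gd J.R S C := by
  induction prog generalizing L with
  | nil => exact h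
  | cons t prog ih =>
    obtain ⟨a, a1, a2⟩ := J.law.gd_nth h (Nat.shiftRight t (nat_lit 10))
    obtain ⟨b, b1, b2⟩ := J.law.gd_nth h (Nat.land t (nat_lit 1023))
    exact ih (List.forall_mem_cons.2 ⟨⟨_, mul_mem a1 b1, mul a2 b2⟩, h⟩)

theorem gd_nx {S : Subgroup G} {L : List ℕ} (h : ∀ C ∈ L, Big.Gd J.R S C) (r i : ℕ) : Big.Gd J.R S (nx L r i) := by
  rw [nx, forceN_eq]; exact J.law.gd_nth h _

theorem pwB {g : G} {C : ℕ} (h : J.R g C) (bs : List ℕ) : ∀ {e a}, J.R (g ^ e) a → J.R (g ^ exB bs e) (pwB C bs a) := by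
  induction bs with
  | nil => exact id
  | cons b bs ih =>
    intro e a k
    rw [show J4T.pwB C (b :: bs) a = J4T.pwB C bs (cnd (Nat.beq b 0) (eM.mul a a) (eM.mul (eM.mul a a) C)) from
      (forceN_eq _ fun s => forceN (cnd (Nat.beq b 0) s (eM.mul s C)) (J4T.pwB C bs)).trans (forceN_eq _ _)]
    refine ih ?_
    cases b
    · exact (pow_add g e e).symm ▸ mul k k
    · exact (pow_succ g _).symm ▸ (pow_add g e e).symm ▸ mul (mul k k) h

theorem ordB {g h : G} {A B p : ℕ} (a : J.R g A) (b : J.R h B) {bs : List ℕ} (hp : p.Prime) (e : exB bs 1 = p + 1)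
    (k : ordB A B bs = true) : orderOf (g * h) = p := by
  have := Fact.mk hp
  rw [J4T.ordB, forceB_eq, band_eq_true] at k
  have r := mul a b
  have h1 := eq (pwB r bs (e := 1) ((pow_one (g * h)).symm ▸ r)) r k.2
  rw [e, pow_succ, mul_eq_right] at h1
  refine orderOf_eq_prime h1 fun t => ne_of_not_beq k.1 (J.can r ?_)
  rw [t, ← mul_one 1]
  exact mul J.one J.one

theorem grow {N Y X : Subgroup G} (hX : Y ≤ X) {ps : List (ℕ × List ℕ)} (hp : ∀ p ∈ ps, (exB p.2 1 - 1).Prime)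
    (hn : ¬∀ p ∈ ps, exB p.2 1 - 1 ∣ Nat.card X) {Ng pN Yg pY Fs Gs pF : List ℕ} (h1 : ∀ C ∈ Ng, Big.Gd J.R N C)
    (h2 : ∀ C ∈ Yg, Big.Gd J.R X C) (h3 : ∀ C ∈ Fs, Big.Gd J.R (N ⊓ Y) C)
    (h3' : ∀ C ∈ Gs, Big.Gd J.R (N ⊓ Y) C) {rs : List ℕ}
    (e1 : ∀ r ∈ rs, topOK (slpL Ng pN) (slpL Yg pY) ps r = true) {v D p q r m f : ℕ} {E : List (List ℕ × List ℕ)}
    (e2 : band (cntAll Ng pN Fs Gs v D p q r m rs) (J4T.lowG Gs pF E f) = true) (hN : Nat.card N ≤ m * f) : X ⊓ N ≤ Y := by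
  have := J.fin
  obtain ⟨_, A⟩ := J.act
  rw [band_eq_true, cntAll, slp_eq, band_eq_true, band_eq_true, allL_iff] at e2
  obtain ⟨⟨⟨a1, a2⟩, a3⟩, a4⟩ := e2
  obtain ⟨v, rfl⟩ := A.vld v a1
  have h4 := gd_slpL h1 pN
  have h5 : ∀ C ∈ Gs, Big.Gd J.R (N ⊓ Y ⊓ MulAction.stabilizer G v) C := fun C hC =>
    let ⟨g, b1, b2⟩ := h3' C hC; ⟨g, ⟨b1, A.inj ((A.app b2 v).trans (beq_iff.1 (a2 C hC)))⟩, b2⟩
  have h6 := orbR_spec (good := fun c => ∃ g ∈ N, (g ∈ X → g ∈ Y) ∧ code2 112 (g • v) = c) (h := ph D p q r)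
    (act := fun l c => eM.app (F2.nth eM.one Fs l) c) (k := Fs.length) (fun l _ c ⟨g, b1, b2, b3⟩ => by
      obtain ⟨t, c1, c2⟩ := J.law.gd_nth h3 l
      exact ⟨t * g, mul_mem c1.1 b1, fun k => mul_mem c1.2 (b2 ((mul_mem_cancel_left (hX c1.2)).1 k)),
        by rw [mul_smul, A.app c2, b3]⟩) m
    (rs := code2 112 v :: rs.map fun t => forceN (nx (slpL Ng pN) t 0) fun A => forceN (nx (slpL Ng pN) t 1) fun B =>
      forceN (eM.app B (code2 112 v)) (eM.app A))
    (List.forall_mem_cons.2 ⟨⟨1, one_mem _, fun _ => one_mem _, by rw [one_smul]⟩, List.forall_mem_map.2 fun t ht => by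
      obtain ⟨a, b1, b2⟩ := gd_nx h4 t 0
      obtain ⟨b, c1, c2⟩ := gd_nx h4 t 1
      refine ⟨a * b, mul_mem b1 c1, fun k => absurd (fun s hs => ?_) hn, by
        rw [forceN_eq, forceN_eq, forceN_eq, mul_smul, A.app b2, A.app c2]⟩
      have k1 := e1 t ht
      rw [topOK, forceB_eq, forceB_eq, forceB_eq, Grp.allP_iff] at k1
      obtain ⟨c, d1, d2⟩ := gd_nx (gd_slpL h2 pY) t s.1
      obtain ⟨d, d3, d4⟩ := gd_nx (gd_slpL h2 pY) t (s.1 + 1)
      have k2 : exB s.2 1 = exB s.2 1 - 1 + 1 := by have := (hp s hs).pos; omega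
      rcases bor_eq_true.1 ((forceB_eq _ _).symm.trans (k1 s hs)) with k3 | k3
      · exact ordB (mul b2 c2) d2 (hp s hs) k2 k3 ▸ orderOf_dvd_natCard _ (mul_mem k d1)
      rw [forceB_eq, forceB_eq] at k3
      exact ordB (mul (mul b2 c2) d2) (mul (mul b2 c2) d4) (hp s hs) k2 k3 ▸
        orderOf_dvd_natCard _ (mul_mem (mul_mem k d1) (mul_mem k d3))⟩) [] 0 0 ⟨by simp, ∅, rfl, by simp⟩
  have a5 := Nat.le_of_ble_eq_true a3
  rcases h6 with k | ⟨S, s1, s2⟩
  · rw [k, Nat.le_zero] at a5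
    exact absurd (a5 ▸ hN) (by simpa using Nat.card_pos.ne')
  exact fun g hg => all_of_cnt (F := N ⊓ Y ⊓ MulAction.stabilizer G v) (P := fun g => g ∈ X → g ∈ Y)
    (c := fun g => code2 112 (g • v)) (S := S) (inf_le_left.trans inf_le_left)
    (fun g a k b c => mul_mem (a ((mul_mem_cancel_right (hX b.1.2)).1 c)) b.1.2)
    (fun g k b => by rw [mul_smul, show k • v = v from b.2]) (fun y hy => let ⟨_, a, _, e⟩ := s2 y hy; e ▸ a)
    (hN.trans (Nat.mul_le_mul (s1 ▸ a5) (lowG h5 a4))) g hg.2 hg.1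

theorem topAll {Ng pN Yg pY rs : List ℕ} {ps : List (ℕ × List ℕ)} (e : topAll Ng pN Yg pY ps rs = true) :
    ∀ r ∈ rs, topOK (slpL Ng pN) (slpL Yg pY) ps r = true := by
  rwa [J4T.topAll, slp_eq, slp_eq, allL_iff] at e

end Mod

end Cfsg.Lib.J4T
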