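import Cfsg.Agent.Lib.J4T.TenB

/-! # The elements of large prime order of J₄ -/

set_option autoImplicit false
set_option maxRecDepth 100000

namespace Cfsg.Lib.J4T

open Cfsg.Lib.Calc Cfsg.Lib.F2 Cfsg.Lib.Mathieu Cfsg.Lib.Big Cfsg.Lib.J4 Subgroup Cfsg.Lib.Transfer

variable {G : Type*} [Group G]

theorem exists_ord [Finite G] {S : Subgroup G} {q : ℕ} (hq : q.Prime) (h : q ∣ Nat.card S) : ∃ y ∈ S, orderOf y = q :=
  have := Fact.mk hq
  let ⟨y, e⟩ := exists_prime_orderOf_dvd_card' (G := S) q h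
  ⟨y, y.2, (orderOf_coe y).trans e⟩

theorem exists_sym [Finite G] {x : G} {q : ℕ} (hq : q.Prime) (h : q ∣ Nat.card (centralizer {x})) :
    ∃ y : G, orderOf y = q ∧ orderOf x ∣ Nat.card (centralizer {y}) :=
  let ⟨y, a, b⟩ := exists_ord hq h
  ⟨y, b, orderOf_dvd_natCard (x := x) _ (mem_centralizer_singleton_iff.2 (mem_centralizer_singleton_iff.1 a).symm)⟩

theorem dvd_four {a : ℕ} (h : a ∣ 29 * 31 * 37 * 43) :
    a ∈ [1, 29, 31, 37, 43, 899, 1073, 1147, 1247, 1333, 1591, 33263, 38657, 46139, 49321, 1430309] := by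
  obtain ⟨e, d, h0, h4, rfl⟩ := (Nat.dvd_mul (m := 29 * 31 * 37) (n := 43)).1 h
  obtain ⟨f, c, h', h3, rfl⟩ := (Nat.dvd_mul (m := 29 * 31) (n := 37)).1 h0
  obtain ⟨a, b, h1, h2, rfl⟩ := (Nat.dvd_mul (m := 29) (n := 31)).1 h'
  rcases (Nat.dvd_prime (by norm_num)).1 h1 with rfl | rfl <;> rcases (Nat.dvd_prime (by norm_num)).1 h2 with rfl | rfl <;>
    rcases (Nat.dvd_prime (by norm_num)).1 h3 with rfl | rfl <;>
    rcases (Nat.dvd_prime (by norm_num)).1 h4 with rfl | rfl <;> decide

theorem sylow_of [Finite G] {p m n : ℕ} [hp : Fact p.Prime] (hG : Nat.card G = p * m) (hm : ¬p ∣ m)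
    (h : ∀ x : G, orderOf x = p → Nat.card (centralizer {x}) = p ∧ Nat.card (normalizer (zpowers x : Set G)) = n)
    (U : Sylow p G) : centralizer ((U : Subgroup G) : Set G) = U ∧ Nat.card (normalizer ((U : Subgroup G) : Set G)) = n := by
  have c : Nat.card U = p := by
    rw [U.card_eq_multiplicity, hG, Nat.factorization_mul hp.out.ne_zero (by rintro rfl; simp at hm), Finsupp.add_apply,
      hp.out.factorization_self, Nat.factorization_eq_zero_of_not_dvd hm, pow_one]
  obtain ⟨x, a, b⟩ := exists_ord hp.out c.symm.dvd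
  have e : zpowers x = U := eq_of_le_of_card_ge (zpowers_le.2 a) (by rw [c, Nat.card_zpowers, b])
  rw [← e, cen_zpowers]
  exact ⟨(eq_of_le_of_card_ge (zpowers_le.2 (mem_centralizer_singleton_iff.2 rfl))
    (by rw [(h x b).1, Nat.card_zpowers, b])).symm, (h x b).2⟩

namespace Mod

variable (J : Mod G)
include J

theorem cen_small {y : G} (hy : orderOf y ∈ [2, 3, 5, 7, 11]) {p : ℕ} (hp : p.Prime) (h : 23 ≤ p) :
    ¬p ∣ Nat.card (centralizer {y}) := fun k => by
  have := J.fin
  have : Fact (Nat.Prime 5) := ⟨Nat.prime_five⟩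
  have : Fact (Nat.Prime 7) := ⟨Nat.prime_seven⟩
  have e : ¬p ∣ 2 ^ 21 * 3 ^ 3 * 5 * 7 * 11 ^ 3 := fun e => by
    rcases primes_G hp (e.trans (by decide)) with rfl | rfl | rfl | rfl | rfl | rfl | rfl | rfl | rfl | rfl <;>
      revert h e <;> decide
  simp only [List.mem_cons, List.not_mem_nil, or_false] at hy
  rcases hy with hy | hy | hy | hy | hy
  · rcases J.two hy with a | a <;> rw [card_cen_isConj a] at k
    exacts [e ((J.card_z ▸ k).trans (by decide)), e ((J.card_w ▸ k).trans (by decide))]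
  · exact e ((J.card_cen_p.symm.trans (card_cen_isConj (J.conj3 hy)) ▸ k).trans (by decide))
  · exact e ((J.five.2.1.symm.trans (card_norm_eq (by rw [J.card]; decide) J.pe.1 hy).2 ▸ k).trans (by decide))
  · exact e ((J.seven.2.1.symm.trans (card_norm_eq (by rw [J.card]; decide) J.pe.2.1 hy).2 ▸ k).trans (by decide))
  · obtain ⟨w, a, b, c⟩ := J.two11
    rcases c y hy with c | c
    · exact e ((J.cen_a.symm.trans (card_cen_isConj c) ▸ k).trans (by decide))
    · have := Nat.le_of_dvd Nat.card_pos (Nat.Coprime.mul_dvd_of_dvd_of_dvd ((Nat.coprime_primes Nat.prime_eleven hp).2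
        (by omega)) (hy ▸ orderOf_dvd_natCard _ (mem_centralizer_singleton_iff.2 rfl)) k)
      rw [← card_cen_isConj c] at this
      omega

theorem cen23 {x : G} (hx : orderOf x = 23) : Nat.card (centralizer {x}) = 23 := by
  have := J.fin
  have h := J.norm23 hx ▸ card_dvd_of_le ((cen_zpowers x).ge.trans (centralizer_le_normalizer _))
  refine ((le_of_primes (r := 23) (a := 1) (by norm_num) (fun q hq k => ?_) h (by decide) (by decide)).trans_eq
    (pow_one _)).antisymm
    (Nat.le_of_dvd Nat.card_pos (hx ▸ orderOf_dvd_natCard _ (mem_centralizer_singleton_iff.2 rfl)))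
  obtain ⟨y, a, b⟩ := exists_sym hq k
  by_contra e
  refine J.cen_small ?_ (p := 23) (by norm_num) le_rfl (hx ▸ b)
  have := k.trans h
  rcases primes_G hq (this.trans (by decide)) with rfl | rfl | rfl | rfl | rfl | rfl | rfl | rfl | rfl | rfl <;>
    rw [a] <;> revert e this <;> decide

theorem large {p m : ℕ} (hp : p.Prime) (h : 29 ≤ p) (hG : 86775571046077562880 = p * m) (hm : ¬p ∣ m) {x : G}
    (hx : orderOf x = p) {L : List (ℕ × ℕ)} (e : ∀ a ∈ [1, 29, 31, 37, 43, 899, 1073, 1147, 1247, 1333, 1591, 33263, 38657,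
      46139, 49321, 1430309], ∀ e < p, p ∣ a → e ∣ p - 1 → a * e / p % p = m % p → (a, a * e) ∈ L) :
    (Nat.card (centralizer {x}), Nat.card (normalizer (zpowers x : Set G))) ∈ L := by
  have := J.fin
  have := Fact.mk hp
  have h1 : Nat.card (centralizer {x}) ∣ 29 * 31 * 37 * 43 := Nat.Coprime.dvd_of_dvd_mul_left (m := 60669107896320)
    (Nat.coprime_of_dvd fun q hq k => by
      obtain ⟨y, a, b⟩ := exists_sym hq k
      have c := fun k => J.cen_small (y := y) k hp (by omega) (hx ▸ b)
      have d := fun k => Nat.le_of_dvd (by decide) (J.cen23 (x := y) k ▸ hx ▸ b)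
      rw [a] at c d
      rcases primes_G hq (J.card ▸ k.trans (card_subgroup_dvd_card _)) with
        rfl | rfl | rfl | rfl | rfl | rfl | rfl | rfl | rfl | rfl
      iterate 5 exact absurd (by decide) c
      exacts [absurd (d rfl) (by omega), by decide, by decide, by decide, by decide]) ((card_subgroup_dvd_card _).trans (J.card.trans (by decide)).dvd)
  obtain ⟨t, h2⟩ := card_dvd_of_le ((cen_zpowers x).ge.trans (centralizer_le_normalizer _))
  have h3 := card_norm_dvd ⊤ x
  obtain ⟨d, h4, h5⟩ := norm_card1 (mem_top x) hx (card_top.trans (J.card.trans hG)) hm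
  rw [top_inf_eq] at h4
  rw [top_inf_eq, top_inf_eq, h2, hx, Nat.totient_prime hp, Nat.mul_dvd_mul_iff_left Nat.card_pos] at h3
  rw [h2]
  exact e _ (dvd_four h1) t ((Nat.le_of_dvd (by omega) h3).trans_lt (by omega))
    (hx ▸ orderOf_dvd_natCard _ (mem_centralizer_singleton_iff.2 rfl)) h3
    (by rw [← h2, h4, Nat.mul_div_cancel_left _ hp.pos, h5])

theorem large_spec : (∀ x : G, orderOf x = 29 → Nat.card (centralizer {x}) = 29 ∧
      Nat.card (normalizer (zpowers x : Set G)) = 29 * 28) ∧
    (∀ x : G, orderOf x = 31 → Nat.card (centralizer {x}) = 31 ∧ Nat.card (normalizer (zpowers x : Set G)) = 31 * 10) ∧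
    (∀ x : G, orderOf x = 37 → Nat.card (centralizer {x}) = 37 ∧ Nat.card (normalizer (zpowers x : Set G)) = 37 * 12) ∧
    ∀ x : G, orderOf x = 43 → Nat.card (centralizer {x}) = 43 ∧ Nat.card (normalizer (zpowers x : Set G)) = 43 * 14 := by
  have := J.fin
  have p29 : Fact (Nat.Prime 29) := ⟨by norm_num⟩
  have p31 : Fact (Nat.Prime 31) := ⟨by norm_num⟩
  have p43 : Fact (Nat.Prime 43) := ⟨by norm_num⟩
  have h29 := fun x hx => J.large p29.out le_rfl (m := 2992261070554398720) rfl (by decide) (x := x) hx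
    (L := [(29, 812), (899, 12586), (1247, 2494), (38657, 38657)]) (by decide +kernel)
  have h31 := fun x hx => J.large p31.out (by decide) (m := 2799211969228308480) rfl (by decide) (x := x) hx
    (L := [(31, 310), (1333, 7998), (49321, 49321), (1430309, 21454635)]) (by decide +kernel)
  have h37 := fun x hx => J.large (p := 37) (by norm_num) (by decide) (m := 2345285703948042240) rfl (by decide) (x := x) hx
    (L := [(37, 444), (1591, 3182), (46139, 415251), (49321, 591852)]) (by decide +kernel)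
  have h43 := fun x hx => J.large p43.out (by decide) (m := 2018036535955292160) rfl (by decide) (x := x) hx
    (L := [(43, 602), (1247, 52374), (1333, 7998), (49321, 2071482)]) (by decide +kernel)
  simp only [List.mem_cons, List.not_mem_nil, or_false, Prod.mk.injEq] at h29 h31 h37 h43
  have k : ∀ {p m : ℕ} [Fact p.Prime] {S : Subgroup G}, Nat.card S = p * m → ¬p ∣ m → ∃ (y : G) (d : ℕ), orderOf y = p ∧ d ∣ m ∧
      p * d ∣ Nat.card (normalizer (zpowers y : Set G)) ∧ d % p = m % p := fun {p m} hp S a b => by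
    obtain ⟨y, c, e⟩ := exists_ord hp.out (a ▸ dvd_mul_right p m)
    obtain ⟨d, f, g⟩ := norm_card1 c e a b
    exact ⟨y, d, e, Nat.dvd_of_mul_dvd_mul_left hp.out.pos (f ▸ a ▸ card_dvd_of_le inf_le_left),
      f ▸ card_dvd_of_le inf_le_right, g⟩
  have s : ∀ {p q : ℕ}, p.Prime → (∀ y : G, orderOf y = p → Nat.card (centralizer {y}) = p) → ∀ {x : G}, orderOf x = q →
      p ∣ Nat.card (centralizer {x}) → q ∣ p := fun hp h x a b =>
    let ⟨y, c, d⟩ := exists_sym hp b
    a ▸ h y c ▸ d
  have e31 : ∀ x : G, orderOf x = 31 → Nat.card (centralizer {x}) = 31 ∧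
      Nat.card (normalizer (zpowers x : Set G)) = 31 * 10 := fun x hx => by
    obtain ⟨y, d, a, b, c, e⟩ := k (p := 31) (m := 322560) J.iso_B5.2 (by decide)
    rw [(card_norm_eq (by rw [J.card]; decide) a hx).1] at c
    rcases h31 x hx with h | h | h | h
    · exact ⟨h.1, h.2.trans (by decide)⟩
    · have : d ∣ 6 := Nat.dvd_gcd b (Nat.dvd_of_mul_dvd_mul_left (k := 31) (n := 258) (by decide) (by rwa [h.2] at c))
      exact absurd e ((by decide : ∀ d ≤ 6, d ∣ 6 → d % 31 ≠ 322560 % 31) d (Nat.le_of_dvd (by decide) this) this)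
    · have : d ∣ 1 := Nat.dvd_gcd b (Nat.dvd_of_mul_dvd_mul_left (k := 31) (n := 1591) (by decide) (by rwa [h.2] at c))
      rw [Nat.dvd_one.1 this] at e
      exact absurd e (by decide)
    · obtain ⟨y, d, a, b, c, e⟩ := k (p := 29) (m := 49321) h.1 (by decide)
      have : d ∣ 1333 := Nat.dvd_gcd b (Nat.dvd_of_mul_dvd_mul_left (k := 29) (n := 37324) (by decide) (c.trans (by
        rcases h29 y a with h | h | h | h <;> rw [h.2] <;> decide)))
      exact absurd e ((by decide +kernel : ∀ d ≤ 1333, d ∣ 1333 → d % 29 ≠ 49321 % 29) d (Nat.le_of_dvd (by decide) this) this)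
  have s31 := fun {q x} => s (q := q) p31.out (fun y h => (e31 y h).1) (x := x)
  have e43 : ∀ x : G, orderOf x = 43 → Nat.card (centralizer {x}) = 43 ∧
      Nat.card (normalizer (zpowers x : Set G)) = 43 * 14 := fun x hx => by
    rcases h43 x hx with h | h | h | h
    · exact ⟨h.1, h.2.trans (by decide)⟩
    · obtain ⟨y, d, a, -, c, e⟩ := k (p := 29) (m := 1806) h.2 (by decide)
      have := Nat.dvd_of_mul_dvd_mul_left (k := 29) (n := 1204) (by decide) (c.trans (by
        rcases h29 y a with h | h | h | h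
        exacts [by rw [h.2]; decide, absurd (s31 a (by rw [h.1]; decide)) (by decide), by rw [h.2]; decide,
          absurd (s31 a (by rw [h.1]; decide)) (by decide)]))
      exact absurd e ((by decide +kernel : ∀ d ≤ 1204, d ∣ 1204 → d % 29 ≠ 1806 % 29) d (Nat.le_of_dvd (by decide) this) this)
    all_goals exact absurd (s31 hx (by rw [h.1]; decide)) (by decide)
  have s43 := fun {q x} => s (q := q) p43.out (fun y h => (e43 y h).1) (x := x)
  refine ⟨fun x hx => ?_, e31, fun x hx => ?_, e43⟩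
  · rcases h29 x hx with h | h | h | h
    exacts [⟨h.1, h.2.trans (by decide)⟩, absurd (s31 hx (by rw [h.1]; decide)) (by decide), absurd (s43 hx (by rw [h.1]; decide)) (by decide),
      absurd (s43 hx (by rw [h.1]; decide)) (by decide)]
  · rcases h37 x hx with h | h | h | h
    · exact ⟨h.1, h.2.trans (by decide)⟩
    all_goals exact absurd (s43 hx (by rw [h.1]; decide)) (by decide)

end Mod

end Cfsg.Lib.J4T
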