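import Cfsg.Agent.Lib.J4T.CntF
import Cfsg.Agent.Lib.Small.SylCount

/-! # Orders of subgroups of J₄: the conditions given by Sylow's theorem -/

set_option autoImplicit false
set_option maxRecDepth 100000

namespace Cfsg.Lib.J4T

open Cfsg.Lib.Calc Cfsg.Lib.F2 Cfsg.Lib.Mathieu Cfsg.Lib.Big Cfsg.Lib.J4 Subgroup Cfsg.Lib.Transfer

variable {G : Type*} [Group G]

theorem card_norm_sub {P N : Subgroup G} (h : P ≤ N) :
    Nat.card (normalizer (P.subgroupOf N : Set N)) = Nat.card ↥(N ⊓ normalizer (P : Set G)) := by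
  rw [← subgroupOf_normalizer_eq h, ← inf_subgroupOf_left]
  exact Nat.card_congr (subgroupOfEquivOfLe inf_le_left).toEquiv

/-- Burnside's transfer theorem and the Frattini argument. -/
theorem bf [Finite G] {X Q R : Subgroup G} {q r a b : ℕ} [hq : Fact q.Prime] [hr : Fact r.Prime] (hqr : q ≠ r)
    (hQ : Q ≤ X) (cQ : Nat.card Q = q ^ a) (nQ : ¬q ^ (a + 1) ∣ Nat.card X)
    (h : X ⊓ normalizer (Q : Set G) ≤ centralizer (Q : Set G)) (hR : R ≤ X) (cR : Nat.card R = r ^ b)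
    (nR : ¬r ^ (b + 1) ∣ Nat.card X) : q ^ a ∣ Nat.card ↥(X ⊓ normalizer (R : Set G)) := by
  obtain ⟨S, hS⟩ := exists_sylow_of_not_dvd_relIndex (.of_card cQ) (not_dvd_relIndex hQ cQ nQ)
  obtain ⟨T, hT⟩ := exists_sylow_of_not_dvd_relIndex (.of_card cR) (not_dvd_relIndex hR cR nR)
  have hP : normalizer ((S : Subgroup X) : Set X) ≤ centralizer ((S : Subgroup X) : Set X) := fun g hg x hx => by
    rw [hS, ← subgroupOf_normalizer_eq hQ] at hg
    rw [hS] at hx
    exact Subtype.ext (h ⟨g.2, hg⟩ x hx)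
  have hc : (MonoidHom.transferSylow S hP).ker.index = q ^ a :=
    (MonoidHom.ker_transferSylow_isComplement' S hP).symm.index_eq_card.trans
      (by rw [hS, Nat.card_congr (subgroupOfEquivOfLe hQ).toEquiv, cQ])
  have h1 : (T : Subgroup X) ≤ (MonoidHom.transferSylow S hP).ker := fun t ht => by
    obtain ⟨n, e⟩ := IsPGroup.iff_orderOf.1 T.2 ⟨t, ht⟩
    refine zpowers_le.2 (pow_index_mem _ t) (mem_zpowers_pow_iff.2 ?_)
    rw [hc, ← orderOf_coe (⟨t, ht⟩ : T)] at *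
    exact e ▸ Nat.Coprime.pow _ _ ((Nat.coprime_primes hq.out hr.out).2 hqr)
  have h2 := relIndex_dvd_card (MonoidHom.transferSylow S hP).ker (normalizer ((T : Subgroup X) : Set X))
  rwa [← relIndex_sup_right, show normalizer ((T : Subgroup X) : Set X) ⊔ _ = ⊤ from T.normalizer_sup_eq_top' h1,
    relIndex_top_right, hc, hT, card_norm_sub hR] at h2

/-- The number of Sylow subgroups when they meet trivially. -/
theorem ti_card [Finite G] {p : ℕ} [hp : Fact p.Prime] {P N : Subgroup G} {n m : ℕ} (h : P ≤ N) (hP : Nat.card P = p ^ n)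
    (hN : Nat.card N = p ^ n * m) (hm : ¬p ∣ m)
    (ti : ∀ g ∈ N, ∀ u ∈ P, u ≠ 1 → g * u * g⁻¹ ∈ P → g ∈ normalizer (P : Set G)) :
    ∃ d, Nat.card ↥(N ⊓ normalizer (P : Set G)) = p ^ n * d ∧ d % p ^ n = m % p ^ n := by
  obtain ⟨d, hd⟩ := card_dvd_of_le (le_inf h le_normalizer)
  obtain ⟨S, hS⟩ := exists_sylow_of_not_dvd_relIndex (.of_card hP) (not_dvd_relIndex h hP fun k => hm (by
    rwa [hN, pow_succ, Nat.mul_dvd_mul_iff_left (pow_pos hp.out.pos n)] at k))
  have h1 : Nat.card (Sylow p N) ≡ 1 [MOD p ^ n] := by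
    by_contra hn
    obtain ⟨R, hR, k⟩ := Small.exists_sylow_not_dvd S hn
    obtain ⟨g, rfl⟩ := MulAction.exists_smul_eq N S R
    refine k ?_
    rw [← inf_relIndex_right, show ((g • S : Sylow p N) : Subgroup N) ⊓ S = ⊥ from eq_bot_iff.2 fun u ⟨a, b⟩ =>
      by_contra fun e => hR (Sylow.smul_eq_iff_mem_normalizer.2 ?_), relIndex_bot_left, hS,
      Nat.card_congr (subgroupOfEquivOfLe h).toEquiv, hP]
    rw [show (S : Set N) = (P.subgroupOf N : Subgroup N) by rw [← hS]; rfl, ← subgroupOf_normalizer_eq h]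
    rw [coe_smul_sylow, hS] at a
    rw [hS] at b
    exact (inv_mem_iff (x := g.1)).1 (ti _ (inv_mem g.2) u b (fun t => e (Subtype.ext t)) (by simpa using mem_subgroupOf.1 (mem_conj.1 a)))
  rw [S.card_eq_index_normalizer, show (S : Set N) = (P.subgroupOf N : Subgroup N) by rw [← hS]; rfl,
    ← subgroupOf_normalizer_eq h] at h1
  have h2 := card_mul_relIndex (inf_le_left : N ⊓ normalizer (P : Set G) ≤ N)
  rw [inf_relIndex_left, hd, hN, hP, mul_assoc, mul_right_inj' (pow_pos hp.out.pos n).ne'] at h2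
  exact ⟨d, hP ▸ hd, show d ≡ m [MOD p ^ n] from
    h2 ▸ ((mul_one d).symm ▸ Nat.ModEq.refl d : d ≡ d * 1 [MOD p ^ n]).trans (Nat.ModEq.mul_left d h1).symm⟩

/-- A Sylow subgroup of `Y` whose normaliser does not grow in `X`. -/
theorem idx [Finite G] {p : ℕ} [hp : Fact p.Prime] {P X Y : Subgroup G} {n m : ℕ} (h : P ≤ Y) (hP : Nat.card P = p ^ n)
    (hY : Nat.card Y = p ^ n * m) (hm : ¬p ∣ m) (hX : Y ≤ X) (k : X ⊓ normalizer (P : Set G) ≤ Y) :
    Nat.card X / p ^ n % p = m % p := by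
  obtain ⟨d, h1, h2⟩ := norm_card h hP hY hm
  rw [show Y ⊓ normalizer (P : Set G) = X ⊓ normalizer (P : Set G) from
    (inf_le_inf_right _ hX).antisymm (le_inf k inf_le_right)] at h1
  obtain ⟨t, e⟩ := hP ▸ card_dvd_of_le (h.trans hX)
  obtain ⟨d', h3, h4⟩ := norm_card (h.trans hX) hP e fun a => hm (by
    have := Sylow.prime_pow_dvd_card_normalizer (p := p) (n := n) (H := P.subgroupOf X)
      (by rw [e, pow_succ]; exact Nat.mul_dvd_mul_left _ a)
      ((Nat.card_congr (subgroupOfEquivOfLe (h.trans hX)).toEquiv).trans hP)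
    rw [card_norm_sub (h.trans hX), h1, pow_succ, Nat.mul_dvd_mul_iff_left (pow_pos hp.out.pos n)] at this
    exact Nat.dvd_of_mod_eq_zero (h2 ▸ Nat.mod_eq_zero_of_dvd this))
  rw [e, Nat.mul_div_cancel_left _ (pow_pos hp.out.pos n), ← h4, ← h2,
    Nat.eq_of_mul_eq_mul_left (pow_pos hp.out.pos n) (h3.symm.trans h1)]

theorem idx1 [Finite G] {p : ℕ} (hp : p.Prime) {X Y : Subgroup G} {x : G} {m : ℕ} (h : x ∈ Y) (ho : orderOf x = p)
    (hY : Nat.card Y = p * m) (hm : ¬p ∣ m) (hX : Y ≤ X) (k : X ⊓ normalizer (zpowers x : Set G) ≤ Y) :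
    Nat.card X / p % p = m % p :=
  have := Fact.mk hp
  by simpa using idx (n := 1) (zpowers_le.2 h) (by rw [Nat.card_zpowers, ho, pow_one]) (by rwa [pow_one]) hm hX k

/-- primes and the orders of the normalisers of their Sylow subgroups, divided by the prime -/
def tb : List (ℕ × ℕ) := [(43, 14), (37, 12), (31, 10), (29, 28), (23, 22), (7, 360), (5, 5376)]

/-- the condition for the prime `q` -/
noncomputable def sylB (n q e : ℕ) : Bool := bor (blt 0 (n % q)) (forceB (n / q) fun m => anyLt e fun i =>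
  band (band (Nat.beq (e % (i + 1)) 0) (Nat.beq (m % (i + 1)) 0)) (band (Nat.beq ((i + 1) % q) (m % q))
    (bor (blt 0 i) (Grp.allP tb fun s => bor (bor (Nat.beq s.1 q) (blt 0 (n % s.1))) (Nat.beq (s.1 * s.2 % q) 0)))))

/-- the condition for the prime 11 -/
noncomputable def elvB (n : ℕ) : Bool := allLt 3 fun k => forceB (11 ^ (k + 1)) fun Q =>
  bor (bor (blt 0 (n % Q)) (Nat.beq (n / Q % 11) 0)) (anyLt 240 fun i =>
    band (band (Nat.beq (240 % (i + 1)) 0) (Nat.beq (n / Q % (i + 1)) 0)) (Nat.beq ((i + 1) % Q) (n / Q % Q)))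

/-- all the conditions -/
noncomputable def okB (n : ℕ) : Bool := band (Grp.allP tb fun t => sylB n t.1 t.2) (elvB n)

/-- a test of all the multiples of `m` by a divisor of a product of prime powers -/
noncomputable def allD (l : List (ℕ × ℕ)) (f : ℕ → Bool) : ℕ → Bool :=
  List.rec (motive := fun _ => ℕ → Bool) f (fun t _ ih m => allLt (t.2 + 1) fun a => forceB (m * t.1 ^ a) ih) l

theorem allD_spec {l : List (ℕ × ℕ)} (hl : ∀ t ∈ l, t.1.Prime) {f : ℕ → Bool} {m n : ℕ} (h : allD l f m = true)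
    (hn : n ∣ (l.map fun t => t.1 ^ t.2).prod) : f (m * n) = true := by
  induction l generalizing m n with
  | nil => rwa [Nat.dvd_one.1 hn, mul_one]
  | cons t l ih =>
    obtain ⟨a, b, h1, h2, rfl⟩ := Nat.dvd_mul.1 hn
    obtain ⟨i, h3, rfl⟩ := (Nat.dvd_prime_pow (hl t List.mem_cons_self)).1 h1
    rw [← mul_assoc]
    change (allLt (t.2 + 1) fun a => forceB (m * t.1 ^ a) (allD l f)) = true at h
    exact ih (fun s hs => hl s (List.mem_cons_of_mem _ hs))
      ((forceB_eq _ _).symm.trans (allLt_iff.1 h i (Nat.lt_succ_of_le h3))) h2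

/-- no order of a proper subgroup, other than `y`, passes the tests -/
noncomputable def noB (y : ℕ) (c : ℕ → Bool) : Bool :=
  allD [(43, 1), (37, 1), (31, 1), (29, 1), (23, 1), (11, 3), (7, 1), (5, 1), (3, 3), (2, 21)] (fun n =>
    bor (bor (blt 0 (n % y)) (!band (c n) (okB n))) (memN n [y, 86775571046077562880, 43387785523038781440])) 1

namespace Mod

variable (J : Mod G)
include J

theorem tb_spec : ∀ t ∈ tb, t.1.Prime ∧ ¬t.1 ^ 2 ∣ 86775571046077562880 ∧
    ∀ x : G, orderOf x = t.1 → Nat.card (normalizer (zpowers x : Set G)) = t.1 * t.2 := by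
  have := J.fin
  have : Fact (Nat.Prime 5) := ⟨Nat.prime_five⟩
  have : Fact (Nat.Prime 7) := ⟨Nat.prime_seven⟩
  obtain ⟨a, b, c, d⟩ := J.large_spec
  simp only [tb, List.forall_mem_cons, List.not_mem_nil, false_imp_iff, implies_true, and_true]
  exact ⟨⟨by norm_num, by decide, fun x h => (d x h).2⟩, ⟨by norm_num, by decide, fun x h => (c x h).2⟩,
    ⟨by norm_num, by decide, fun x h => (b x h).2⟩, ⟨by norm_num, by decide, fun x h => (a x h).2⟩,
    ⟨by norm_num, by decide, fun x h => J.norm23 h⟩,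
    ⟨by norm_num, by decide, fun x h => (card_norm_eq (by rw [J.card]; decide) h J.pe.2.1).1.trans J.seven.1⟩,
    by norm_num, by decide, fun x h => (card_norm_eq (by rw [J.card]; decide) h J.pe.1).1.trans J.five.1⟩

theorem dvd_G (X : Subgroup G) : Nat.card X ∣ 86775571046077562880 := J.card ▸ card_subgroup_dvd_card X

theorem syl (X : Subgroup G) : ∀ t ∈ tb, sylB (Nat.card X) t.1 t.2 = true := fun t ht => by
  have := J.fin
  obtain ⟨hp, h2, h3⟩ := J.tb_spec t ht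
  have := Fact.mk hp
  have sq := fun {p : ℕ} (h : ¬p ^ 2 ∣ 86775571046077562880) (k : p ^ (1 + 1) ∣ Nat.card X) => h (k.trans (J.dvd_G X))
  have zp : ∀ {x : G} {p : ℕ}, orderOf x = p → Nat.card (zpowers x) = p ^ 1 := fun h => by rw [Nat.card_zpowers, h, pow_one]
  rw [sylB, bor_eq_true, blt_iff, or_iff_not_imp_left, not_lt, Nat.le_zero, ← Nat.dvd_iff_mod_eq_zero, forceB_eq, anyLt_iff]
  intro k
  obtain ⟨x, a, b⟩ := exists_ord hp k
  obtain ⟨m, e⟩ := k
  obtain ⟨d, h4, h5⟩ := norm_card1 a b e fun k => sq h2 (by rw [e, pow_succ, pow_one]; exact Nat.mul_dvd_mul_left _ k)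
  have h6 : d ∣ t.2 := Nat.dvd_of_mul_dvd_mul_left hp.pos (h4 ▸ h3 x b ▸ card_dvd_of_le inf_le_right)
  have h7 : d ∣ m := Nat.dvd_of_mul_dvd_mul_left hp.pos (h4 ▸ e ▸ card_dvd_of_le inf_le_left)
  obtain _ | i := d
  · exact absurd h4 Nat.card_pos.ne'
  refine ⟨i, Nat.le_of_dvd (Nat.pos_of_ne_zero fun e => Nat.card_pos.ne' ((h3 x b).trans (by rw [e, mul_zero]))) h6, ?_⟩
  simp only [band_eq_true, bor_eq_true, beq_iff, blt_iff, Grp.allP_iff, or_iff_not_imp_left, not_lt, Nat.le_zero,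
    ← Nat.dvd_iff_mod_eq_zero]
  rw [show Nat.card X / t.1 = m by rw [e, Nat.mul_div_cancel_left _ hp.pos]]
  refine ⟨⟨h6, h7⟩, h5, fun e0 s hs k => ?_⟩
  obtain ⟨hq, g2, g3⟩ := J.tb_spec s hs
  have := Fact.mk hq
  rw [Classical.not_imp, not_lt, Nat.le_zero, ← Nat.dvd_iff_mod_eq_zero] at k
  obtain ⟨y, a', b'⟩ := exists_ord hq k.2
  have := bf (Ne.symm k.1) (zpowers_le.2 a) (zp b) (sq h2) ((eq_of_le_of_card_ge (le_inf (zpowers_le.2 a) le_normalizer)
    (by rw [h4, zp b, e0]; simp)).ge.trans (cen_zpowers x ▸ zpowers_le.2 (mem_centralizer_singleton_iff.2 rfl)))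
    (zpowers_le.2 a') (zp b') (sq g2)
  exact pow_one t.1 ▸ this.trans (g3 y b' ▸ card_dvd_of_le inf_le_right)

/-- The Sylow 11-subgroups meet trivially. -/
theorem ti0 : ∃ U : Subgroup G, Nat.card U = 11 ^ 3 ∧ Nat.card (normalizer (U : Set G)) = 319440 ∧
    ∀ g, ∀ u ∈ U, u ≠ 1 → g * u * g⁻¹ ∈ U → g ∈ normalizer (U : Set G) := by
  have := J.fin
  obtain ⟨x, y, U, h, K, k1, -, k2⟩ := J.ex11
  have hN := J.card_norm_U h k1 k2
  have hZ : Nat.card (zpowers J.a11) = 11 := by rw [Nat.card_zpowers, J.ord_a]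
  have big : ∀ u ∈ zpowers J.a11, ¬Nat.card (centralizer {u}) ≤ 242 := fun u k c =>
    absurd ((h.card ▸ card_le_of_le (show U ≤ centralizer {u} from fun t ht =>
      mem_centralizer_singleton_iff.2 ((h.cen.ge k).2 t ht))).trans c) (by decide)
  have small : ∀ v ∈ U, v ∉ zpowers J.a11 → Nat.card (centralizer {v}) ≤ 242 := fun v a b => by
    obtain ⟨w, o, c⟩ := J.cen11_le
    obtain ⟨g, -, k⟩ := conj_le_of_card (le_top : U ≤ ⊤) h.card (by rw [card_top, J.card]; norm_num)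
      (le_top : zpowers w ≤ ⊤) (IsPGroup.of_card (n := 1) (by rw [Nat.card_zpowers, o]; rfl))
    have hg := conj_le_iff.1 k w (mem_zpowers w)
    rw [← card_cen_conj g] at c
    generalize g * w * g⁻¹ = u at c hg
    rwa [← card_cen_isConj (isConj_of_cl (subset_cl (N := normalizer (U : Set G)) (u := u)
      (T := (U : Set G) \ zpowers J.a11) (a := 1320) (by
        rintro _ ⟨k, hk, rfl⟩
        exact ⟨(mem_normalizer_iff.1 hk u).1 hg, fun e => big u ((mem_normalizer_iff.1 (h.norm_le hk) u).2 e) c⟩)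
      (by rw [ncard_diff_sub (zpowers_le.2 h.c_mem), h.card, hZ]; decide) ((card_le_of_le inf_le_right).trans c) hN.ge ⟨a, b⟩))]
  have w : ∀ v ∈ U, v ∉ zpowers J.a11 → Nat.card ↥(U ⊓ centralizer {v}) = 121 := fun v a b => by
    obtain ⟨i, -, e⟩ := (Nat.dvd_prime_pow Nat.prime_eleven).1
      (h.card ▸ card_dvd_of_le (inf_le_left : U ⊓ centralizer {v} ≤ U))
    have h1 := (card_le_of_le (inf_le_right : U ⊓ centralizer {v} ≤ _)).trans (small v a b)
    have h2 : zpowers J.a11 ≤ U ⊓ centralizer {v} := zpowers_le.2 ⟨h.c_mem, mem_centralizer_singleton_iff.2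
      (mem_centralizer_singleton_iff.1 (h.le_cen a)).symm⟩
    have h3 : ¬Nat.card ↥(U ⊓ centralizer {v}) ≤ 11 := fun k =>
      b ((eq_of_le_of_card_ge h2 (hZ ▸ k)).ge ⟨a, mem_centralizer_singleton_iff.2 rfl⟩)
    rw [e] at h1 h3 ⊢
    obtain _ | _ | _ | i := i
    exacts [absurd (by decide) h3, absurd le_rfl h3, rfl, by rw [pow_add, pow_add, pow_add] at h1; omega]
  have hZN : normalizer (U : Set G) = normalizer (zpowers J.a11 : Set G) := eq_of_le_of_card_ge h.norm_le (by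
    have := card_norm_dvd ⊤ J.a11
    rw [top_inf_eq, top_inf_eq, J.cen_a, J.ord_a] at this
    exact hN ▸ Nat.le_of_dvd (by decide) this)
  refine ⟨U, h.card, hN, fun g u a b c => hZN.ge ?_⟩
  have k := card_cen_conj g u
  by_cases e : u ∈ zpowers J.a11
  · have e' : g * u * g⁻¹ ∈ zpowers J.a11 := by_contra fun t => big u e (k ▸ small _ c t)
    have o : Nat.card (zpowers u) = 11 := by rw [Nat.card_zpowers, orderOf_eq_prime (h.pow u a) b]
    rw [← eq_of_le_of_card_ge (zpowers_le.2 e) (hZ.trans o.symm).le] at e' ⊢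
    obtain ⟨n, t⟩ := (mem_powers_iff_mem_zpowers.2 e')
    exact mem_norm_zp t.symm
  have e' : g * u * g⁻¹ ∉ zpowers J.a11 := fun t => big _ t (k ▸ small u a e)
  have h1 : g ⋆ (U ⊓ centralizer {u}) ≤ centralizer {g * u * g⁻¹} := conj_le_iff.2 fun t ht =>
    mem_centralizer_singleton_iff.2 (by rw [conj_mul, conj_mul, mem_centralizer_singleton_iff.1 ht.2])
  have h2 := card_mul_relIndex (inf_le_right : U ⊓ centralizer {g * u * g⁻¹} ≤ _)
  have h3 := relIndex_le_of_le_right (H := U ⊓ centralizer {g * u * g⁻¹}) h1 fun t => Nat.card_pos.ne' (by rw [← h2, t, mul_zero])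
  have h4 := relIndex_dvd_card (U ⊓ centralizer {g * u * g⁻¹}) (g ⋆ (U ⊓ centralizer {u}))
  have h5 := small _ c e'
  rw [card_conj, w u a e] at h4
  rw [w _ c e'] at h2
  have h6 := conj_le_iff.1 (relIndex_eq_one.1 ((by decide : ∀ n ≤ 2, n ∣ 121 → n = 1) _ (by omega) h4)) J.a11
    ⟨h.c_mem, mem_centralizer_singleton_iff.2 (mem_centralizer_singleton_iff.1 (h.le_cen a)).symm⟩
  obtain ⟨n, t⟩ := mem_powers_iff_mem_zpowers.2 (show g * J.a11 * g⁻¹ ∈ zpowers J.a11 from by_contra fun t =>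
    big _ (mem_zpowers _) (card_cen_conj g J.a11 ▸ small _ h6.1 t))
  exact mem_norm_zp t.symm

theorem ti {Q X : Subgroup G} {k m : ℕ} (h : Q ≤ X) (c : Nat.card Q = 11 ^ (k + 1)) (hX : Nat.card X = 11 ^ (k + 1) * m)
    (hm : ¬11 ∣ m) : ∃ d, Nat.card ↥(X ⊓ normalizer (Q : Set G)) = 11 ^ (k + 1) * d ∧ d % 11 ^ (k + 1) = m % 11 ^ (k + 1) ∧
      d ∣ 240 := by
  have := J.fin
  obtain ⟨U, c', hN, t⟩ := J.ti0
  obtain ⟨a, -, ha⟩ := conj_le_of_card (le_top : U ≤ ⊤) c' (by rw [card_top, J.card]; norm_num) (le_top : Q ≤ ⊤) (.of_card c)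
  have t' : ∀ g, ∀ u ∈ Q, u ≠ 1 → g * u * g⁻¹ ∈ Q → g ∈ normalizer ((a⁻¹ ⋆ U : Subgroup G) : Set G) := fun g u x y z => by
    rw [← conj_normalizer, mem_conj, inv_inv]
    exact t _ _ (conj_le_iff.1 ha u x) (by simpa using y) (by simpa [mul_assoc] using conj_le_iff.1 ha _ z)
  have e : Q = a⁻¹ ⋆ U ⊓ X := by
    have h1 := le_inf (conj_le_iff_le_inv_conj.1 ha) h
    obtain ⟨i, -, e⟩ := (Nat.dvd_prime_pow Nat.prime_eleven).1
      (c' ▸ card_conj a⁻¹ U ▸ card_dvd_of_le (inf_le_left : a⁻¹ ⋆ U ⊓ X ≤ _))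
    refine eq_of_le_of_card_ge h1 (by_contra fun k' => hm ?_)
    rw [e, c, not_le, Nat.pow_lt_pow_iff_right (by decide)] at k'
    exact Nat.dvd_of_mul_dvd_mul_left (by positivity) (pow_succ 11 (k + 1) ▸ (pow_dvd_pow 11 k').trans
      (e ▸ hX ▸ card_dvd_of_le inf_le_right))
  obtain ⟨d, h1, h2⟩ := ti_card h c hX hm fun g x u y z w => e ▸ inf_normalizer_le_normalizer_inf
    ⟨t' g u y z w, le_normalizer x⟩
  obtain ⟨u, x, y⟩ := exists_ord (S := Q) Nat.prime_eleven (by rw [c, pow_succ]; exact dvd_mul_left _ _)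
  have h3 : X ⊓ normalizer (Q : Set G) ≤ a⁻¹ ⋆ normalizer (U : Set G) := fun g hg => conj_normalizer a⁻¹ U ▸
    t' g u x (by rintro rfl; simp at y) ((mem_normalizer_iff.1 hg.2 u).1 x)
  refine ⟨d, h1, h2, Nat.Coprime.dvd_of_dvd_mul_left (m := 11 ^ 3) (Nat.Coprime.pow_right _ ?_)
    ((dvd_mul_left d _).trans (h1 ▸ (card_dvd_of_le h3).trans (by rw [card_conj, hN])))⟩
  exact ((Nat.Prime.coprime_iff_not_dvd Nat.prime_eleven).2 fun k' => hm (k'.trans (Nat.dvd_of_mul_dvd_mul_left (by positivity)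
    (h1 ▸ hX ▸ card_dvd_of_le inf_le_left)))).symm

theorem ok (X : Subgroup G) : okB (Nat.card X) = true := by
  have := J.fin
  refine band_eq_true.2 ⟨Grp.allP_iff.2 (J.syl X), allLt_iff.2 fun k _ => ?_⟩
  simp only [forceB_eq, band_eq_true, bor_eq_true, beq_iff, blt_iff, anyLt_iff, ← Nat.dvd_iff_mod_eq_zero]
  rw [or_iff_not_imp_left, not_or, not_lt, Nat.le_zero, ← Nat.dvd_iff_mod_eq_zero]
  rintro ⟨⟨m, e⟩, a⟩
  rw [show Nat.card X / 11 ^ (k + 1) = m by rw [e, Nat.mul_div_cancel_left _ (by positivity)]] at a ⊢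
  obtain ⟨Q, c⟩ := Sylow.exists_subgroup_card_pow_prime (G := X) 11 ⟨m, e⟩
  obtain ⟨d, h1, h2, h3⟩ := J.ti (map_subtype_le Q) ((card_map_of_injective X.subtype_injective).trans c) e a
  obtain _ | i := d
  · exact absurd h3 (by decide)
  exact ⟨i, Nat.le_of_dvd (by decide) h3, ⟨h3, Nat.dvd_of_mul_dvd_mul_left (by positivity)
    (h1 ▸ e ▸ card_dvd_of_le inf_le_left)⟩, h2⟩

theorem no {y : ℕ} {c : ℕ → Bool} (e : noB y c = true) {X : Subgroup G} (h : y ∣ Nat.card X) (hc : c (Nat.card X) = true) :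
    Nat.card X = y ∨ X = ⊤ := by
  have := J.fin
  have := J.simple
  have k := allD_spec (by simp only [List.forall_mem_cons]; norm_num) e ((J.dvd_G X).trans (by decide))
  rw [one_mul, hc, J.ok X, Nat.mod_eq_zero_of_dvd h] at k
  have := mem_of_memN ((bor_eq_true.1 k).resolve_left (by decide))
  simp only [List.mem_cons, List.not_mem_nil, or_false] at this
  refine this.imp_right fun k => k.elim (fun k => eq_top_of_card_eq _ (k.trans J.card.symm)) fun k => ?_
  have h1 := X.card_mul_index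
  rw [k, J.card] at h1
  refine (normal_of_index_eq_two (H := X) (by omega)).eq_bot_or_eq_top.resolve_left ?_
  rintro rfl
  simp at k

theorem coatom {Y : Subgroup G} {y : ℕ} {c : ℕ → Bool} (e : noB y c = true) (hY : Nat.card Y = y)
    (hy : y ≠ 86775571046077562880) (h : ∀ X, Y ≤ X → X ≠ ⊤ → c (Nat.card X) = true) : IsCoatom Y :=
  have := J.fin
  ⟨fun k => hy (by rw [← hY, k, card_top, J.card]), fun X k => by_contra fun t =>
    (J.no e (hY ▸ card_dvd_of_le k.le) (h X k.le t)).elim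
      (fun a => k.ne (eq_of_le_of_card_ge k.le (a.trans hY.symm).le)) t⟩

end Mod

end Cfsg.Lib.J4T
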