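import Cfsg.Agent.Lib.J4T.MaxD

/-! # Maximal subgroups of J₄: data -/

set_option autoImplicit false
set_option maxRecDepth 100000

namespace Cfsg.Lib.J4T

open Cfsg.Lib.Calc Cfsg.Lib.F2 Cfsg.Lib.Mathieu Cfsg.Lib.Big Cfsg.Lib.J4

theorem t37_0 : pullS BASE p37 i37 (t37 r37_0) = true := by decide +kernel
theorem t37_1 : pullS BASE p37 i37 (t37 r37_1) = true := by decide +kernel
theorem t37_2 : pullS BASE p37 i37 (t37 r37_2) = true := by decide +kernel

end Cfsg.Lib.J4T
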