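import Cfsg.Agent.Lib.J4T.Ten

/-! # The subgroup `2^10 : L₅(2)` of J₄ -/

set_option autoImplicit false
set_option maxRecDepth 100000

namespace Cfsg.Lib.J4T

open Cfsg.Lib.Calc Cfsg.Lib.F2 Cfsg.Lib.Mathieu Cfsg.Lib.Big Cfsg.Lib.J4 Subgroup Cfsg.Lib.Transfer
open scoped Pointwise

variable {G : Type*} [Group G]

theorem normal_cases {B : Subgroup G} {n : ℕ} (e : B ≃* Matrix.SpecialLinearGroup (Fin (n + 3)) (ZMod 2))
    {K : Subgroup G} (h : B ≤ normalizer (K : Set G)) : B ⊓ K = ⊥ ∨ B ≤ K := by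
  have := (normal_subgroupOf_iff_le_normalizer_inf).2 (le_trans (le_inf h le_normalizer) inf_normalizer_le_normalizer_inf)
  by_cases k : ∃ a, ((QuotientGroup.mk' (K.subgroupOf B)).comp e.symm.toMonoidHom) a ≠ 1
  · refine Or.inl (eq_bot_iff.2 fun x hx => congrArg Subtype.val (e.injective (a₁ := ⟨x, hx.1⟩) (a₂ := 1)
      (inj_SL_F2 _ k ?_)))
    simpa using mem_subgroupOf.2 hx.2
  · push Not at k
    exact Or.inr fun x hx => by simpa using mem_subgroupOf.1 (by simpa using k (e ⟨x, hx⟩) : (⟨x, hx⟩ : B) ∈ K.subgroupOf B)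

namespace Mod

variable (J : Mod G)

theorem R_aB {i : ℕ} (hi : i < 10) : J.R (J.a (2 ^ i)) (F2.nth eM.one aB i) := by
  by_cases h : i < 6
  · rw [aB, nth_lt _ _ h, J.a_lt (Nat.pow_lt_pow_right (n := 6) (by decide) h)]
    exact J.Rv _ (wv_lt _)
  · obtain ⟨j, rfl⟩ := Nat.exists_eq_add_of_le (not_lt.1 h)
    have hj : j < 4 := by omega
    obtain ⟨⟨a, b⟩, c, -⟩ := q_spec hj
    rw [aB, nth_add, ← List.append_nil (List.map _ _), nth_lt _ _ hj, pow_add, show 2 ^ 6 = 64 from rfl,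
      J.a_mul (Nat.pow_lt_pow_right (n := 4) (by decide) hj), q, ← c, (R_pW a).mk_eq, J.Λ_ev a]
    exact J.ev b

theorem gd_bB : ∀ C ∈ bB, Big.Gd J.R ⊤ C :=
  List.forall_mem_cons.2 ⟨⟨_, mem_top _, J.ev (by decide)⟩, List.forall_mem_singleton.2 ⟨_, mem_top _, J.Rh _ _ _⟩⟩

/-- generators of `L₅(2)` -/
noncomputable def bg (l : ℕ) : G := J.g (F2.nth eM.one bB l)
/-- the subgroup `L₅(2)` -/
noncomputable def B5 : Subgroup G := gen J.R bB

theorem bg_mem (l : ℕ) : J.bg l ∈ J.B5 := J.g_mem (J.law.gd_nth (gd_gen (gd_ex J.gd_bB)) l)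

theorem bg_act {l : ℕ} (hl : l < 2) : ∀ c < 2 ^ 10, J.bg l * J.a c * (J.bg l)⁻¹ = J.a (app 10 (bN l) c) := by
  have e := b_chk
  simp only [Grp.forceL_eq, allLt_iff, forceB_eq] at e
  exact lin_ind (rel := fun a b => J.bg l * J.a a * (J.bg l)⁻¹ = J.a b) (by simp [J.a_zero])
    (fun _ _ _ _ _ _ _ _ a b => by rw [J.a_xor, J.a_xor, ← a, ← b, conj_mul]) fun i hi =>
      cj (J.Rn J.gd_bB l) (J.R_aB hi) (R_sec J.a_xor (fun _ => J.R_aB) _ (get_lt _ _ _)) (e l hl i hi)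

theorem B5_le : J.B5 ≤ normalizer (J.A0 : Set G) := (closure_le _).2 fun g ⟨C, a, b⟩ => by
  have := J.fin
  obtain ⟨l, hl, rfl⟩ := exists_nth eM.one a
  refine J.law.uniq (J.Rn J.gd_bB l) b ▸ mem_normalizer_fintype ?_
  rintro _ ⟨c, hc, rfl⟩
  exact ⟨_, app_lt 10 _ _, J.bg_act hl c hc⟩

theorem iso_B5 : Nonempty (J.B5 ≃* Matrix.SpecialLinearGroup (Fin 5) (ZMod 2)) ∧ Nat.card J.B5 = 9999360 :=
  iso_of ((Grp.coded_zmod 2).inj_vec (k := 5) rfl) ((Grp.coded_zmod 2).faithful_SL rfl)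
    ((Grp.coded_zmod 2).sl_list (As := [3904072, 18091760]) (r := 15) rfl (by decide +kernel)) (gd_ex J.gd_bB)
    ((Grp.forceL_eq _ _).symm.trans B_chk) (by rw [card_SL_F2]; decide) (by decide +kernel)

theorem orb_B5 {c n : ℕ} (hc : c < 1024) (e : Nat.beq (orb (fun l => app 10 (bN l)) 2 id (fun _ => true) 2000 c) n = true) :
    n ≤ (Grp.cl (normalizer (J.A0 : Set G)) (J.a c)).ncard :=
  have := J.fin
  (orb_le_ncard (normalizer (J.A0 : Set G)) (fun c => Grp.CjX.of (J.a c)) (· < 1024) (fun _ _ a b => J.a_inj a b)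
    (fun l hl => ⟨_, J.B5_le (J.bg_mem l), fun c hc => ⟨app_lt 10 _ _, J.bg_act hl c hc⟩⟩) hc e).trans_eq
    (congrArg Set.ncard (Grp.orbit_cjX _ _))

theorem a_one : J.a 1 = J.z := (J.a_lt (by decide)).trans ((congrArg J.vv (by decide +kernel)).trans J.vv_z)
theorem a_two : J.a 2 = J.vv (ll 2 ^^^ ll 1) := (J.a_lt (by decide)).trans (congrArg J.vv (by decide +kernel))

theorem orbits : (Grp.cl (normalizer (J.A0 : Set G)) (J.a 1)).ncard = 155 ∧
    (Grp.cl (normalizer (J.A0 : Set G)) (J.a 2)).ncard = 868 ∧ ∀ x ∈ J.A0, x ≠ 1 →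
      x ∈ Grp.cl (normalizer (J.A0 : Set G)) (J.a 1) ∪ Grp.cl (normalizer (J.A0 : Set G)) (J.a 2) := by
  have := J.fin
  have := J.simple
  have h1 := J.orb_B5 (by decide) (band_eq_true.1 orb_chk).1
  have h2 := J.orb_B5 (by decide) (band_eq_true.1 orb_chk).2
  have h3 : ∀ c < 1024, c ≠ 0 → Grp.cl (normalizer (J.A0 : Set G)) (J.a c) ⊆ (J.A0 : Set G) \ (⊥ : Subgroup G) := by
    rintro c hc h _ ⟨k, hk, rfl⟩
    exact ⟨(mem_normalizer_iff.1 hk _).1 ⟨c, hc, rfl⟩, fun e => h (J.a_inj hc (by decide)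
      ((conj_eq_one_iff.1 (mem_bot.1 e)).trans J.a_zero.symm))⟩
  have h4 := Set.ncard_union_eq (Set.disjoint_left.2 fun x a b => ((J.duad_iff J.hH (J.vv_mem
    (Nat.xor_lt_two_pow (n := 11) (ll_lt 2) (ll_lt 1)))).2 ⟨2, by decide, 1, by decide, rfl⟩).2
      (J.a_one ▸ J.a_two ▸ (isConj_of_cl a).symm.trans (isConj_of_cl b)) :
      Disjoint (Grp.cl (normalizer (J.A0 : Set G)) (J.a 1)) (Grp.cl (normalizer (J.A0 : Set G)) (J.a 2)))
  have h5 := Set.union_subset (h3 1 (by decide) (by decide)) (h3 2 (by decide) (by decide))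
  have h6 := Set.ncard_le_ncard h5
  have h7 := ncard_diff_sub (bot_le : ⊥ ≤ J.A0)
  rw [J.card_A0, card_bot] at h7
  exact ⟨by omega, by omega, fun x a b => (Set.eq_of_subset_of_ncard_le h5 (by omega)).ge ⟨a, b⟩⟩

theorem A0_V {g : G} (h : g ∈ J.A0) (h' : g ∈ J.V) : ∃ u < 64, g = J.vv (wv u) :=
  let ⟨c, hc, e⟩ := h
  have k := J.a_V hc (e ▸ h')
  ⟨c, k, e.trans (J.a_lt k)⟩

theorem card_norm_A0 : Nat.card (normalizer (J.A0 : Set G)) ≤ 2 ^ 10 * 9999360 := by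
  have := J.fin
  have := J.simple
  have q0 : ∀ j < 4, J.q (2 ^ j) ∈ J.A0 := fun j hj =>
    have := Nat.pow_lt_pow_right (n := 4) one_lt_two hj
    ⟨_, by omega, (J.a_mul this).symm⟩
  have hM : normalizer (J.A0 : Set G) ⊓ centralizer {J.a 2} ≤ J.M := fun c hc => by
    obtain ⟨g, hg, e⟩ := J.conj_duad_w (i := 2) (j := 1) (by decide) (by decide)
    refine (mul_mem_cancel_left hg).1 ((mul_mem_cancel_right (inv_mem hg)).1 (J.cen_w J.hH J.hM ?_))
    rw [mem_centralizer_singleton_iff, ← e, conj_mul, conj_mul, ← J.a_two, mem_centralizer_singleton_iff.1 hc.2]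
  have h1 : Nat.card ↥(J.V ⊓ (normalizer (J.A0 : Set G) ⊓ centralizer {J.a 2})) ≤ 1024 := by
    have a := card_dvd_of_le (inf_le_left : J.V ⊓ (normalizer (J.A0 : Set G) ⊓ centralizer {J.a 2}) ≤ _)
    have b : Nat.card ↥(J.V ⊓ (normalizer (J.A0 : Set G) ⊓ centralizer {J.a 2})) ≠ Nat.card J.V := fun e => by
      have := (mem_normalizer_iff.1 ((eq_of_le_of_card_ge inf_le_left e.ge).ge (J.vv_mem (c := 64) (by decide))).2.1 _).1
        (q0 0 (by decide))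
      rw [J.conj_q (by decide), mul_mem_cancel_right (q0 0 (by decide))] at this
      exact J.ncomm_q (j := 1) (by decide) (by decide) (by decide)
        (PGroup.isMulCommutative_iff.1 J.ea_A0.1 _ (q0 1 (by decide)) _ this)
    rw [J.card_V] at a b
    obtain ⟨i, hi, c⟩ := (Nat.dvd_prime_pow Nat.prime_two).1 a
    rw [c] at b ⊢
    exact Nat.pow_le_pow_right (n := 2) (j := 10) (by decide) (Nat.le_of_lt_succ (hi.lt_of_ne fun e => b (e ▸ rfl)))
  have h2 : ((normalizer (J.A0 : Set G) ⊓ centralizer {J.a 2}).subgroupOf J.M).map J.ρh ≤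
      MulAction.stabilizer M24 (Golay.G.toF O1) ⊓ MulAction.stabilizer M24 (Golay.G.toF 6) := by
    rintro _ ⟨g, hg, rfl⟩
    replace hg := mem_subgroupOf.1 hg
    obtain ⟨c, hc⟩ := exists_R (J.ρ g)
    have k : ∀ i < 24, ∀ j < 24, g.1 * J.vv (ll i ^^^ ll j) * g.1⁻¹ = J.vv (ll (Calc.get 5 c i) ^^^ ll (Calc.get 5 c j)) :=
      fun i hi j hj => by
        rw [← J.cm_duad hi hj, J.conj _ g.2 c hc _ (Nat.xor_lt_two_pow (Nat.pow_lt_pow_right (by decide) hi)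
          (Nat.pow_lt_pow_right (by decide) hj)) (by rw [pc_xor, pc_pow i hi, pc_pow j hj]), img_xor hc, img_pow hc hi,
          img_pow hc hj, J.cm_duad (hc.2 i hi).1 (hc.2 j hj).1]
    have l : ∀ i j, ll i ^^^ ll j < 2048 := fun i j => Nat.xor_lt_two_pow (n := 11) (ll_lt i) (ll_lt j)
    have w := W0_chk
    simp only [band_eq_true, allBig_iff, allLt_iff, bor_eq_true, beq_iff, anyLt_iff, bit_eq, Bool.not_eq_true'] at w
    refine ⟨Finset.eq_of_subset_of_card_le (fun x hx => ?_) (Finset.card_smul_finset _ _).ge,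
      (hc.mem_stab_set (by decide)).2 ?_⟩
    · obtain ⟨y, hy, rfl⟩ := Finset.mem_smul_finset.1 hx
      obtain ⟨i, hi, rfl⟩ := surj_pt y
      have hy := (Golay.G.pt_mem_toF hi).1 hy
      obtain ⟨j, hj, h1, h2⟩ := (by decide : ∀ i < 24, O1.testBit i = true → ∃ j < 24, O1.testBit j = true ∧ i ≠ j) i hi hy
      have m : ∀ i < 24, O1.testBit i = true → J.vv (ll i ^^^ ll 1) ∈ J.A0 := fun i hi h =>
        let ⟨u, a, b⟩ := (w.1 _ (l i 1)).resolve_left (by simpa using (w.2.2 i hi).1.resolve_left (by simp [h]))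
        ⟨u, by omega, (congrArg J.vv b.symm).trans (J.a_lt a).symm⟩
      have := (mem_normalizer_iff.1 hg.1 _).1 (mul_mem (m i hi hy) (m j hj h1))
      rw [← J.vv_xor, Nat.xor_assoc, Nat.xor_comm (ll 1), Nat.xor_xor_cancel_right, k i hi j hj] at this
      obtain ⟨u, a, b⟩ := J.A0_V this (J.vv_mem (l _ _))
      have := ((w.2.2 _ (hc.2 i hi).1).2 _ (hc.2 j hj).1).resolve_right (by
        simpa [J.vv_inj (l _ _) (wv_lt u) b] using (w.2.1 u a).1)
      exact (hc.2 i hi).2.symm ▸ (Golay.G.pt_mem_toF (hc.2 i hi).1).2 (this.resolve_left fun e => h2 (inj_pt i hi j hj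
        (MulAction.injective (J.ρ g) ((hc.2 i hi).2.trans (e ▸ (hc.2 j hj).2.symm)))))
    · have := k 2 (by decide) 1 (by decide)
      rw [← J.a_two, mul_inv_eq_iff_eq_mul.2 (mem_centralizer_singleton_iff.1 hg.2), J.a_two] at this
      rw [show 6 = 2 ^ 2 ^^^ 2 ^ 1 from rfl, img_xor hc, img_pow hc (by decide), img_pow hc (by decide)]
      rcases ll_xor_eq (by decide) (by decide) (hc.2 2 (by decide)).1 (hc.2 1 (by decide)).1 (by decide)
        (J.vv_inj (l _ _) (l _ _) this) with ⟨a, b⟩ | ⟨a, b⟩ <;> rw [← a, ← b]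
      exact Nat.xor_comm _ _
  rw [← Grp.ncard_cl_mul _ (J.a 2), J.orbits.2.1, card_le_ker_mul J.ρh hM J.ker_ρh]
  exact (Nat.mul_le_mul_left _ (Nat.mul_le_mul h1 ((card_le_of_le h2).trans card_O1))).trans (by decide)

theorem ten_spec : J.B5 ⊓ J.A0 = ⊥ ∧ J.B5 ⊔ J.A0 = normalizer (J.A0 : Set G) ∧ centralizer (J.A0 : Set G) = J.A0 ∧
    ∀ W ≤ J.A0, normalizer (J.A0 : Set G) ≤ normalizer (W : Set G) → W = ⊥ ∨ W = J.A0 := by
  have := J.fin
  obtain ⟨⟨e⟩, c⟩ := J.iso_B5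
  have h1 := (normal_cases (n := 2) e J.B5_le).resolve_right fun k => absurd (c ▸ J.card_A0 ▸ card_le_of_le k) (by decide)
  have h2 : J.B5 ⊔ J.A0 = normalizer (J.A0 : Set G) := eq_of_le_of_card_ge (sup_le J.B5_le le_normalizer) (by
    rw [Core.card_sup_of_disjoint J.B5_le h1, c, J.card_A0, mul_comm]; exact J.card_norm_A0)
  have h3 := (normal_cases (n := 2) e (J.B5_le.trans (PGroup.normalizer_le_normalizer_centralizer _))).resolve_right
    fun k => absurd (J.a_inj (by decide) (app_lt 10 _ _) ((mul_inv_eq_iff_eq_mul.2 (k (J.bg_mem 0) _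
      ⟨1, by decide, rfl⟩).symm).symm.trans (J.bg_act (by decide) 1 (by decide)))) (by decide +kernel)
  have h4 : J.A0 ≤ centralizer (J.A0 : Set G) := fun x a y b => PGroup.isMulCommutative_iff.1 J.ea_A0.1 y b x a
  refine ⟨h1, h2, le_antisymm (fun x hx => ?_) h4, fun W a b => or_iff_not_imp_left.2 fun k => ?_⟩
  · obtain ⟨y, a, w, b, rfl⟩ := (Core.mem_sup_of_le_normalizer_right J.B5_le).1 (h2.ge (centralizer_le_normalizer _ hx))
    rwa [mem_bot.1 (h3.le ⟨a, (mul_mem_cancel_right (h4 b)).1 hx⟩), one_mul]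
  obtain ⟨o1, o2, o3⟩ := J.orbits
  have m : ∀ {c x}, x ∈ (W : Set G) \ (⊥ : Subgroup G) → x ∈ Grp.cl (normalizer (J.A0 : Set G)) c →
      Grp.cl (normalizer (J.A0 : Set G)) c ⊆ (W : Set G) \ (⊥ : Subgroup G) := fun hx h => by
    rw [← Grp.cl_eq h]
    rintro _ ⟨g, hg, rfl⟩
    exact ⟨(mem_normalizer_iff.1 (b hg) _).1 hx.1, fun e => hx.2 (conj_eq_one_iff.1 (mem_bot.1 e))⟩
  have d := J.card_A0 ▸ card_dvd_of_le a
  have n := ncard_diff_sub (bot_le : ⊥ ≤ W)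
  have p := Nat.card_pos (α := W)
  obtain ⟨x, hx, x1⟩ := (bot_or_exists_ne_one W).resolve_left k
  rw [card_bot] at n
  by_cases s : ∃ y ∈ (W : Set G) \ (⊥ : Subgroup G), y ∈ Grp.cl (normalizer (J.A0 : Set G)) (J.a 2)
  · obtain ⟨y, y1, y2⟩ := s
    have := Set.ncard_le_ncard (m y1 y2)
    obtain ⟨i, hi, d⟩ := (Nat.dvd_prime_pow Nat.prime_two).1 d
    refine eq_of_le_of_card_ge a (J.card_A0.trans_le (d ▸ Nat.pow_le_pow_right (by decide) (not_lt.1 fun e => ?_)))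
    have := Nat.pow_le_pow_right two_pos (Nat.le_of_lt_succ e)
    omega
  · push Not at s
    rw [← (m ⟨hx, x1⟩ ((o3 x (a hx) x1).resolve_right (s x ⟨hx, x1⟩))).antisymm fun y hy =>
      (o3 y (a hy.1) hy.2).resolve_right (s y hy), o1] at n
    rw [show Nat.card W = 156 by omega] at d
    exact absurd d (by decide)

include J in
theorem ten_map {A : Subgroup G} (he : IsElementaryAbelian 2 A) (hc : Nat.card A = 2 ^ 10)
    (h : centralizer (A : Set G) = A) : ∃ J' : Mod G, A = J'.A0 := by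
  obtain ⟨g, rfl⟩ := J.ten_conj he hc h
  have k : ∀ c, (J.map (MulAut.conj g)).a c = MulAut.conj g (J.a c) := fun c =>
    (congrArg (· * _) (J.vv_map (MulAut.conj g) _)).trans (map_mul (MulAut.conj g) _ _).symm
  exact ⟨J.map (MulAut.conj g), Subgroup.ext fun x => ⟨fun ⟨_, ⟨c, a, rfl⟩, e⟩ => ⟨c, a, e.symm.trans (k c).symm⟩,
    fun ⟨c, a, e⟩ => ⟨_, ⟨c, a, rfl⟩, (e.trans (k c)).symm⟩⟩⟩

end Mod

end Cfsg.Lib.J4T
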