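import Cfsg.Agent.Lib.J4T.MaxE
import Cfsg.Agent.Lib.J4T.MaxF
import Cfsg.Agent.Lib.J4T.MaxG
import Cfsg.Agent.Lib.J4T.TenB
import Cfsg.Agent.Lib.J4T.GlobEx

/-! # The local maximal subgroups of J₄ -/

set_option autoImplicit false
set_option maxRecDepth 100000

namespace Cfsg.Lib.J4T

open Cfsg.Lib.Calc Cfsg.Lib.F2 Cfsg.Lib.Mathieu Cfsg.Lib.Big Cfsg.Lib.J4 Subgroup Cfsg.Lib.Transfer

variable {G : Type*} [Group G]

theorem coatom_conj {Y : Subgroup G} (h : IsCoatom Y) (g : G) : IsCoatom (g ⋆ Y) :=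
  ((MulAut.conj g).mapSubgroup.isCoatom_iff Y).2 h

namespace Mod

variable {J : Mod G}

theorem nrm {x g : G} {X C e : ℕ} (a : J.R x X) (b : J.R g C) (h : nrm X C e = true) : g * x * g⁻¹ = x ^ e :=
  cj b a (pw a e) h

theorem ordB1 {g : G} {A p : ℕ} (a : J.R g A) {bs : List ℕ} (hp : p.Prime) (e : exB bs 1 = p + 1)
    (k : J4T.ordB A eM.one bs = true) : orderOf g = p := mul_one g ▸ ordB a J.one hp e k

theorem frOK {g : ℕ → G} {C : ℕ → ℕ} (h : ∀ i, J.R (g i) (C i)) {bs : List ℕ} {p e a b c : ℕ} (hp : p.Prime)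
    (he : exB bs 1 = p + 1) (k : frOK bs e a b c C = true) : orderOf (g 0) = p ∧
      (∀ i ∈ [0, 1], g i ∈ normalizer (zpowers (g 0) : Set G)) ∧
        ∀ i ∈ [1, 2, 3], g i ∈ normalizer (zpowers (g 1 ^ a) : Set G) := by
  have := J.fin
  simp only [J4T.frOK, forceB_eq, band_eq_true] at k
  simp only [List.forall_mem_cons, List.not_mem_nil, false_imp_iff, implies_true, and_true]
  exact ⟨ordB1 (h 0) hp he k.1.1, ⟨le_normalizer (mem_zpowers _), mem_norm_zp (nrm (h 0) (h 1) k.1.2)⟩,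
    mem_norm_zp (n := 1) (by group), mem_norm_zp (nrm (pw (h 1) a) (h 2) k.2.1), mem_norm_zp (nrm (pw (h 1) a) (h 3) k.2.2)⟩

variable (J)
include J

theorem top {y : ℕ} {c : ℕ → Bool} (e : band (noB y c) (!band (c y) (okB y)) = true) {X : Subgroup G}
    (h : y ∣ Nat.card X) (hc : c (Nat.card X) = true) : X = ⊤ :=
  (J.no (band_eq_true.1 e).1 h hc).resolve_left fun k => by
    have := (band_eq_true.1 e).2
    rw [← k, hc, J.ok] at this
    exact absurd this (by decide)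

theorem two_top {p q r : ℕ} (e : band (noB (p * q * r) fun _ => true) (!band true (okB (p * q * r))) = true)
    (h1 : p.Coprime q) (h2 : (p * q).Coprime r) {X : Subgroup G} (a : p ∣ Nat.card X) (b : q ∣ Nat.card X)
    (c : r ∣ Nat.card X) : X = ⊤ := J.top e (h2.mul_dvd_of_dvd_of_dvd (h1.mul_dvd_of_dvd_of_dvd a b) c) rfl

theorem card_N {x : G} {p e : ℕ} (h : (p, e) ∈ tb) (hx : orderOf x = p) :
    Nat.card (normalizer (zpowers x : Set G)) = p * e := (J.tb_spec _ h).2.2 x hx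

theorem card_NU {U : Subgroup G} (h : Nat.card U = 11 ^ 3) : Nat.card (normalizer (U : Set G)) = 319440 := by
  have := J.fin
  obtain ⟨U', a, b, -⟩ := J.ti0
  obtain ⟨g, -, rfl⟩ := conj_of_card (le_top : U ≤ ⊤) h (by rw [card_top, J.card]; norm_num) le_top a
  rw [← conj_normalizer, card_conj, b]

theorem syl_coatom {p n : ℕ} [Fact p.Prime] (h1 : ¬p ^ (n + 1) ∣ 86775571046077562880) {Q : Subgroup G}
    (h2 : Nat.card Q = p ^ n) (h : IsCoatom (normalizer (Q : Set G))) (U : Sylow p G) :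
    IsCoatom (normalizer ((U : Subgroup G) : Set G)) := by
  have := J.fin
  obtain ⟨S, hS⟩ := (IsPGroup.of_card h2).exists_le_sylow
  obtain ⟨g, rfl⟩ := MulAction.exists_smul_eq G S U
  obtain ⟨a, -, k⟩ := conj_le_of_card (le_top : Q ≤ ⊤) h2 (by rwa [card_top, J.card]) le_top S.2
  rw [coe_smul_sylow, ← conj_normalizer, ← eq_of_le_of_card_ge hS (card_conj a S.1 ▸ card_le_of_le k)]
  exact coatom_conj h g

theorem max_M : IsCoatom J.M := J.coatom (c := fun _ => true) (by decide +kernel) J.card_M (by decide) fun _ _ _ => rfl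

theorem max_L : IsCoatom (normalizer (J.LL : Set G)) :=
  have := J.fin
  J.coatom (c := fun n => Nat.beq (n / 7 % 7) (94371840 % 7)) (by decide +kernel) J.NL_spec.1 (by decide) fun _ h _ =>
    beq_iff.2 (idx1 Nat.prime_seven (J.pg_NL 17) J.pe.2.1 J.NL_spec.1 (by decide) h (inf_le_right.trans J.seven.2.2.1))

theorem max_H : IsCoatom J.H := by
  have := J.fin
  have : Fact (Nat.Prime 7) := ⟨Nat.prime_seven⟩
  refine J.coatom (c := fun n => band (Nat.beq (n / 3 ^ 3 % 3) (807403520 % 3)) (!Nat.beq (n / 7 % 7) 4)) (by decide +kernel)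
    J.card_H (by decide) fun X h _ => band_eq_true.2 ⟨beq_iff.2 (idx (J.R0_le.trans inf_le_left) J.heis_R0.card J.card_H
      (by decide) h (inf_le_right.trans (J.norm_R0.trans J.KH))), ?_⟩
  obtain ⟨x, a, b⟩ := exists_ord (S := J.H) Nat.prime_seven (by rw [J.card_H]; decide)
  obtain ⟨m, e⟩ := b ▸ orderOf_dvd_natCard _ (h a)
  obtain ⟨d, h1, h2⟩ := norm_card1 (m := 3114270720) a b J.card_H (by decide)
  obtain ⟨d', h3, h4⟩ := norm_card1 (h a) b e fun k => absurd ((Nat.mul_dvd_mul_left 7 k).trans (e ▸ J.dvd_G X)) (by decide)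
  have h5 : 2 ∣ 7 * d := h1 ▸ J.ord ▸ orderOf_dvd_natCard _ ⟨J.hH ▸ mem_centralizer_singleton_iff.2 rfl,
    mem_norm_zp (n := 1) (by rw [← J.mem_H.1 a]; simp)⟩
  have h6 : d ∣ d' := Nat.dvd_of_mul_dvd_mul_left (by decide) (h1 ▸ h3 ▸ card_dvd_of_le (inf_le_inf_right _ h))
  have h7 : d' ∣ 360 := Nat.dvd_of_mul_dvd_mul_left (by decide)
    (h3 ▸ J.card_N (e := 360) (by decide) b ▸ card_dvd_of_le inf_le_right)
  have h8 := Nat.le_of_dvd (by decide) h7
  rw [e, Nat.mul_div_cancel_left _ (by decide), ← h4, Bool.not_eq_true', ← Bool.not_eq_true, beq_iff]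
  exact fun k => by
    have := (by decide +kernel : ∀ b < 361, 360 % b = 0 ∧ b % 7 = 4 → ∀ a < 361, b % a = 0 ∧ a % 7 = 1 → a % 2 = 1) d'
      (by omega) ⟨Nat.mod_eq_zero_of_dvd h7, k⟩ d (Nat.lt_succ_of_le (Nat.le_of_dvd (by decide) (h6.trans h7)))
      ⟨Nat.mod_eq_zero_of_dvd h6, h2⟩
    omega

theorem max_A : IsCoatom (normalizer (J.A0 : Set G)) := by
  have := J.fin
  have e := k31_ok
  simp only [pullS_eq, Grp.forceL_eq, band_eq_true] at e
  obtain ⟨⟨e1, e2, e3⟩, e4, e5⟩ := e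
  have hB : ∀ C ∈ bB, Big.Gd J.R (normalizer (J.A0 : Set G)) C := fun C h => (gd_gen (gd_ex J.gd_bB) C h).mono J.B5_le
  have r := pv_spec hB pb31 [14, 0]
  have t := (pv_spec J.gd_BASE p31 [0] 0).2
  have o := ordB1 (r 0).2 (p := 31) (by norm_num) rfl e1
  have c : Nat.card (normalizer (J.A0 : Set G)) = 31 * 330301440 := by
    rw [← J.ten_spec.2.1, Core.card_sup_of_disjoint J.B5_le J.ten_spec.1, J.iso_B5.2, J.card_A0]; rfl
  refine J.coatom (c := fun n => Nat.beq (n / 31 % 31) (330301440 % 31)) (by decide +kernel) c (by decide) fun X h k =>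
    beq_iff.2 (idx1 (by norm_num) (r 0).1 o c (by decide) h (grow h (by simp [exB]; norm_num) (fun a => k ?_)
      (gd_one (mem_norm_zp (nrm (r 0).2 t e3)) t) (fun C b => (hB C b).mono h) ?_ ?_ (topAll e4) (band_eq_true.2 e5)
      (J.card_N (e := 10) (by decide) o).le))
  · exact J.top (y := 31 * 330301440 * 29) (c := fun _ => true) (by decide +kernel)
      (Nat.Coprime.mul_dvd_of_dvd_of_dvd (by decide) (c ▸ card_dvd_of_le h) (a _ List.mem_cons_self)) rfl
  all_goals exact gd_map (fun i => (r i).2) (by simpa using ⟨⟨le_normalizer (mem_zpowers _), (r 0).1⟩,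
    mem_norm_zp (nrm (r 0).2 (r 1).2 e2), (r 1).1⟩)

theorem max_U : ∃ U : Subgroup G, Nat.card U = 11 ^ 3 ∧ IsCoatom (normalizer (U : Set G)) := by
  have := J.fin
  have e := k11_ok
  simp only [pullS_eq, forceB_eq, band_eq_true, allL_iff] at e
  obtain ⟨⟨⟨⟨e1, e2⟩, e3, e4, e5⟩, ⟨⟨e6, e7⟩, e8, e9⟩, f1, f2⟩, f3, f4⟩ := e
  have r := fun i => (pv_spec J.gd_BASE p11 [153, 87, 254, 74, 62, 42, 8, 0] i).2
  obtain ⟨U, h⟩ := exists_heis (by decide) (pw_eq (r 0) e1) (pw_eq (r 1) e2) J.ord_a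
    (eq (mul (r 0) (r 1)) (mul (mul (r 1) (r 0)) J.Ra) e3) (com (r 0) J.Ra e4) (com (r 1) J.Ra e5)
  have c := J.card_NU h.card
  have o := ordp (r 4) Nat.prime_five f1
  have y := fun {i e} => h.normH (r 0) (r 1) J.Ra (r i) (e := e)
  have n := fun i hi => mem_norm_zp (nrm (r 4) (r i) (f2 i hi))
  refine ⟨U, h.card, J.coatom (c := fun n => band (Nat.beq (n / 5 % 5) (63888 % 5)) (Nat.beq (n / 11 ^ 3 % 11 ^ 3) 240))
    (by decide +kernel) c (by decide) fun X k t => band_eq_true.2 ⟨beq_iff.2 (idx1 Nat.prime_five (y e8) o c (by decide) k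
      (grow k (by simp [exB]; norm_num) (fun a => t ?_) (gd_map r fun i hi => n i (by revert i; decide))
        (gd_map r (by simpa using ⟨k (le_normalizer h.x_mem), k (le_normalizer h.y_mem), k (y e8), k (y e6), k (y e7)⟩))
        (gd_map r (by simpa using ⟨⟨n 2 (by decide), y e6⟩, n 3 (by decide), y e7⟩))
        (gd_map r (by simpa using ⟨⟨n 4 (by decide), y e8⟩, ⟨n 2 (by decide), y e6⟩, n 7 (by decide), y e9⟩))
        (topAll f3) (band_eq_true.2 f4) (J.card_N (e := 5376) (by decide) o).le)), ?_⟩⟩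
  · exact J.two_top (p := 319440) (by decide +kernel) (by decide) (by decide) (c ▸ card_dvd_of_le k)
      (a _ List.mem_cons_self) (a _ (List.mem_cons_of_mem _ List.mem_cons_self))
  obtain ⟨m, e⟩ := h.card ▸ card_dvd_of_le (le_normalizer.trans k)
  obtain ⟨d, h1, h2, -⟩ := J.ti (k := 2) (le_normalizer.trans k) h.card e fun a =>
    absurd ((Nat.mul_dvd_mul_left _ a).trans (e ▸ J.dvd_G X)) (by decide)
  rw [inf_eq_right.2 k, c] at h1
  rw [e, Nat.mul_div_cancel_left _ (by decide), ← h2, show d = 240 by omega]; rfl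

theorem max43 : ∃ x : G, orderOf x = 43 ∧ IsCoatom (normalizer (zpowers x : Set G)) := by
  have := J.fin
  have e := k43_ok
  simp only [pullS_eq, band_eq_true] at e
  obtain ⟨⟨e1, e2⟩, e3, e4⟩ := e
  have r := fun i => (pv_spec J.gd_BASE p43 [143, 103, 45, 0] i).2
  obtain ⟨o, y, n⟩ := frOK r (p := 43) (by norm_num) rfl e1
  have o' := ordp (pw (r 1) 2) Nat.prime_seven e2
  have c := J.card_N (e := 14) (by decide) o
  refine ⟨_, o, J.coatom (c := fun n => band (Nat.beq (n / 7 % 7) (86 % 7)) (Nat.beq (n / 43 % 43) (14 % 43)))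
    (by decide +kernel) c (by decide) fun X k t => band_eq_true.2 ⟨beq_iff.2 (idx1 Nat.prime_seven
      (pow_mem (y 1 (by decide)) 2) o' c (by decide) k (grow k (by simp [exB]; norm_num) (fun a => t ?_) (gd_map r n)
        (gd_map r fun i hi => k (y i hi)) ?_ ?_ (topAll e3) (band_eq_true.2 e4) (J.card_N (e := 360) (by decide) o').le)),
      beq_iff.2 (idx1 (by norm_num) (y 0 (by decide)) o c (by decide) k inf_le_right)⟩⟩
  · exact J.two_top (p := 43 * 14) (by decide +kernel) (by decide) (by decide) (c ▸ card_dvd_of_le k)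
      (a _ List.mem_cons_self) (a _ (List.mem_cons_of_mem _ List.mem_cons_self))
  all_goals exact gd_map r (by simpa using ⟨n 1 (by decide), y 1 (by decide)⟩)

theorem max29 : ∃ x : G, orderOf x = 29 ∧ IsCoatom (normalizer (zpowers x : Set G)) := by
  have := J.fin
  have : Fact (Nat.Prime 7) := ⟨Nat.prime_seven⟩
  have : Fact (Nat.Prime 37) := ⟨by norm_num⟩
  have e := k29_ok
  simp only [pullS_eq, band_eq_true] at e
  obtain ⟨⟨e1, e2⟩, e3, e4⟩ := e
  have r := fun i => (pv_spec J.gd_BASE p29 [138, 99, 39, 0] i).2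
  obtain ⟨o, y, n⟩ := frOK r (p := 29) (by norm_num) rfl e1
  have o' := ordp (pw (r 1) 4) Nat.prime_seven e2
  have c := J.card_N (e := 28) (by decide) o
  refine ⟨_, o, J.coatom (c := fun n => band (band (Nat.beq (n / 7 % 7) (116 % 7)) (Nat.beq (n / 29 % 29) (28 % 29)))
    (band (blt 0 (n % 11)) (blt 0 (n % 37)))) (by decide +kernel) c (by decide) fun X k t => ?_⟩
  have m := fun (S : Subgroup G) a => gd_map r (l := [1]) (List.forall_mem_singleton.2 (mem_inf.2 ⟨n 1 (by decide),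
    (mem_inf (p := S)).2 ⟨a, mem_centralizer_singleton_iff.2 (Commute.self_pow _ 4)⟩⟩))
  have g := grow (inf_le_left.trans k) (by simp [exB]; norm_num) (fun a => t (J.two_top (p := 29 * 28) (by decide +kernel)
    (by decide) (by decide) (c ▸ card_dvd_of_le k) (a _ List.mem_cons_self)
    (a _ (List.mem_cons_of_mem _ List.mem_cons_self)))) (gd_map r n) (gd_map r fun i hi => k (y i hi))
    (m _ (y 1 (by decide))) (m _ (y 1 (by decide))) (topAll e3) (band_eq_true.2 e4) (J.card_N (e := 360) (by decide) o').le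
  have b := fun {R : Subgroup G} {r b : ℕ} [Fact r.Prime] (h : 7 ≠ r) => bf (R := R) (a := 1) (b := b) h
    (zpowers_le.2 (k (pow_mem (y 1 (by decide)) 4))) (by rw [Nat.card_zpowers, o', pow_one])
    (fun a => absurd (a.trans (J.dvd_G X)) (by decide)) (cen_zpowers (G := G) _ ▸ g.trans inf_le_right)
  simp only [band_eq_true, beq_iff, blt_iff, Nat.pos_iff_ne_zero, Ne, ← Nat.dvd_iff_mod_eq_zero]
  refine ⟨⟨idx1 Nat.prime_seven (pow_mem (y 1 (by decide)) 4) o' c (by decide) k (g.trans inf_le_left),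
    idx1 (by norm_num) (y 0 (by decide)) o c (by decide) k inf_le_right⟩, fun a => ?_, fun a => ?_⟩
  · obtain ⟨i, m, h1, h2⟩ := Nat.exists_eq_pow_mul_and_not_dvd (Nat.card_pos (α := X)).ne' 11 (by decide)
    obtain _ | i := i
    · exact h1 (by simpa [h2] using a)
    obtain ⟨Q, h3⟩ := Sylow.exists_subgroup_card_pow_prime (G := X) 11 ⟨m, h2⟩
    replace h3 := (card_map_of_injective X.subtype_injective).trans h3
    obtain ⟨d, h4, -, h5⟩ := J.ti (map_subtype_le Q) h3 h2 h1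
    have := b (by decide) (map_subtype_le Q) h3 fun k => h1 (by
      rwa [h2, pow_succ, Nat.mul_dvd_mul_iff_left (by positivity)] at k)
    rw [h4, pow_one] at this
    exact absurd (((Nat.Coprime.pow_right _ (by decide)).dvd_of_dvd_mul_left this).trans h5) (by decide)
  · obtain ⟨u, h1, h2⟩ := exists_ord (by norm_num) a
    exact absurd ((b (r := 37) (b := 1) (by decide) (zpowers_le.2 h1) (by rw [Nat.card_zpowers, h2, pow_one])
      fun a => absurd (a.trans (J.dvd_G X)) (by decide)).trans (J.card_N (e := 12) (by decide) h2 ▸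
        card_dvd_of_le inf_le_right)) (by decide)

theorem cen4 {u : G} (h : J.vv 1821 * w37.ev J.δ = u) (h' : u * u = J.vv (ll 23 ^^^ ll 0)) :
    Nat.card (centralizer {u}) ≤ 43008 := by
  have := J.fin
  have := J.simple
  have e := c37_ok
  simp only [forceB_eq, Grp.forceL_eq, band_eq_true, allL_iff, beq_iff] at e
  obtain ⟨⟨⟨e1, e2⟩, ⟨e3, e4⟩, e5⟩, e6⟩ := e
  have hx : Mathieu.R (w37.ev gM) x37 := e3 ▸ R_pW e1
  rw [← J.Λ_ev e1] at h
  generalize w37.ev gM = x at h hx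
  have vM : ∀ c < 2048, J.vv c ∈ J.M ∧ J.ρ (J.vv c) = 1 := fun c a =>
    ⟨J.hM ▸ le_normalizer (J.vv_mem a), J.ρ_V (J.vv_mem a)⟩
  have uM : u ∈ J.M := h ▸ mul_mem (vM _ (by decide)).1 (J.ΛM x)
  have ux : J.ρ u = x := by rw [← h, J.ρ_mul _ (vM _ (by decide)).1 _ (J.ΛM x), (vM _ (by decide)).2, one_mul, J.ρΛ]
  let S := ((centralizer {x}).comap J.ρh).map J.M.subtype
  have mS : ∀ g ∈ J.M, J.ρ g * x = x * J.ρ g → g ∈ S := fun g a b => ⟨⟨g, a⟩, mem_centralizer_singleton_iff.2 b, rfl⟩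
  have h1 : centralizer {u} ≤ S := fun g hg => by
    obtain ⟨a, a1, a2⟩ := J.conj_duad_w (i := 23) (j := 0) (by decide) (by decide)
    have k := mem_centralizer_singleton_iff.1 hg
    have gM : g ∈ J.M := (mul_mem_cancel_left a1).1 ((mul_mem_cancel_right (inv_mem a1)).1 (J.cen_w J.hH J.hM
      (mem_centralizer_singleton_iff.2 (by rw [← a2, conj_mul, conj_mul, ← h', ← mul_assoc g, k, mul_assoc u, k, mul_assoc u]))))
    exact mS g gM (by rw [← ux, ← J.ρ_mul _ gM _ uM, k, J.ρ_mul _ uM _ gM])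
  have h2 : Nat.card S ≤ 2 ^ 11 * 21504 := by
    rw [card_le_ker_mul J.ρh (map_subtype_le _) J.ker_ρh]
    refine Nat.mul_le_mul (J.card_V ▸ card_le_of_le inf_le_left) ((card_le_of_le (K := centralizer {x}) ?_).trans ?_)
    · rw [subgroupOf, comap_map_eq_self_of_injective J.M.subtype_injective]; exact map_comap_le _ _
    obtain ⟨p, hp, y, -, a, b, c⟩ := cls24.exists_rep (mem_top x)
    have k := Grp.allP_iff.1 (show Grp.allP c24 (fun p => band (blt 0 (ordT p.1))
      (bor (!Nat.beq (ordT p.1) 2) (blt p.2 21505))) = true by decide +kernel) p hp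
    rw [band_eq_true, bor_eq_true, blt_iff, blt_iff, ← R.orderOf_eq a k.1.ne', ← Grp.orderOf_of_mem_cl b,
      hx.orderOf_eq (by rw [e4]; decide), e4] at k
    rw [top_inf_eq] at c
    exact c ▸ Nat.le_of_lt_succ (k.2.resolve_left (by decide))
  obtain ⟨T, s1, s2⟩ := orb_spec (dec := fun c => J.vv c * J.Λ x) (good := fun c => c < 2048 ∧ J.vv c * J.Λ x ∈ Grp.cl S u)
    (fun c d a b k => J.vv_inj a.1 b.1 (mul_right_cancel k)) (fun l _ c hc => by
      cases blt l 11
      · obtain ⟨v, c', h1, h2, h3⟩ : ∃ v c', Mathieu.R v c' ∧ v * x = x * v ∧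
            F2.nth (NM id24) (u37.map NM) (l - 11) = NM c' := by
          rcases nth_mem (NM id24) (u37.map NM) (l - 11) with t | t
          · exact ⟨1, id24, R.one, by rw [one_mul, mul_one], t⟩
          obtain ⟨v, a, b⟩ := List.mem_map.1 t
          have k := mk_rep (e5 v a).1
          exact ⟨_, v, k, (k.mulT hx).eq (by rw [(e5 v a).2]; exact hx.mulT k), b.symm⟩
        rw [cnd_false, h3]
        refine ⟨app_lt 11 _ _, Grp.cl_trans hc.2 ⟨_, mS _ (J.ΛM v) (by rw [J.ρΛ, h2]), ?_⟩⟩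
        rw [← conj_mul, J.sec.act h1 c hc.1, ← map_inv, ← map_mul, ← map_mul, h2, mul_inv_cancel_right]
      · rw [cnd_true]
        refine (nth_mem 0 _ l).elim (fun t => by rwa [t, Nat.xor_zero]) fun t => ?_
        obtain ⟨i, a, b⟩ := List.mem_map.1 t
        have k : 2 ^ i < 2048 := Nat.pow_lt_pow_right (n := 11) one_lt_two (List.mem_range.1 a)
        refine b ▸ ⟨Nat.xor_lt_two_pow (n := 11) hc.1 (Nat.xor_lt_two_pow k (app_lt _ _ _)),
          Grp.cl_trans hc.2 ⟨_, mS _ (vM _ k).1 (by rw [(vM _ k).2, one_mul, mul_one]), ?_⟩⟩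
        rw [J.vv_xor, J.vv_xor, ← J.sec.act hx _ k, ← mul_assoc, (J.vv_comm _ _).eq]
        simp [mul_assoc, J.vv_inv])
    ⟨by decide, h ▸ Grp.self_mem_cl _ _⟩ (by decide) (beq_iff.2 e6)
  have h3 : 1024 ≤ (Grp.cl S u).ncard := by
    rw [← s1, ← Set.ncard_coe_finset]
    exact Set.ncard_le_ncard fun y hy => let ⟨_, a, _, e⟩ := s2 y hy; e ▸ a.2
  have h4 := Grp.ncard_cl_mul S u
  rw [inf_eq_right.2 h1] at h4
  exact Nat.le_of_mul_le_mul_left (((Nat.mul_le_mul_right _ h3).trans h4.le).trans (h2.trans (by decide))) (by decide)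

theorem max37 : ∃ x : G, orderOf x = 37 ∧ IsCoatom (normalizer (zpowers x : Set G)) := by
  have := J.fin
  have e := k37_ok
  simp only [pullS_eq, band_eq_true, forceB_eq] at e
  obtain ⟨⟨e1, e2, e3⟩, e4⟩ := e
  have r := fun i => (pv_spec J.gd_BASE p37 i37 i).2
  obtain ⟨o, y, n⟩ := frOK r (p := 37) (by norm_num) rfl e1
  have c := J.card_N (e := 12) (by decide) o
  have w : ll 23 ^^^ ll 0 < 2048 := by decide +kernel
  have u2 := eq (mul (pw (r 1) 3) (pw (r 1) 3)) (J.Rv _ w) e3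
  have u1 := J.cen4 (eq (mul (J.Rv _ (by decide)) (J.ev (by decide))) (pw (r 1) 3) e2) u2
  have o' := ord_pp (p := 2) (n := 1) ((congrArg orderOf ((sq _).trans u2)).trans
    (orderOf_eq_prime ((sq _).trans (J.vv_sq _)) fun e => absurd (J.vv_eq_one w e) (by decide +kernel)))
  have tp := fun {rs} (h : pullS BASE p37 i37 (t37 rs) = true) => topAll ((pullS_eq _ _ _ _).symm.trans h)
  have ap := fun {P : ℕ → Prop} {a b : List ℕ} (x : ∀ r ∈ a, P r) (y : ∀ r ∈ b, P r) => List.forall_mem_append.2 ⟨x, y⟩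
  have tq := ap (tp t37_0) (ap (tp t37_1) (ap (tp t37_2) (ap (tp t37_3) (ap (tp t37_4) (ap (tp t37_5)
    (ap (tp t37_6) (tp t37_7)))))))
  have x2 := fun X k => idx1 (X := X) (by norm_num) (y 0 (by decide)) o c (by decide) k inf_le_right
  refine ⟨_, o, J.coatom (c := fun n => band (Nat.beq (n / 2 ^ 2 % 2) (111 % 2)) (Nat.beq (n / 37 % 37) (12 % 37)))
    (by decide +kernel) c (by decide) fun X k t => band_eq_true.2 ⟨beq_iff.2 (idx (zpowers_le.2
      (pow_mem (y 1 (by decide)) 3)) (by rw [Nat.card_zpowers, o']) c (by decide) k (grow k (by simp [exB]; norm_num)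
        (fun a => t ?_) (gd_map r n) (gd_map r fun i hi => k (y i hi)) ?_ ?_ tq (band_eq_true.2 e4) ?_)), beq_iff.2 (x2 X k)⟩⟩
  · exact J.top (y := 37 * 12 * 43) (c := fun n => Nat.beq (n / 37 % 37) (12 % 37)) (by decide +kernel)
      (Nat.Coprime.mul_dvd_of_dvd_of_dvd (by decide) (c ▸ card_dvd_of_le k) (a _ List.mem_cons_self)) (beq_iff.2 (x2 X k))
  iterate 2 exact gd_map r (by simpa using ⟨n 1 (by decide), y 1 (by decide)⟩)
  · have := card_norm_dvd ⊤ (J.g (pv BASE p37 i37 1) ^ 3)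
    rw [top_inf_eq, top_inf_eq, o'] at this
    exact (Nat.le_of_dvd (Nat.mul_pos Nat.card_pos (by decide)) this).trans (Nat.mul_le_mul_right _ u1)

end Mod

end Cfsg.Lib.J4T
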