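import Cfsg.Agent.Lib.J4T.Model
import Cfsg.Agent.Lib.J4T.Main

/-! # A group with all the coordinates of J₄ -/

set_option autoImplicit false
set_option maxRecDepth 1000000

namespace Cfsg.Lib.J4T

open Cfsg.Lib.Calc Cfsg.Lib.F2 Cfsg.Lib.Mathieu Cfsg.Lib.Big Cfsg.Lib.J4 Subgroup
open Cfsg.Lib.Golay (pc)
open scoped Pointwise

universe u

section Map

variable {G G' : Type*} [Group G] [Group G'] (L : Loc G) (f : G ≃* G')

theorem lk_map (k : G') (X : ℕ) : LK (f L.z) (fun v => f (L.e v)) (L.K.comap (f.symm : G' →* G))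
    (fun g => L.φ (f.symm g)) k X ↔ L.Cd (f.symm k) X := by
  obtain ⟨k, rfl⟩ := f.surjective k
  refine and_congr Iff.rfl (and_congr Iff.rfl (forall₂_congr fun v _ => ?_))
  rw [f.symm_apply_apply, ← map_pow, ← map_inv, ← map_mul, ← map_mul, ← map_mul, f.injective.eq_iff]

/-- Transport of the coordinates. -/
def Loc.map : Loc G' where
  z := f L.z
  e v := f (L.e v)
  H := L.H.comap (f.symm : G' →* G)
  K := L.K.comap (f.symm : G' →* G)
  φ g := L.φ (f.symm g)
  ord := (f.orderOf_eq _).trans L.ord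
  zK := by simpa using L.zK
  KH := comap_mono L.KH
  eH v := by simpa using L.eH v
  Hz g hg := mem_centralizer_singleton_iff.2 (f.symm.injective (by simpa using L.comm hg))
  e_mul v hv w hw := by rw [← map_mul, L.e_mul v hv w hw, map_mul, map_pow]
  φ_mul g hg h hh := by rw [map_mul]; exact L.φ_mul _ hg _ hh
  φ_e v := by simpa using L.φ_e v
  dec g hg := let ⟨v, hv, k, hk, e⟩ := L.dec _ hg
    ⟨v, hv, f k, by simpa using hk, f.symm.injective (by simpa using e)⟩
  lets X hX := let ⟨k, h⟩ := L.lets X hX; ⟨f k, (lk_map L f _ X).2 (by simpa using h)⟩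
  gen := by
    refine (comap_mono L.gen).trans ?_
    rw [comap_equiv_eq_map_symm, MulEquiv.symm_symm, MonoidHom.map_closure, Set.image_insert_eq]
    refine closure_mono (Set.insert_subset_insert ?_)
    rintro _ ⟨k, ⟨X, a, b⟩, rfl⟩
    exact ⟨X, a, (lk_map L f _ X).2 (by simpa using b)⟩
  ker k hk e := by rw [lk_map, lk_map, lk_map]; exact L.ker _ hk e
  faith k h := by
    obtain ⟨n, e⟩ := L.faith _ ((lk_map L f k _).1 h)
    exact ⟨n, f.symm.injective (by simpa using e)⟩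

theorem Loc.cd_map {k : G} {X : ℕ} : (L.map f).Cd (f k) X ↔ L.Cd k X := (lk_map L f _ X).trans (by simp)

theorem Loc.conj_zp {G : Type*} [Group G] (L : Loc G) {x a : G} (ha : a ∈ L.H) (b : ℕ) :
    x * L.z ^ b * a * (x * L.z ^ b)⁻¹ = x * a * x⁻¹ := Md.conj_el L ha b

theorem Loc.pair_eq {G : Type*} [Group G] {L : Loc G} {x a : G} {X A : ℕ} (hx : L.Cd x X) (ha : L.Cd a A) :
    L.el A * L.el X * (L.el A)⁻¹ * (L.el X)⁻¹ = a * x * a⁻¹ * x⁻¹ ∧
      ∀ g ∈ L.H, L.el X * g * (L.el X)⁻¹ = x * g * x⁻¹ := by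
  obtain ⟨m, -, h2⟩ := hx.eq (Loc.Gd.el ⟨_, hx⟩)
  obtain ⟨n, -, h4⟩ := ha.eq (Loc.Gd.el ⟨_, ha⟩)
  refine ⟨?_, fun g hg => by rw [h2, L.conj_zp hg]⟩
  rw [h4, L.conj_zp (h2 ▸ mul_mem hx.memH (pow_mem L.zH m)), mul_assoc, mul_assoc, ← mul_assoc (L.el X), h2,
    L.conj_zp (inv_mem ha.memH)]
  group

theorem Loc.vv_map (c : ℕ) : (L.map f).vv c = f (L.vv c) := by
  have k := fun {X A} (hX : L.Gd X) (hA : L.Gd A) => Loc.pair_eq ((L.cd_map f).2 hX.el) ((L.cd_map f).2 hA.el)
  have h1 : (L.map f).a1 = f L.a1 := (k L.gd_X1 L.gd_A).1.trans (by simp [Loc.a1])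
  have h3 : (L.map f).a3 = f L.a3 := (k L.gd_X2 L.gd_B).1.trans (by simp [Loc.a3])
  have h2 : (L.map f).a2 = f L.a2 :=
    ((k L.gd_X1 L.gd_A).2 _ (L.map f).cd_a1.memH).trans (by rw [h1]; simp [Loc.a2])
  have h4 : (L.map f).a4 = f L.a4 :=
    ((k L.gd_X2 L.gd_B).2 _ (L.map f).cd_a3.memH).trans (by rw [h3]; simp [Loc.a4])
  simp only [Loc.vv, Loc.aa, h1, h2, h3, h4, map_mul, map_pow]
  rfl

theorem Loc.mem_V_map {g : G'} : g ∈ (L.map f).V ↔ f.symm g ∈ L.V := by
  simp only [Loc.mem_V, L.vv_map, MulEquiv.symm_apply_eq]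

/-- Transport of the coordinates. -/
def Glob.map (Γ : Glob G) (f : G ≃* G') : Glob G' where
  toLoc := Γ.toLoc.map f
  M := Γ.M.comap (f.symm : G' →* G)
  ρ g := Γ.ρ (f.symm g)
  ρ_mul g hg h hh := by rw [map_mul]; exact Γ.ρ_mul _ hg _ hh
  VM g hg := Γ.VM ((Γ.mem_V_map f).1 hg)
  conj g hg c hc m hm h2 := f.symm.injective (by simpa [Loc.cm, Loc.vv_map] using Γ.conj _ hg c hc m hm h2)
  kerρ g hg e := (Γ.mem_V_map f).2 (Γ.kerρ _ hg e)
  surj x := let ⟨g, hg, e⟩ := Γ.surj x; ⟨f g, by simpa using hg, by simpa using e⟩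
  HM g hg e := Γ.HM _ hg e
  MH g hg e := Γ.MH _ hg (f.injective (by simpa [Loc.map] using e))

end Map

/-- The coordinates of `H` and `M`, the matrices of degree 112 and the double cosets of `M`. -/
structure Mod (G : Type u) [Group G] extends Glob G where
  R : G → ℕ → Prop
  act : ∃ _ : MulAction G (Fin 112 → ZMod 2), eM.Act R (code2 112)
  can : eM.Canon R
  δ : ℕ → G
  ι : J4.H →* G
  sol : Sol δ ι
  card : Nat.card G = 86775571046077562880
  val : Eng.Val R [δ 0, δ 1, δ 2] LM IM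
  k : ℕ → G
  Rz : R z cZ
  Re : ∀ v, R (e v) (eC v)
  Rk : ∀ i, R (k i) (cK i)
  cd : ∀ i < 8, toLoc.Cd (k i) (F2.nth cI J4T.lets i)
  Rv : ∀ c < 2048, R (toLoc.vv c) (vC c)
  Λ : M24 →* G
  Λg : ∀ c < 2, Λ (gM c) = δ c
  ΛM : ∀ m, Λ m ∈ M
  ρΛ : ∀ m, ρ (Λ m) = m
  hH : H = centralizer {z}
  hM : M = normalizer (toLoc.V : Set G)

theorem act_comap {G G' X : Type*} [Group G] [Group G'] [MulAction G X] {E : Eng} {R : G → ℕ → Prop} {code : X → ℕ}
    (h : E.Act R code) (f : G' ≃* G) : ∃ _ : MulAction G' X, E.Act (fun g => R (f g)) code :=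
  letI := MulAction.compHom X (f : G' →* G)
  ⟨this, { h.toLaws.comap (f : G' →* G) f.injective with
    pos := h.pos, lanes := h.lanes, lt := h.lt, inj := h.inj, vld := h.vld, app := fun a x => h.app a x }⟩

/-- The group J₄ itself. -/
noncomputable def modJ : Mod Spor.J4 where
  toGlob := Γ1
  R := Rm
  act := by
    rw [show Rm = fun g => RM (exists_equiv.choose g) from funext fun g => funext fun C => by rw [Rm]]
    exact act_comap actM _
  can := canJ
  δ := gΓ
  ι := solΓ.1.choose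
  sol := solΓ.1.choose_spec
  card := isJ4.2
  val := valJ
  k := jk
  Rz := R_z
  Re := R_e
  Rk := R_jk
  cd _ := cd_jk
  Rv _ := R_vv
  Λ := Λ1
  Λg := Λ1_gM
  ΛM := Λ1_mem
  ρΛ := ρ_Λ1
  hH := H1
  hM := M1

/-- Transport of the coordinates. -/
noncomputable def Mod.map {G : Type*} {G' : Type*} [Group G] [Group G'] (J : Mod G) (f : G ≃* G') : Mod G' where
  toGlob := J.toGlob.map f
  R g := J.R (f.symm g)
  act := let ⟨_, h⟩ := J.act; act_comap h f.symm
  can _ _ _ _ _ h h' := J.can h h'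
  δ c := f (J.δ c)
  ι := (f : G →* G').comp J.ι
  sol := ⟨fun t ht => ((W.map_ev (f : G →* G') _ t).symm.trans (congrArg _ (J.sol.rel t ht))).trans (map_one _),
    fun c hc => (congrArg f (J.sol.map c hc)).trans (by
      interval_cases c
      exacts [rfl, rfl, W.map_ev (f : G →* G') _ wV]),
    fun S h => by
      rw [← map_comap_eq_self_of_surjective (f := (f : G →* G')) f.surjective S, J.sol.top (S.comap (f : G →* G')) h]
      exact map_top_of_surjective _ f.surjective,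
    f.injective.comp J.sol.inj⟩
  card := (Nat.card_congr f.toEquiv).symm.trans J.card
  val := by simpa [Eng.Val, LM, IM] using J.val
  k i := f (J.k i)
  Rz := by simpa [Glob.map, Loc.map] using J.Rz
  Re v := by simpa [Glob.map, Loc.map] using J.Re v
  Rk i := by simpa using J.Rk i
  cd i hi := (J.cd_map f).2 (J.cd i hi)
  Rv c hc := by
    rw [show (J.toGlob.map f).vv c = _ from J.vv_map f c, f.symm_apply_apply]; exact J.Rv c hc
  Λ := (f : G →* G').comp J.Λ
  Λg c hc := congrArg f (J.Λg c hc)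
  ΛM m := by simpa [Glob.map] using J.ΛM m
  ρΛ m := by simpa [Glob.map] using J.ρΛ m
  hH := by
    ext g
    change f.symm g ∈ J.H ↔ g ∈ centralizer {f J.z}
    rw [J.hH, mem_centralizer_singleton_iff, mem_centralizer_singleton_iff, ← f.injective.eq_iff]
    simp
  hM := by
    ext g
    change f.symm g ∈ J.M ↔ g ∈ normalizer ((J.toLoc.map f).V : Set G')
    rw [J.hM, mem_normalizer_iff, mem_normalizer_iff, f.surjective.forall]
    simp [Loc.mem_V_map]

theorem Glob.ker_ρh {G : Type*} [Group G] (Γ : Glob G) : Γ.ρh.ker = Γ.V.subgroupOf Γ.M :=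
  Subgroup.ext fun g => ⟨Γ.kerρ _ g.2, Γ.ρ_V⟩

theorem Glob.card_M {G : Type*} [Group G] (Γ : Glob G) : Nat.card Γ.M = 501397585920 := by
  rw [← Γ.ρh.ker.card_mul_index, index_ker, MonoidHom.range_eq_top.2 fun x => let ⟨g, h, e⟩ := Γ.surj x; ⟨⟨g, h⟩, e⟩,
    card_top, card_M24, Γ.ker_ρh, Nat.card_congr (subgroupOfEquivOfLe Γ.VM).toEquiv, Γ.card_V]
  norm_num

theorem Glob.card_duad {G : Type*} [Group G] [Finite G] [IsSimpleGroup G] (Γ : Glob G) (hH : Γ.H = centralizer {Γ.z})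
    (hM : Γ.M = normalizer (Γ.V : Set G)) : Nat.card (centralizer {Γ.cm 3}) = 1816657920 := by
  have := Grp.ncard_cl_mul Γ.M (Γ.cm 3)
  rw [Γ.ncard_duads hH hM, Γ.card_M, inf_eq_right.2 (Γ.centralizer_duad hH hM)] at this
  omega

/-- A straight line program keeps a property that is closed under products. -/
theorem slp_ind {E : Eng} {P : ℕ → Prop} (h1 : P E.one) (h2 : ∀ a b, P a → P b → P (E.mul a b)) {L prog : List ℕ}
    {k : List ℕ → Bool} (hL : ∀ C ∈ L, P C) (h : E.slp L prog k = true) : ∃ L', (∀ C ∈ L', P C) ∧ k L' = true := by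
  induction prog generalizing L with
  | nil => exact ⟨L, hL, h⟩
  | cons t prog ih =>
    have hn : ∀ i, P (F2.nth E.one L i) := fun i => (nth_mem E.one L i).elim (fun e => e.symm ▸ h1) (hL _)
    change forceB _ (fun v => E.slp (v :: L) prog k) = true at h
    rw [forceB_eq] at h
    exact ih (List.forall_mem_cons.2 ⟨h2 _ _ (hn _) (hn _), hL⟩) h

namespace Mod

variable {G : Type u} [Group G] (J : Mod G)

theorem law : eM.Laws J.R := let ⟨_, h⟩ := J.act; h.toLaws

include J in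
theorem fin : Finite G := Nat.finite_of_card_ne_zero (by rw [J.card]; norm_num)

include J in
theorem simple : IsSimpleGroup G := J.sol.simple J.card.symm.dvd

theorem low {ls : List Big.Lv} {SL : List ℕ} {S : Subgroup G} (h : LowOK eM ls SL) (hS : ∀ C ∈ SL, Gd J.R S C) :
    prodM ls ≤ Nat.card S :=
  have := J.fin
  let ⟨_, k⟩ := J.act; h.low k hS

theorem one : J.R 1 eM.one := J.law.one

variable {J}

theorem mul {g h : G} {a b : ℕ} (x : J.R g a) (y : J.R h b) : J.R (g * h) (eM.mul a b) := J.law.mul x y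
theorem eq {g h : G} {a b : ℕ} (x : J.R g a) (y : J.R h b) (e : Nat.beq a b = true) : g = h :=
  J.law.uniq x (beq_iff.1 e ▸ y)
theorem ne {g h : G} {a b : ℕ} (x : J.R g a) (y : J.R h b)
    (e : Nat.beq (eM.mul a eM.one) (eM.mul b eM.one) = false) : g ≠ h := by
  simpa using J.can.ne (mul x J.one) (mul y J.one) e
theorem com {g h : G} {a b : ℕ} (x : J.R g a) (y : J.R h b) (e : eM.com a b = true) : g * h = h * g :=
  J.law.comm x y (beq_iff.1 e)
theorem ncom {g h : G} {a b : ℕ} (x : J.R g a) (y : J.R h b) (e : eM.com a b = false) : g * h ≠ h * g :=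
  J.can.ne (mul x y) (mul y x) e
theorem pw {g : G} {a : ℕ} (x : J.R g a) (n : ℕ) : J.R (g ^ n) (eM.pw a n) := J.law.pw x n
/-- conjugation -/
theorem cj {g x y : G} {a b c : ℕ} (h : J.R g a) (hx : J.R x b) (hy : J.R y c)
    (e : Nat.beq (eM.mul a b) (eM.mul c a) = true) : g * x * g⁻¹ = y :=
  mul_inv_eq_iff_eq_mul.2 (eq (mul h hx) (mul hy h) e)

theorem mz {g : G} {X : ℕ} (h : J.R g X) (a : ℕ) : J.R (g * J.z ^ a) (mz cZ a X) := by
  induction a with
  | zero => rwa [pow_zero, mul_one]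
  | succ a ih =>
    rw [pow_succ, ← mul_assoc, show J4T.mz cZ (a + 1) X = eM.mul (J4T.mz cZ a X) cZ from
      forceN_eq (J4T.mz cZ a X) fun x => eM.mul x cZ]
    exact mul ih J.Rz

variable (J)

theorem ev {t : W} (h : ltW 3 t = true) : J.R (t.ev J.δ) (eM.ev LM IM t false) := by
  have := J.val.ev J.law t
  rwa [ev_congr (δ := J.δ) (n := 3) (fun c hc => by interval_cases c <;> rfl) h] at this

/-- The value of a word in the letters. -/
def kw (w : List ℕ) : G := (w.map J.k).prod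

theorem Rw (w : List ℕ) : J.R (J.kw w) (kC w) := by
  induction w with
  | nil => exact J.one
  | cons i w ih =>
    rw [show kC (i :: w) = eM.mul (cK i) (kC w) from
      (forceN_eq (kC w) fun x => forceN (cK i) fun k => eM.mul k x).trans (forceN_eq (cK i) fun k => eM.mul k (kC w))]
    exact mul (J.Rk i) ih

theorem cdw {w : List ℕ} (h : w.all (· < 8) = true) : J.Cd (J.kw w) (evw w) := by
  induction w with
  | nil => exact Loc.cd_one
  | cons i w ih =>
    rw [List.all_cons, Bool.and_eq_true, decide_eq_true_eq] at h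
    exact evw_cons i w ▸ (J.cd i h.1).mul (ih h.2)

/-- The element with a given matrix. -/
noncomputable def g (C : ℕ) : G := valR J.R C

theorem Rg {C : ℕ} {S : Subgroup G} (h : Gd J.R S C) : J.R (J.g C) C := let ⟨_, _, k⟩ := h; J.law.valR' ⟨_, k⟩
theorem g_mem {C : ℕ} {S : Subgroup G} (h : Gd J.R S C) : J.g C ∈ S := J.law.mem h (J.Rg h)

theorem gd {prog L : List ℕ} (h : eM.slpHas (LM ++ IM) prog L = true) : ∀ C ∈ L, Gd J.R ⊤ C :=
  J.law.slpHas J.val.gd_top h

theorem Λ_ev {t : W} (h : ltW 2 t = true) : J.Λ (t.ev gM) = t.ev J.δ := by rw [W.map_ev, ev_congr J.Λg h]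

theorem v_eq : wV.ev J.δ = J.vv 1618 := eq (J.ev (by decide +kernel)) (J.Rv _ (by decide)) (by decide +kernel)

theorem z_eq : Md.wZ.ev J.δ * wV.ev J.δ * (Md.wZ.ev J.δ)⁻¹ = J.z :=
  cj (J.ev (by decide +kernel)) (J.ev (by decide +kernel)) J.Rz (by decide +kernel)

theorem range_ι : J.ι.range = J.M := by
  have := J.fin
  refine eq_of_le_of_card_ge ?_ (by rw [J.card_M, ← cardH, Nat.card_congr (MonoidHom.ofInjective J.sol.inj).toEquiv])
  rw [MonoidHom.range_eq_map, map_le_iff_le_comap, topH (J.M.comap J.ι) fun c hc => ?_]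
  rw [mem_comap, J.sol.map c hc]
  interval_cases c
  exacts [show J.δ 0 ∈ _ from J.Λg 0 (by decide) ▸ J.ΛM _, show J.δ 1 ∈ _ from J.Λg 1 (by decide) ▸ J.ΛM _,
    J.VM (show wV.ev J.δ ∈ _ from J.v_eq ▸ J.vv_mem (by decide))]

theorem card_z : Nat.card (centralizer {J.z}) = 21799895040 := J.hH ▸ J.card_H
theorem card_w : Nat.card (centralizer {J.cm 3}) = 1816657920 :=
  have := J.fin; have := J.simple; J.card_duad J.hH J.hM
theorem two {j : G} (hj : orderOf j = 2) : IsConj J.z j ∨ IsConj (J.cm 3) j :=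
  have := J.fin; have := J.simple; J.two_classes J.hH J.hM hj
theorem mem_H {g : G} : g ∈ J.H ↔ g * J.z = J.z * g := J.hH ▸ mem_centralizer_singleton_iff

theorem map_z {G' : Type*} [Group G'] (f : G ≃* G') : (J.map f).z = f J.z := rfl
theorem map_k {G' : Type*} [Group G'] (f : G ≃* G') (i : ℕ) : (J.map f).k i = f (J.k i) := rfl

end Mod

end Cfsg.Lib.J4T
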