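import Cfsg.Agent.Lib.J4T.ModB
import Cfsg.Agent.Lib.Big.HomP

/-! # Elements given by straight line programs -/

set_option autoImplicit false

namespace Cfsg.Lib.J4T

open Cfsg.Lib.Calc Cfsg.Lib.F2 Cfsg.Lib.Big Cfsg.Lib.J4 Subgroup

/-- the matrices from which the programs start -/
noncomputable def BASE : List ℕ := LM ++ IM ++ (cZ :: (EB ++ KS)) ++ (sE ++ sO)

/-- A check on the matrices computed by a program. -/
noncomputable def pull (prog ix : List ℕ) (k : (ℕ → ℕ) → Bool) : Bool :=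
  eM.slp BASE prog fun L => k fun i => F2.nth eM.one L (Calc.nth ix i)

namespace Mod

variable {G : Type*} [Group G] (J : Mod G)

theorem gd_BASE : ∀ C ∈ BASE, Big.Gd J.R ⊤ C :=
  gd_append (gd_append J.val.gd_top fun C hC => let ⟨_, _, k⟩ := exD C hC; J.ex (by rwa [Rm] at k)) (J.exL (gd_append gdE gdO))

theorem gdB {prog L : List ℕ} (h : eM.slpHas BASE prog L = true) : ∀ C ∈ L, Big.Gd J.R ⊤ C :=
  J.law.slpHas J.gd_BASE h

theorem Rn {L : List ℕ} {S : Subgroup G} (h : ∀ C ∈ L, Big.Gd J.R S C) (i : ℕ) :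
    J.R (J.g (F2.nth eM.one L i)) (F2.nth eM.one L i) :=
  (nth_mem eM.one L i).elim (fun e => e.symm ▸ J.Rg (S := ⊤) ⟨1, mem_top _, J.one⟩) fun e => J.Rg (h _ e)

theorem pull {prog ix : List ℕ} {k : (ℕ → ℕ) → Bool} (h : pull prog ix k = true) :
    ∃ (g : ℕ → G) (C : ℕ → ℕ), (∀ i, J.R (g i) (C i)) ∧ k C = true :=
  let ⟨_, h1, h2⟩ := J.law.slp J.gd_BASE h
  ⟨_, _, fun _ => J.Rn h1 _, h2⟩

end Mod

end Cfsg.Lib.J4T
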