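import Cfsg.Agent.Lib.J4T.FixP
import Cfsg.Agent.Lib.Big.HomP
import Cfsg.Agent.Lib.Grp.Mat

/-! # Lower bounds for orders of subgroups, with small certificates -/

set_option autoImplicit false
set_option maxRecDepth 100000

namespace Cfsg.Lib.J4T

open Cfsg.Lib.Calc Cfsg.Lib.F2 Cfsg.Lib.Big Cfsg.Lib.J4 Subgroup

/-- all the stages of a chain -/
def allU (f : ℕ → ℕ) (D : List (List ℕ × List ℕ)) : List ℕ := (D.flatMap Prod.snd).map f

/-- the levels of a chain -/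
noncomputable def mkL (f : ℕ → ℕ) (D : List (List ℕ × List ℕ)) : List Big.Lv :=
  List.rec (motive := fun _ => List Big.Lv) [] (fun d D' ih => ⟨⟨1, 1, 1, 0, 1, Calc.nth d.1 0, Calc.nth d.1 1, Calc.nth d.1 2,
    Calc.nth d.1 3, Calc.get (Calc.nth d.1 4) (Calc.nth d.1 5), d.2.map f⟩, [], [], allU f D'⟩ :: ih) D

/-- The group generated by `gens` has at least `n` elements. -/
noncomputable def lowG (gens prog : List ℕ) (D : List (List ℕ × List ℕ)) (n : ℕ) : Bool :=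
  eM.slp gens prog fun L => band (lowOK eM (mkL (F2.nth eM.one L) D) (allU (F2.nth eM.one L) D))
    (Nat.ble n (prodM (mkL (F2.nth eM.one L) D)))

/-- The centraliser of `X` has at least `n` elements. -/
noncomputable def cenG (X : ℕ) (gens prog : List ℕ) (D : List (List ℕ × List ℕ)) (n : ℕ) : Bool :=
  band (allL gens fun C => eM.com C X) (lowG gens prog D n)

variable {G : Type*} [Group G]

theorem card_le_of_surj {S : Subgroup G} {α : Type*} [Finite α] (f : α → G) (h : ∀ g ∈ S, ∃ a, f a = g) :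
    Nat.card S ≤ Nat.card α :=
  (Nat.card_le_card_of_injective (fun g : S => (h g g.2).choose) fun a b e =>
    Subtype.ext (by rw [← (h a a.2).choose_spec, ← (h b b.2).choose_spec]; exact congrArg f e))

theorem inj_of_card {A : Type*} [Group A] [Finite A] (f : A →* G) (h : Nat.card A ≤ Nat.card f.range) :
    Function.Injective f := fun _ _ e =>
  (Nat.bijective_iff_surjective_and_card f.rangeRestrict).2 ⟨f.rangeRestrict_surjective,
    h.antisymm (Nat.card_le_card_of_surjective _ f.rangeRestrict_surjective)⟩ |>.1 (Subtype.ext e)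

namespace Mod

variable {J : Mod G}

theorem lowG {S : Subgroup G} {gens prog : List ℕ} {D : List (List ℕ × List ℕ)} {n : ℕ}
    (hS : ∀ C ∈ gens, Big.Gd J.R S C) (h : lowG gens prog D n = true) : n ≤ Nat.card S := by
  obtain ⟨L, h1, h2⟩ := J.law.slp hS h
  obtain ⟨a, b⟩ := band_eq_true.1 h2
  refine (Nat.le_of_ble_eq_true b).trans (J.low (LowOK.of a) fun C hC => ?_)
  obtain ⟨i, -, rfl⟩ := List.mem_map.1 hC
  exact J.law.gd_nth h1 i

theorem cenG {x : G} {X : ℕ} (hx : J.R x X) {gens prog : List ℕ} {D : List (List ℕ × List ℕ)} {n : ℕ}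
    (hS : ∀ C ∈ gens, ∃ g, J.R g C) (h : cenG X gens prog D n = true) : n ≤ Nat.card (centralizer {x}) :=
  lowG (fun C hC => let ⟨g, r⟩ := hS C hC
    ⟨g, mem_centralizer_singleton_iff.2 (com r hx (allL_iff.1 (band_eq_true.1 h).1 C hC)), r⟩) (band_eq_true.1 h).2

theorem iso_of {A X : Type*} [Group A] [Finite A] [MulAction A X] {n w N : ℕ} {pt : ℕ → X} (hi : Inj n pt)
    (hf : Faithful A n pt) {cs Cs prog ix prog' : List ℕ} {l : List Calc.Lv} {D : List (List ℕ × List ℕ)}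
    (h : ∀ c ∈ cs, ∃ a : A, Rep n w pt a c) (h' : ∀ C ∈ Cs, ∃ g, J.R g C)
    (ok : band (eM.homOK n w cs Cs prog ix l) (J4T.lowG Cs prog' D N) = true) (hN : Nat.card A = N) (hl : N ≤ ordL l) :
    Nonempty (gen J.R Cs ≃* A) ∧ Nat.card (gen J.R Cs) = N := by
  obtain ⟨f, e⟩ := J.law.exists_hom' hi hf h h' (band_eq_true.1 ok).1 (hN ▸ hl)
  have k := (MonoidHom.ofInjective (inj_of_card f (hN ▸ e ▸ lowG (gd_gen h') (band_eq_true.1 ok).2))).symm
  rw [e] at k
  exact ⟨⟨k⟩, hN ▸ Nat.card_congr k.toEquiv⟩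

theorem ex_of {g : ℕ → G} {C : ℕ → ℕ} (h : ∀ i, J.R (g i) (C i)) (l : List ℕ) : ∀ X ∈ l.map C, ∃ x, J.R x X :=
  fun _ hX => let ⟨i, _, e⟩ := List.mem_map.1 hX; ⟨g i, e ▸ h i⟩

theorem gen_le_of {g : ℕ → G} {C : ℕ → ℕ} (h : ∀ i, J.R (g i) (C i)) {l : List ℕ} {S : Subgroup G}
    (k : ∀ i ∈ l, g i ∈ S) : gen J.R (l.map C) ≤ S :=
  J.law.gen_le fun _ hX => let ⟨i, a, e⟩ := List.mem_map.1 hX; ⟨g i, k i a, e ▸ h i⟩

theorem mem_gen_of {g : ℕ → G} {C : ℕ → ℕ} (h : ∀ i, J.R (g i) (C i)) {l : List ℕ} {i : ℕ} (k : i ∈ l) :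
    g i ∈ gen J.R (l.map C) := subset_closure ⟨_, List.mem_map.2 ⟨i, k, rfl⟩, h i⟩

end Mod

end Cfsg.Lib.J4T
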