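import Cfsg.Agent.Lib.J4T.Eleven
import Cfsg.Agent.Lib.Linear.Simple
import Cfsg.Agent.Lib.PGroup.Frattini

/-! # More tools for computing in a group with the coordinates of J₄ -/

set_option autoImplicit false
set_option maxRecDepth 100000

namespace Cfsg.Lib.J4T

open Cfsg.Lib.Calc Cfsg.Lib.F2 Cfsg.Lib.Big Cfsg.Lib.J4 Subgroup Cfsg.Lib.Transfer

/-- the values of a straight line program -/
noncomputable def slpL (L prog : List ℕ) : List ℕ :=
  List.rec (motive := fun _ => List ℕ → List ℕ) id (fun t _ ih L => ih (eM.mul (F2.nth eM.one L (Nat.shiftRight t (nat_lit 10)))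
    (F2.nth eM.one L (Nat.land t (nat_lit 1023))) :: L)) prog L

theorem slp_eq (L prog : List ℕ) (k : List ℕ → Bool) : eM.slp L prog k = k (slpL L prog) := by
  induction prog generalizing L with
  | nil => rfl
  | cons t prog ih => exact (forceB_eq _ fun v => eM.slp (v :: L) prog k).trans (ih _)

/-- selected values of a straight line program -/
noncomputable def pv (L prog ix : List ℕ) (i : ℕ) : ℕ := F2.nth eM.one (slpL L prog) (Calc.nth ix i)

/-- a test of selected values of a straight line program -/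
noncomputable def pullS (L prog ix : List ℕ) (k : (ℕ → ℕ) → Bool) : Bool :=
  Grp.forceL L fun L => eM.slp L prog fun L => k fun i => F2.nth eM.one L (Calc.nth ix i)

theorem pullS_eq (L prog ix : List ℕ) (k : (ℕ → ℕ) → Bool) : pullS L prog ix k = k (pv L prog ix) :=
  (Grp.forceL_eq L _).trans (slp_eq _ _ _)

/-- The group generated by a polycyclic sequence has order `n`. -/
noncomputable def pcG (L : List ℕ) (P : List (ℕ × List ℕ × ℕ × List ℕ)) (prog : List ℕ) (D : List (List ℕ × List ℕ))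
    (n : ℕ) : Bool :=
  band (band (eM.pcOK L P) (Nat.ble ((P.take L.length).map Prod.fst).prod n)) (lowG L prog D n)

variable {G : Type*} [Group G]

theorem cm_closure [Finite G] {N L : Subgroup G} (h : N ≤ normalizer (L : Set G)) {A B : Set G} (hA : A ⊆ N) (hB : B ⊆ N)
    (e : ∀ a ∈ A, ∀ b ∈ B, a * b * a⁻¹ * b⁻¹ ∈ L) : ∀ a ∈ closure A, ∀ b ∈ closure B, a * b * a⁻¹ * b⁻¹ ∈ L := by
  have k : ∀ {A : Set G} {b : G}, A ⊆ N → (∀ a ∈ A, a * b * a⁻¹ * b⁻¹ ∈ L) → ∀ a ∈ closure A, a * b * a⁻¹ * b⁻¹ ∈ L :=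
    fun {A b} hA e a ha => ((closure_le (subOf (fun a => a ∈ N ∧ a * b * a⁻¹ * b⁻¹ ∈ L) ⟨one_mem _, by simp⟩
      fun x y p q => ⟨mul_mem p.1 q.1, by
        simpa [mul_assoc] using mul_mem ((mem_normalizer_iff.1 (h p.1) _).1 q.2) p.2⟩)).2 (fun a ha => ⟨hA ha, e a ha⟩) ha).2
  intro a ha b hb
  simpa [mul_assoc] using inv_mem (k hB (fun b hb => by simpa [mul_assoc] using inv_mem (k hA (fun a ha => e a ha b hb) a ha)) b hb)

theorem card_le_two_pow [Finite G] {L Z : Subgroup G} (h : ∀ x ∈ L, ∀ y ∈ L, x * y * x⁻¹ * y⁻¹ ∈ Z)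
    (sq : ∀ x ∈ L, x * x ∈ Z) (hZ : Z ≤ L) {bs : List G} (hb : ∀ b ∈ bs, b ∈ L) :
    Nat.card ↥(closure {b | b ∈ bs} ⊔ Z) ≤ 2 ^ bs.length * Nat.card Z := by
  induction bs with
  | nil => simp
  | cons b bs ih =>
    have k : closure {b | b ∈ bs} ⊔ Z ≤ L := sup_le ((closure_le _).2 fun x hx => hb x (List.mem_cons_of_mem _ hx)) hZ
    have hb' := hb b List.mem_cons_self
    refine (card_le_of_le ?_).trans ((card_sup_le (x := b) two_pos (mem_sup_right (pow_two b ▸ sq b hb')) fun n hn => by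
      simpa [mul_assoc] using mul_mem (mem_sup_right (h _ (inv_mem hb') _ (k hn))) hn).trans ?_)
    · refine sup_le ((closure_le _).2 fun x hx => ?_) (le_sup_right.trans le_sup_right)
      rcases List.mem_cons.1 hx with rfl | hx
      exacts [mem_sup_left (mem_zpowers _), mem_sup_right (mem_sup_left (subset_closure hx))]
    · rw [List.length_cons, pow_succ', mul_assoc]
      exact Nat.mul_le_mul_left 2 (ih fun x hx => hb x (List.mem_cons_of_mem _ hx))

/-- A 2-group of class two given by generators. -/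
theorem class2 [Finite G] {Z : Subgroup G} {bs : List G} (hz : ∀ b ∈ bs, b ∈ normalizer (Z : Set G))
    (sq : ∀ b ∈ bs, b * b ∈ Z) (cm : ∀ b ∈ bs, ∀ c ∈ bs, b * c * b⁻¹ * c⁻¹ ∈ Z) :
    (∀ x ∈ closure {b | b ∈ bs} ⊔ Z, ∀ y ∈ closure {b | b ∈ bs} ⊔ Z, x * y * x⁻¹ * y⁻¹ ∈ Z) ∧
      (∀ x ∈ closure {b | b ∈ bs} ⊔ Z, x * x ∈ Z) ∧
        Nat.card ↥(closure {b | b ∈ bs} ⊔ Z) ≤ 2 ^ bs.length * Nat.card Z := by
  have e : closure {b | b ∈ bs} ⊔ Z = closure ({b | b ∈ bs} ∪ Z) := by rw [Subgroup.closure_union, closure_eq]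
  have s : {b | b ∈ bs} ∪ (Z : Set G) ⊆ normalizer (Z : Set G) := Set.union_subset hz le_normalizer
  have h1 := cm_closure le_rfl s s (by
    rintro a (ha | ha) b (hb | hb)
    exacts [cm a ha b hb, mul_mem ((mem_normalizer_iff.1 (hz a ha) b).1 hb) (inv_mem hb), by
      simpa [mul_assoc] using mul_mem ha ((mem_normalizer_iff.1 (hz b hb) _).1 (inv_mem ha)),
      mul_mem (mul_mem (mul_mem ha hb) (inv_mem ha)) (inv_mem hb)])
  have h2 : ∀ x ∈ closure ({b | b ∈ bs} ∪ Z), x * x ∈ Z := fun x hx =>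
    ((closure_le (subOf (fun x => x ∈ closure ({b | b ∈ bs} ∪ Z) ∧ x * x ∈ Z) ⟨one_mem _, by simp⟩ fun x y p q =>
      ⟨mul_mem p.1 q.1, by simpa [mul_assoc] using mul_mem (mul_mem p.2 (h1 _ (inv_mem p.1) _ q.1)) q.2⟩)).2
      (fun a ha => ⟨subset_closure ha, ha.elim (sq a) fun h => mul_mem h h⟩) hx).2
  rw [← e] at h1 h2
  exact ⟨h1, h2, card_le_two_pow h1 h2 le_sup_right fun b hb => mem_sup_left (subset_closure hb)⟩

theorem le_ncard_cl [Finite G] {S : Subgroup G} {t x : G} {p r e : ℕ} (ht : t ∈ S) (h : t * x * t⁻¹ = x ^ r)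
    (ho : orderOf x = p) (hn : ∀ i < e, ∀ j < e, r ^ i % p = r ^ j % p → i = j) : e ≤ (Grp.cl S x).ncard := by
  have k : ∀ i, t ^ i * x * (t ^ i)⁻¹ = x ^ r ^ i := fun i => by
    induction i with
    | zero => simp
    | succ i ih => rw [pow_succ' t, show t * t ^ i * x * (t * t ^ i)⁻¹ = t * (t ^ i * x * (t ^ i)⁻¹) * t⁻¹ by group, ih,
        ← conj_pow, h, ← pow_mul, pow_succ']
  rw [← Set.ncard_Iio_nat e]
  exact Set.ncard_le_ncard_of_injOn (fun i => x ^ r ^ i) (fun i _ => ⟨_, pow_mem ht i, k i⟩)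
    fun i hi j hj e => hn i hi j hj (ho ▸ pow_eq_pow_iff_modEq.1 e)

theorem card_cen_le_of [Finite G] {S : Subgroup G} {t x : G} {p r e n : ℕ} (ht : t ∈ S) (h : t * x * t⁻¹ = x ^ r)
    (ho : orderOf x = p) (hn : ∀ i < e, ∀ j < e, r ^ i % p = r ^ j % p → i = j) (he : 0 < e) (hS : Nat.card S ≤ e * n) :
    Nat.card ↥(S ⊓ centralizer {x}) ≤ n :=
  Nat.le_of_mul_le_mul_left (((Nat.mul_le_mul_right _ (le_ncard_cl ht h ho hn)).trans (Grp.ncard_cl_mul S x).le).trans hS) he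

theorem card_sup_comm [Finite G] {A B : Subgroup G} (h : ∀ a ∈ A, ∀ b ∈ B, a * b = b * a) (e : A ⊓ B = ⊥) :
    Nat.card ↥(A ⊔ B) = Nat.card A * Nat.card B := by
  have c : ∀ (a : A) (b : B), Commute (A.subtype a) (B.subtype b) := fun a b => h a a.2 b b.2
  have k : (A.subtype.noncommCoprod B.subtype c).range = A ⊔ B := by
    rw [MonoidHom.noncommCoprod_range, range_subtype, range_subtype]
  rw [← k, ← Nat.card_prod]
  exact (Nat.card_congr (MonoidHom.ofInjective ((MonoidHom.noncommCoprod_injective _ _ _).2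
    ⟨subtype_injective _, subtype_injective _, by rwa [range_subtype, range_subtype, disjoint_iff]⟩)).toEquiv).symm

theorem card_SL_F2 (n : ℕ) : Nat.card (Matrix.SpecialLinearGroup (Fin (n + 1)) (ZMod 2)) =
    ∏ i : Fin (n + 1), (2 ^ (n + 1) - 2 ^ (i : ℕ)) := by
  have := Linear.card_SL_mul (ι := Fin (n + 1)) (F := ZMod 2)
  rwa [Matrix.card_GL_field, ZMod.card, show 2 - 1 = 1 from rfl, one_mul] at this

theorem inj_SL_F2 {n : ℕ} (f : Matrix.SpecialLinearGroup (Fin (n + 3)) (ZMod 2) →* G) (h : ∃ a, f a ≠ 1) :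
    Function.Injective f := by
  rcases Linear.normal_SL_le_center_or_eq_top (Or.inl (by simp)) f.ker with k | k
  · refine (injective_iff_map_eq_one f).2 fun a ha => ?_
    obtain ⟨r, h1, h2⟩ := Matrix.SpecialLinearGroup.mem_center_iff.1 (k ha)
    obtain rfl : r = 1 := (by decide : ∀ r : ZMod 2, r ≠ 0 → r = 1) r fun e => by simp [e] at h1
    exact Subtype.ext (h2.symm.trans (map_one _))
  · exact absurd (k.ge (mem_top _)) h.choose_spec

namespace Mod

variable {J : Mod G}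

theorem pv_spec {S : Subgroup G} {L : List ℕ} (h : ∀ C ∈ L, Big.Gd J.R S C) (prog ix : List ℕ) (i : ℕ) :
    J.g (pv L prog ix i) ∈ S ∧ J.R (J.g (pv L prog ix i)) (pv L prog ix i) := by
  have k : ∀ C ∈ slpL L prog, Big.Gd J.R S C := by
    induction prog generalizing L with
    | nil => exact h
    | cons t prog ih =>
      obtain ⟨a, a1, a2⟩ := J.law.gd_nth h (Nat.shiftRight t (nat_lit 10))
      obtain ⟨b, b1, b2⟩ := J.law.gd_nth h (Nat.land t (nat_lit 1023))
      exact ih (List.forall_mem_cons.2 ⟨⟨_, mul_mem a1 b1, mul a2 b2⟩, h⟩)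
  exact ⟨J.g_mem (J.law.gd_nth k _), J.Rg (J.law.gd_nth k _)⟩

theorem g_map {G' : Type*} [Group G'] (f : G ≃* G') {g : G} {C : ℕ} (h : J.R g C) : (J.map f).g C = f g :=
  (J.map f).law.valR (show J.R (f.symm (f g)) C by rwa [f.symm_apply_apply])

theorem pcG {L : List ℕ} {P : List (ℕ × List ℕ × ℕ × List ℕ)} {prog : List ℕ} {D : List (List ℕ × List ℕ)} {n : ℕ}
    (h : ∀ C ∈ L, ∃ g, J.R g C) (e : pcG L P prog D n = true) : Nat.card (gen J.R L) = n :=
  have := J.fin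
  ((J.law.pc_le h (band_eq_true.1 (band_eq_true.1 e).1).1).trans
    (Nat.le_of_ble_eq_true (band_eq_true.1 (band_eq_true.1 e).1).2)).antisymm (lowG (gd_gen h) (band_eq_true.1 e).2)

theorem gd_map {g : ℕ → G} {C : ℕ → ℕ} (h : ∀ i, J.R (g i) (C i)) {l : List ℕ} {S : Subgroup G}
    (k : ∀ i ∈ l, g i ∈ S) : ∀ X ∈ l.map C, Big.Gd J.R S X :=
  fun _ hX => let ⟨i, a, e⟩ := List.mem_map.1 hX; ⟨g i, k i a, e ▸ h i⟩

include J in
/-- Elements of prime order are conjugate into a given subgroup of that order. -/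
theorem conj_Q {p : ℕ} [Fact p.Prime] (h : ¬p ^ 2 ∣ 86775571046077562880) {x : G} (hx : orderOf x = p) {Q : Subgroup G}
    (hQ : Nat.card Q = p) : ∃ g, Q = zpowers (g * x * g⁻¹) := by
  have := J.fin
  obtain ⟨g, -, e⟩ := conj_of_card (p := p) (n := 1) (le_top : Q ≤ ⊤) (by rwa [pow_one]) (by rwa [card_top, J.card])
    (le_top : zpowers x ≤ ⊤) (by rw [Nat.card_zpowers, hx, pow_one])
  exact ⟨g, e.symm.trans (conj_zpowers g x)⟩

end Mod

end Cfsg.Lib.J4T
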