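import Cfsg.Agent.Lib.J4T.ModB
import Cfsg.Agent.Lib.J4T.U

/-! # A group of type J₄ has all the coordinates -/

set_option autoImplicit false

namespace Cfsg.Lib.J4T

open Cfsg.Lib.Calc Cfsg.Lib.F2 Cfsg.Lib.Mathieu Cfsg.Lib.Big Cfsg.Lib.J4 Subgroup Cfsg.Lib.Transfer
open scoped Pointwise

variable {G : Type*} [Group G] [Finite G] [IsSimpleGroup G]

theorem exists_mod {z : G} {P : Subgroup G} (h : IsOfJankoFourTypeWith z P) :
    ∃ J : Mod G, J.z = z ∧ zpowers (J.k 6) = P := by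
  obtain ⟨Γ, rfl, hH, hM, -, -, p, hp, rfl⟩ := glob_of_type h
  obtain ⟨⟨e⟩, -⟩ := Γ.iso hH hM
  obtain ⟨J, h1⟩ : ∃ J : Mod G, J.z = Γ.z := by
    let J := modJ.map e.symm
    obtain ⟨g, hg⟩ := isConj_iff.1 ((J.two Γ.ord).resolve_right fun k => by
      obtain ⟨g, hg⟩ := isConj_iff.1 k
      have := (Grp.cj_cen (k := g) (x := J.cm 3)).card
      rw [hg, ← hH, Γ.card_H, J.card_w] at this
      omega)
    exact ⟨J.map (MulAut.conj g), hg⟩
  have h2 : Γ.H = J.H := by rw [hH, J.hH, h1]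
  have h3 : Nat.card (zpowers p) = 3 := h.2.2.2.2.2.1
  let N := J.φh.ker.map J.H.subtype
  have h4 : Nat.card N = 2 ^ 13 * 3 := (card_map_of_injective (subtype_injective _)).trans J.card_ker
  have h5 := (J.cd 6 (by decide)).memH
  obtain ⟨g, ⟨g, -, rfl⟩, k⟩ := conj_of_card (p := 3) (n := 1) (N := N) (P := zpowers p) (Q := zpowers (J.k 6))
    (zpowers_le.2 ⟨⟨_, h2.le hp.memH⟩, Γ.φ_eq_one _ h2 hp.memH (Loc.cube hp), rfl⟩) h3 (by rw [h4]; norm_num)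
    (zpowers_le.2 ⟨⟨_, h5⟩, Loc.cube (J.cd 6 (by decide)), rfl⟩) (by rw [Nat.card_zpowers, J.k6, pow_one])
  exact ⟨J.map (MulAut.conj g), (mul_inv_eq_iff_eq_mul.2 (J.comm g.2)).trans h1, (conj_zpowers _ _).symm.trans k⟩

theorem exists_mod_at {z : G} (h : IsOfJankoFourTypeAt z) : ∃ J : Mod G, J.z = z :=
  let ⟨_, h⟩ := h; let ⟨J, k, _⟩ := exists_mod h; ⟨J, k⟩

theorem nonempty_mod (h : IsOfJankoFourType G) : Nonempty (Mod G) :=
  let ⟨_, h⟩ := h; let ⟨J, _⟩ := exists_mod_at h; ⟨J⟩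

end Cfsg.Lib.J4T
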