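import Cfsg.Agent.Lib.J4T.NlA
import Cfsg.Agent.Lib.J4T.NlB
import Cfsg.Agent.Lib.J4T.NlC

/-! # Maximal subgroups of J₄ that are not local -/

set_option autoImplicit false
set_option maxRecDepth 100000

namespace Cfsg.Lib.J4T

open Cfsg.Lib.Calc Cfsg.Lib.F2 Cfsg.Lib.Mathieu Cfsg.Lib.Big Cfsg.Lib.J4 Subgroup Cfsg.Lib.Transfer Cfsg.Lib.PSL2
open scoped MatrixGroups

variable {G : Type*} [Group G]

theorem inj_of_du (f : Du →* G) (h : 11 ∣ Nat.card f.range) : Function.Injective f := by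
  have hn : ∀ a ∈ m22, ∀ x ∈ f.ker.map Du.subtype, a * x * a⁻¹ ∈ f.ker.map Du.subtype :=
    fun a ha x ⟨b, hb, e⟩ => ⟨_, f.normal_ker.conj_mem b hb ⟨a, Rd.le_Du ha⟩, e ▸ rfl⟩
  have h1 := (le_or_bot hn).resolve_right fun e => by
    have k := f.ker.card_mul_index
    rw [index_ker, Rd.card_Du, ← card_map_of_injective Du.subtype_injective] at k
    exact absurd (k ▸ Nat.mul_dvd_mul (card22 ▸ card_dvd_of_le e) h) (by decide)
  refine (injective_iff_map_eq_one f).2 fun g hg => Subtype.ext (Rd.cent22 g.2 fun x hx => ?_)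
  have h2 : g * x * g⁻¹ ∈ m22 := (normal_of_index_eq_two Rd.idx).conj_mem ⟨x, m22_le_Du hx⟩ hx g
  have h3 : g * x * g⁻¹ * x⁻¹ ∈ f.ker.map Du.subtype ⊓ m22 := ⟨by
    rw [mul_assoc, mul_assoc, ← mul_assoc x]
    exact mul_mem (mem_map_of_mem _ hg) (hn x hx _ (mem_map_of_mem _ (inv_mem hg))), mul_mem h2 (m22.inv_mem hx)⟩
  exact mul_inv_eq_iff_eq_mul.1 (mul_inv_eq_one.1 (mem_bot.1 (h1 ▸ h3)))

theorem pv_qN (C : ℕ → ℕ) : pv ([0, 1].map C) qN ixN 3 = C 0 := by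
  simp only [pv, qN, slpL]
  rfl

theorem pull_eq (prog ix : List ℕ) (k : (ℕ → ℕ) → Bool) : pull prog ix k = k (pv BASE prog ix) := slp_eq _ _ _

theorem rep_du {c : ℕ} (h : band (okM c) (Nat.beq (img c 8388609) 8388609) = true) :
    ∃ a : Du, Rep 24 5 Golay.G.pt a c :=
  have k := mk_rep (band_eq_true.1 h).1
  ⟨⟨_, (k.mem_stab_set (by decide)).2 (beq_iff.1 (band_eq_true.1 h).2)⟩, k⟩

namespace Mod

variable (J : Mod G)
include J

theorem nc {p e : ℕ} (h : (p, e) ∈ tb) (he : e < p) {Z : Subgroup G} {x : G} (a : x ∈ Z) (b : orderOf x = p) :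
    Nat.card ↥(Z ⊓ normalizer (zpowers x : Set G)) = p * (Nat.card Z / p % p) := by
  have := J.fin
  obtain ⟨hp, h2, h3⟩ := J.tb_spec _ h
  have := Fact.mk hp
  obtain ⟨m, c⟩ := b ▸ orderOf_dvd_natCard _ a
  obtain ⟨d, h4, h5⟩ := norm_card1 a b c fun k => h2 (((sq p).symm ▸ c ▸ Nat.mul_dvd_mul_left p k).trans (J.dvd_G Z))
  have h6 := card_le_of_le (inf_le_right : Z ⊓ normalizer (zpowers x : Set G) ≤ _)
  rw [h4, h3 x b] at h6
  rw [c, Nat.mul_div_cancel_left _ hp.pos, h4, ← h5,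
    Nat.mod_eq_of_lt ((Nat.le_of_mul_le_mul_left h6 hp.pos).trans_lt he)]

theorem up {p e : ℕ} (h : (p, e) ∈ tb) (he : e < p) {X Y : Subgroup G} (hX : Y ≤ X) (hY : p ∣ Nat.card Y) :
    Nat.card Y / p % p ∣ Nat.card X / p % p :=
  have := J.fin
  have hp := (J.tb_spec _ h).1
  let ⟨_, a, b⟩ := exists_ord hp hY
  Nat.dvd_of_mul_dvd_mul_left hp.pos (J.nc h he a b ▸ J.nc h he (hX a) b ▸ card_dvd_of_le (inf_le_inf_right _ hX))

theorem mx {p e : ℕ} (h : (p, e) ∈ tb) (he : e < p)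
    (hm : ∃ x : G, orderOf x = p ∧ IsCoatom (normalizer (zpowers x : Set G))) {X : Subgroup G} (t : X ≠ ⊤)
    (k : p ∣ Nat.card X) (k' : Nat.card X / p % p = e) : Nat.card X = p * e := by
  have := J.fin
  obtain ⟨hp, h2, h3⟩ := J.tb_spec _ h
  have := Fact.mk hp
  obtain ⟨y, c, d⟩ := hm
  obtain ⟨x, a, b⟩ := exists_ord hp k
  obtain ⟨g, f⟩ := J.conj_Q h2 c ((Nat.card_zpowers x).trans b)
  have h4 := coatom_conj d g
  rw [conj_normalizer, conj_zpowers, ← f] at h4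
  have h5 := eq_of_le_of_card_ge (inf_le_right : X ⊓ normalizer (zpowers x : Set G) ≤ _)
    (by rw [J.nc h he a b, k', h3 x b])
  rw [(h4.le_iff.1 (inf_eq_right.1 h5)).resolve_left t, h3 x b]

theorem top2 {y : ℕ} {p q : ℕ × List ℕ} (e : band (noB (y * (exB p.2 1 - 1) * (exB q.2 1 - 1)) fun _ => true)
      (!band true (okB (y * (exB p.2 1 - 1) * (exB q.2 1 - 1)))) = true)
    (h1 : y.Coprime (exB p.2 1 - 1)) (h2 : (y * (exB p.2 1 - 1)).Coprime (exB q.2 1 - 1)) {X Y : Subgroup G}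
    (c : Nat.card Y = y) (k : Y ≤ X) (t : X ≠ ⊤) : ¬∀ s ∈ [p, q], exB s.2 1 - 1 ∣ Nat.card X := fun a =>
  t (J.two_top e h1 h2 (c ▸ card_dvd_of_le k) (a _ List.mem_cons_self) (a _ (List.mem_cons_of_mem _ List.mem_cons_self)))

theorem top1 {y : ℕ} {p : ℕ × List ℕ} (e : band (noB (y * (exB p.2 1 - 1)) fun _ => true)
      (!band true (okB (y * (exB p.2 1 - 1)))) = true) (h1 : y.Coprime (exB p.2 1 - 1)) {X Y : Subgroup G}
    (c : Nat.card Y = y) (k : Y ≤ X) (t : X ≠ ⊤) : ¬∀ s ∈ [p], exB s.2 1 - 1 ∣ Nat.card X := fun a =>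
  t (J.top e (h1.mul_dvd_of_dvd_of_dvd (c ▸ card_dvd_of_le k) (a _ List.mem_cons_self)) rfl)

theorem card_N27 {U : Subgroup G} (h : Nat.card U = 3 ^ 3) : Nat.card (normalizer (U : Set G)) = 864 := by
  have := J.fin
  obtain ⟨g, -, rfl⟩ := conj_of_card (le_top : U ≤ ⊤) h (by rw [card_top, J.card]; norm_num) le_top J.heis_R0.card
  rw [← conj_normalizer, card_conj, J.card_norm_R0]

theorem exg {S : Subgroup G} {L : List ℕ} (h : ∀ C ∈ L, Big.Gd J.R S C) (prog ix : List ℕ) :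
    ∃ g : ℕ → G, (∀ i, g i ∈ S) ∧ ∀ i, J.R (g i) (pv L prog ix i) :=
  ⟨_, fun i => (pv_spec h prog ix i).1, fun i => (pv_spec h prog ix i).2⟩

theorem norm2 {T : List ℕ} {a b : G} {A B : ℕ} {p q : List ℕ × List ℕ} (hT : ∀ C ∈ T, ∃ g, J.R g C) (x : J.R a A)
    (y : J.R b B) (e : eM.normOK T [(A, p), (B, q)] = true) :
    a ∈ normalizer (gen J.R T : Set G) ∧ b ∈ normalizer (gen J.R T : Set G) :=
  have := J.fin
  have n := J.law.normOK hT (List.forall_mem_cons.2 ⟨⟨a, x⟩, List.forall_mem_singleton.2 ⟨b, y⟩⟩) e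
  ⟨J.law.mem (n _ List.mem_cons_self) x, J.law.mem (n _ (List.mem_cons_of_mem _ List.mem_cons_self)) y⟩

theorem nlU : ∃ M : Subgroup G, IsCoatom M ∧ ∃ (K : Subgroup M) (F : Type) (_ : Field F) (_ : Fintype F),
    Fintype.card F = 121 ∧ K.Normal ∧ K.index = 2 ∧ Nonempty (K ≃* PSU 3 F 11) := by
  have := J.fin
  have e := kU
  simp only [pullS_eq, Grp.forceL_eq, band_eq_true, Bool.not_eq_true'] at e
  obtain ⟨⟨⟨e1, e2⟩, e3, e4⟩, e5, ⟨e6, e7⟩, e8, e9⟩ := e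
  obtain ⟨g, -, r⟩ := J.exg J.gd_BASE qU ixU
  have hT := ex_of r [0, 1, 2]
  have c := pcG hT e4
  have n := J.norm2 hT (r 3) (r 5) e5
  obtain ⟨H, o, p, f⟩ := rk hT (r 3) (r 4) c n.1 (by decide) (by decide) (by decide) e1 e2
  obtain ⟨F, _, _, a, ⟨i⟩⟩ := H.psuK (pf hT (r 3) (r 4) p e3) f (p := 11) (d := 3) (by norm_num) (by decide) c
    (by decide) (by decide) (by rw [o]; rfl)
  obtain ⟨s1, s2⟩ := H.ext n.2 (mem_norm_zp (nrm (r 3) (r 5) e7)) (com (r 5) (r 4) e8) (ncom (r 5) (r 3) e9)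
  obtain ⟨k1, k2, k3⟩ := ext_index Nat.prime_two s1 (pw_eq (r 5) e6) s2
  rw [H.cardK, c, o] at k3
  refine ⟨_, J.coatom (c := fun n => band (Nat.beq (n / 11 ^ 3 % 11 ^ 3 % 80) 0) (band (!Nat.beq (n / 37 % 37) 12)
    (bor (blt 0 (n % 43)) (!Nat.beq (n / 43 % 43) 14)))) (by decide +kernel) k3 (by decide) fun X h t => ?_,
    _, F, _, _, a, k1, k2, ⟨(subgroupOfEquivOfLe le_sup_right).trans i⟩⟩
  have d := k3 ▸ card_dvd_of_le h
  simp only [band_eq_true, bor_eq_true, beq_iff, blt_iff, Nat.pos_iff_ne_zero, Ne, ← Nat.dvd_iff_mod_eq_zero,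
    Bool.not_eq_true', ← Bool.not_eq_true, ← imp_iff_not_or]
  refine ⟨?_, fun b => absurd (J.mx (by decide) (by decide) J.max37 t (Dvd.dvd.trans (by decide) d) b ▸ d) (by decide),
    fun b b' => absurd (J.mx (by decide) (by decide) J.max43 t b b' ▸ d) (by decide)⟩
  have u := fun {s} => (le_sup_left.trans le_sup_left).trans
    (le_sup_right : gen J.R ([0, 1, 2].map (pv BASE qU ixU)) ⊔ zpowers (g 3) ⊔ zpowers (g 4) ≤ s ⊔ _)
  obtain ⟨m, e⟩ := c ▸ card_dvd_of_le (u.trans h)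
  obtain ⟨x, x1, x2, x3⟩ := J.ti (k := 2) (m := 106560) u c k3 (by decide)
  obtain ⟨y, y1, y2, y3⟩ := J.ti (k := 2) (u.trans h) c e fun a =>
    absurd ((Nat.mul_dvd_mul_left _ a).trans (e ▸ J.dvd_G X)) (by decide)
  have x4 := Nat.le_of_dvd (by decide) x3
  have y4 := Nat.le_of_dvd (by decide) y3
  rw [e, show 1331 * m / 11 ^ 3 % 11 ^ 3 = y by omega, ← show x = 80 by omega]
  exact Nat.dvd_of_mul_dvd_mul_left (by decide) (x1 ▸ y1 ▸ card_dvd_of_le (inf_le_inf_right _ h))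

theorem nlL : ∃ M : Subgroup G, IsCoatom M ∧ ∃ (K : Subgroup M) (F : Type) (_ : Field F) (_ : Fintype F),
    Fintype.card F = 32 ∧ K.Normal ∧ K.index = 5 ∧ Nonempty (K ≃* PSL(2, F)) := by
  have := J.fin
  have : Fact (Nat.Prime 5) := ⟨Nat.prime_five⟩
  have e := kL
  simp only [pullS_eq, Grp.forceL_eq, band_eq_true, Bool.not_eq_true', allL_iff, List.forall_mem_map] at e
  obtain ⟨⟨⟨⟨e1, e2⟩, e4⟩, e5, ⟨e6, e7⟩, e8, e9, f1⟩, f2, f3⟩ := e
  obtain ⟨g, -, r⟩ := J.exg J.gd_BASE qL ixL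
  have hT := ex_of r [0, 1, 2, 3, 4]
  have c := pcG hT e4
  have n := J.norm2 hT (r 5) (r 7) e5
  obtain ⟨H, o, p, f⟩ := rk hT (r 5) (r 6) c n.1 (by decide) (by decide) (by decide) e1 e2
  obtain ⟨F, _, _, a, ⟨i⟩⟩ := H.pslK f c o
  have m := fun j hj => mem_centralizer_singleton_iff.2 (com (r j) (r 7) (e8 j hj))
  have o' := ordp (r 7) Nat.prime_five e6
  obtain ⟨s1, s2⟩ := H.ext n.2 (mem_norm_zp (nrm (r 5) (r 7) e7))
    (mem_centralizer_singleton_iff.1 (m 6 (by decide))).symm (ncom (r 7) (r 5) e9)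
  obtain ⟨k1, k2, k3⟩ := ext_index Nat.prime_five s1 (o' ▸ pow_orderOf_eq_one _) s2
  rw [H.cardK, c, o] at k3
  refine ⟨_, J.coatom (c := fun n => band (Nat.beq (n / 31 % 31 % 10) 0) (band (Nat.beq (n / 5 % 5) (32736 % 5))
    (blt 0 (n % 3 ^ 3)))) (by decide +kernel) k3 (by decide) fun X h t => ?_,
    _, F, _, _, a, k1, k2, ⟨(subgroupOfEquivOfLe le_sup_right).trans i⟩⟩
  generalize hY : zpowers (g 7) ⊔ _ = Y at h k3
  have y : ∀ j ∈ [0, 5, 6, 7], g j ∈ Y := by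
    simpa using ⟨hY ▸ mem_sup_right (mem_sup_left (mem_sup_left (mem_gen_of r (by decide)))),
      hY ▸ mem_sup_right (mem_sup_left (mem_sup_right (mem_zpowers _))),
      hY ▸ mem_sup_right (mem_sup_right (mem_zpowers _)), hY ▸ mem_sup_left (mem_zpowers _)⟩
  have n' := fun j hj => centralizer_le_normalizer _ (cen_zpowers (g 7) ▸ m j hj)
  have u := gd_map r (l := [7, 6, 0]) fun j hj => mem_inf.2 ⟨n' j hj, mem_inf.2 ⟨y j (by revert j; decide), m j hj⟩⟩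
  have k := grow (inf_le_left.trans h) (by simp [exB]; norm_num) (J.top1 (by decide +kernel) (by decide) k3 h t)
    (gd_map r (by simpa using ⟨n' 7 (by decide), n' 6 (by decide), n' 0 (by decide), mem_norm_zp (nrm (r 7) (r 8) f1)⟩))
    (gd_map r fun j hj => h (y j hj)) u u
    (topAll f2) (band_eq_true.2 f3) (J.card_N (e := 5376) (by decide) o').le
  simp only [band_eq_true, beq_iff, blt_iff, Nat.pos_iff_ne_zero, Ne, ← Nat.dvd_iff_mod_eq_zero]
  refine ⟨by simpa [k3] using J.up (e := 10) (by decide) (by decide) h (k3 ▸ by decide),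
    idx1 Nat.prime_five (y 7 (by decide)) o' k3 (by decide) h (k.trans inf_le_left), fun a => ?_⟩
  obtain ⟨Q, h3⟩ := Sylow.exists_subgroup_card_pow_prime (G := X) 3 a
  replace h3 := (card_map_of_injective X.subtype_injective).trans h3
  exact absurd ((bf (q := 5) (a := 1) (by decide) (zpowers_le.2 (h (y 7 (by decide)))) (by rw [Nat.card_zpowers, o', pow_one])
    (fun a => absurd (a.trans (J.dvd_G X)) (by decide)) (cen_zpowers (G := G) _ ▸ k.trans inf_le_right) (map_subtype_le Q) h3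
    fun a => absurd (a.trans (J.dvd_G X)) (by decide)).trans (J.card_N27 h3 ▸ card_dvd_of_le inf_le_right)) (by decide)

theorem nlV : ∃ M : Subgroup G, IsCoatom M ∧ ∃ (F : Type) (_ : Field F) (_ : Fintype F),
    Fintype.card F = 9 ∧ Nonempty (M ≃* PSU 3 F 3) := by
  have := J.fin
  have e := kV
  have e' := k8a
  have t8b := (pullS_eq _ _ _ _).symm.trans k8b
  simp only [pullS_eq, Grp.forceL_eq, band_eq_true, slp_eq, allL_iff, t8] at e e' t8b
  obtain ⟨⟨⟨⟨e1, e2⟩, e3, e4⟩, e5, e6, e7⟩, ⟨⟨e8, e9, f1⟩, f2, f3⟩, f4, f5, f6⟩ := e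
  obtain ⟨t8a, ⟨⟨f7, f8⟩, f9, g1⟩, ⟨g2, g3⟩, g4⟩ := e'
  obtain ⟨g, -, r⟩ := J.exg J.gd_BASE qV ixV
  have hT := ex_of r [0, 1, 2]
  have c := pcG hT e4
  have n := J.norm2 hT (r 3) (r 6) e5
  obtain ⟨H, o, p, f⟩ := rk hT (r 3) (r 4) c n.1 (by decide) (by decide) (by decide) e1 e2
  have k3 := H.cardK
  rw [c, o] at k3
  refine ⟨_, J.coatom (c := fun n => band (Nat.beq (n / 7 % 7) (864 % 7)) (band (Nat.beq (n / 3 ^ 3 % 3) (224 % 3))
    (Nat.beq (n / 2 ^ 5 % 2) (189 % 2)))) (by decide +kernel) k3 (by decide) fun X h t => ?_,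
    H.psuK (pf hT (r 3) (r 4) p e3) f (p := 3) (d := 1) (by norm_num) (by decide) c (by decide) (by decide) (by rw [o]; rfl)⟩
  generalize hU : gen J.R _ = U at h k3 n c H
  have u : ∀ j ∈ [0, 1], g j ∈ U := fun j hj => hU ▸ mem_gen_of r (by revert j; decide)
  generalize hY : U ⊔ _ ⊔ _ = Y at h k3
  have u' : U ≤ Y := hY ▸ le_sup_left.trans le_sup_left
  have y : ∀ j ∈ [0, 1, 3, 4], g j ∈ Y := by
    simpa using ⟨u' (u 0 (by decide)), u' (u 1 (by decide)), hY ▸ mem_sup_left (mem_sup_right (mem_zpowers _)),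
      hY ▸ mem_sup_right (mem_zpowers _)⟩
  obtain ⟨s, s1, s2⟩ := J.exg (gd_map r y) qW ixW
  have tp := J.top2 (p := (2, [1, 0, 0, 0])) (q := (4, [0, 0, 1, 1, 0])) (by decide +kernel) (by decide) (by decide) k3 h t
  have yX := gd_map r fun j hj => h (y j hj)
  have o7 := ordp (s2 0) Nat.prime_seven e8
  have n7 := mem_norm_zp (nrm (s2 0) (r 0) e9)
  have m7 := gd_append (gd_map s2 (l := [0]) (List.forall_mem_singleton.2 (mem_inf.2 ⟨le_normalizer (mem_zpowers _), s1 0⟩)))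
    (gd_map r (l := [0]) (List.forall_mem_singleton.2 (mem_inf.2 ⟨n7, y 0 (by decide)⟩)))
  have m3 := gd_map r (l := [0, 1, 3]) (S := normalizer (U : Set G) ⊓ Y) (by
    simpa using ⟨⟨le_normalizer (u 0 (by decide)), y 0 (by decide)⟩, ⟨le_normalizer (u 1 (by decide)), y 1 (by decide)⟩,
      n.1, y 3 (by decide)⟩)
  have m8 := gd_map r (l := [3, 4]) (S := normalizer (zpowers (g 3) : Set G) ⊓ Y) (by
    simpa using ⟨⟨le_normalizer (mem_zpowers _), y 3 (by decide)⟩, H.nw, y 4 (by decide)⟩)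
  have k8 := grow h (by simp [exB]; norm_num) tp (gd_map r (by simpa using ⟨le_normalizer (mem_zpowers _), H.nw,
    mem_norm_zp (nrm (r 3) (r 7) g2), mem_norm_zp (nrm (r 3) (r 8) g3)⟩)) yX m8 m8
    (List.forall_mem_append.2 ⟨topAll t8a, topAll t8b⟩) (band_eq_true.2 g4) (J.norm8 (eq (pw (r 3) 4) J.Rz f7) (by
      rw [← eq (J.Rh _ _ _) (r 3) f8, Ne, (J.φ_h _ (by decide) _).eq_one_iff]; decide +kernel)
      (ordp (r 9) Nat.prime_five f9) (com (r 9) (r 3) g1)).2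
  have hP : ∀ C ∈ [pv ([0, 1, 3, 4].map (pv BASE qV ixV)) qW ixW 1, pv BASE qV ixV 4, pv BASE qV ixV 3], Big.Gd J.R Y C := by
    simpa using ⟨⟨_, s1 1, s2 1⟩, ⟨_, y 4 (by decide), r 4⟩, _, y 3 (by decide), r 3⟩
  have cP := pcG (gd_ex hP) f4
  have gP := gd_gen (gd_ex hP)
  refine band_eq_true.2 ⟨beq_iff.2 (idx1 Nat.prime_seven (s1 0) o7 k3 (by decide) h (grow h (by simp [exB]; norm_num) tp
    (gd_append (gd_map s2 (List.forall_mem_singleton.2 (le_normalizer (mem_zpowers _))))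
      (gd_map r (by simpa using ⟨n7, mem_norm_zp (nrm (s2 0) (r 5) f1)⟩))) yX m7 m7 (topAll f2) (band_eq_true.2 f3)
      (J.card_N (e := 360) (by decide) o7).le)), band_eq_true.2 ⟨beq_iff.2 (idx u' c k3 (by decide) h
    (grow h (by simp [exB]; norm_num) tp (gd_map r (by
      simpa using ⟨le_normalizer (u 0 (by decide)), le_normalizer (u 1 (by decide)), n⟩)) yX m3 m3 (topAll e6)
      (band_eq_true.2 e7) (J.card_N27 c).le)), beq_iff.2 (idx (J.law.gen_le hP) cP k3 (by decide) h fun a ha => ?_)⟩⟩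
  have h3 := J.law.mem (gP _ (by simp)) (r 3)
  rcases cover (P := fun a => a ^ 4 = 1 ∨ ∃ k ∈ Y, k * a * k⁻¹ ∈ zpowers (g 3)) gP (Or.inl (one_pow _)) (by simp)
    (fun i hi b hb => by
      have k := f5 i hi
      simp only [p8OK, forceB_eq, bor_eq_true] at k
      refine k.imp (pw_eq hb) fun k => ?_
      obtain ⟨x, x1, x2⟩ := gd_nx (gd_slpL hP _) i 2
      obtain ⟨z, z1, z2⟩ := gd_nx (gd_slpL (gd_one (mem_zpowers _) (r 3)) _) i 3
      exact ⟨x, x1, cj x2 hb z2 k ▸ z1⟩) f6 cP.le _ ((mem_normalizer_iff.1 ha.2 _).1 h3) with k | ⟨k, k1, k2⟩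
  · rw [conj_pow, conj_eq_one_iff, ← orderOf_dvd_iff_pow_eq_one, o] at k
    exact absurd k (by decide)
  · obtain ⟨j, k2⟩ := mem_powers_iff_mem_zpowers.2 k2
    exact (mul_mem_cancel_left k1).1 (k8 ⟨mul_mem (h k1) ha.1, mem_norm_zp (n := j) (by
      rw [mul_inv_rev, mul_assoc k, mul_assoc k, ← mul_assoc _ a⁻¹, ← mul_assoc k]; exact k2.symm)⟩)

theorem nlM : ∃ M : Subgroup G, IsCoatom M ∧ Nonempty (M ≃* MulAut Spor.M22) := by
  have := J.fin
  have e := kM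
  simp only [pullS_eq, forceB_eq, band_eq_true] at e
  obtain ⟨⟨⟨e1, e2⟩, e3⟩, ⟨⟨e4, e5, e6⟩, e7, e8⟩, ⟨e9, f1, f2⟩, f3, f4⟩ := e
  obtain ⟨g, -, r⟩ := J.exg J.gd_BASE qM ixM
  have o := ordp (r 0) Nat.prime_eleven e1
  obtain ⟨f, hf⟩ := J.law.exists_hom' inj_pt (faithful_M24.subgroup Du) (List.forall_mem_cons.2
    ⟨rep_du (by decide +kernel), List.forall_mem_singleton.2 (rep_du (by decide +kernel))⟩)
    (ex_of r _) e3 (by rw [Rd.card_Du]; decide +kernel)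
  generalize hY : gen J.R _ = Y at hf
  have y : ∀ j ∈ [0, 1], g j ∈ Y := fun j hj => hY ▸ mem_gen_of r hj
  obtain ⟨a, a1, a2⟩ := Rd.exists_aut
  have i := (MonoidHom.ofInjective (inj_of_du f (hf ▸ o ▸ orderOf_dvd_natCard _ (y 0 (by decide))))).symm
  rw [hf] at i
  have c := (Nat.card_congr i.toEquiv).trans Rd.card_Du
  refine ⟨Y, J.coatom (c := fun n => band (Nat.beq (n / 7 % 7) (126720 % 7)) (Nat.beq (n / 11 % 11) (80640 % 11)))
    (by decide +kernel) c (by decide) fun X h t => ?_, ⟨i.trans ((MulEquiv.subgroupCongr a2.symm).trans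
      (MonoidHom.ofInjective a1).symm)⟩⟩
  obtain ⟨s, s1, s2⟩ := J.exg (gd_map r y) qN ixN
  have tp := J.top2 (p := (2, [1, 0, 0, 0])) (q := (4, [0, 0, 0, 0, 0])) (by decide +kernel) (by decide) (by decide) c h t
  have yX := gd_map r fun j hj => h (y j hj)
  have o7 := ordp (pw (s2 1) 2) Nat.prime_seven e4
  have n7 : ∀ j ∈ [1, 2], s j ∈ normalizer (zpowers (s 1 ^ 2) : Set G) := by
    simpa using ⟨mem_norm_zp (n := 1) (by group), mem_norm_zp (nrm (pw (s2 1) 2) (s2 2) e5)⟩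
  have m7 := gd_map s2 fun j hj => mem_inf.2 ⟨n7 j hj, s1 j⟩
  have n1 : ∀ j ∈ [3, 0], s j ∈ normalizer (zpowers (g 0) : Set G) := by
    have k := s2 3
    rw [pv_qN] at k
    simpa using ⟨J.law.mem ⟨_, le_normalizer (mem_zpowers _), r 0⟩ k, mem_norm_zp (nrm (r 0) (s2 0) e9)⟩
  have m1 := gd_map s2 fun j hj => mem_inf.2 ⟨n1 j hj, s1 j⟩
  exact band_eq_true.2 ⟨beq_iff.2 (idx1 Nat.prime_seven (pow_mem (s1 1) 2) o7 c (by decide) h
    (grow h (by simp [exB]; norm_num) tp (gd_append (gd_map s2 n7) (gd_one (mem_norm_zp (nrm (pw (s2 1) 2) (r 2) e6)) (r 2)))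
      yX m7 m7 (topAll e7) (band_eq_true.2 e8) (J.card_N (e := 360) (by decide) o7).le)),
    beq_iff.2 (idx1 Nat.prime_eleven (y 0 (by decide)) o c (by decide) h (grow h (by simp [exB]; norm_num) tp
      (gd_append (gd_map s2 n1) (gd_map r (by
        simpa using ⟨mem_norm_zp (nrm (r 0) (r 3) f1), mem_norm_zp (nrm (r 0) (r 4) f2)⟩))) yX m1 m1 (topAll f3)
      (band_eq_true.2 f4) (J.norm11 (mem_M (act_of (r 0) e2)) o)))⟩

theorem nlP : ∃ M : Subgroup G, IsCoatom M ∧ Nonempty (M ≃* PGL(2, ZMod 23)) := by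
  have := J.fin
  have e := kP
  have e' := (pull_eq _ _ _).symm.trans Agent.S5578.chk
  rw [← q23, ← ix23] at e'
  simp only [pullS_eq, forceB_eq, band_eq_true] at e e'
  obtain ⟨⟨⟨e1, e2⟩, e3, e4, e5⟩, e6, e7⟩ := e
  obtain ⟨g, -, r⟩ := J.exg J.gd_BASE q23 ix23
  have o := ordp (r 0) (by norm_num) e'.1
  obtain ⟨f, hf, hr⟩ := J.law.exists_hom Agent.S5578.inj_P Agent.S5578.faithful_P
    (as := [aff 1 1, Matrix.ProjGenLinGroup.mk (gl2 0 12 1 0 (by decide))])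
    (.cons (Agent.S5578.rep_gl (by decide +kernel) (by decide +kernel))
      (.cons (Agent.S5578.rep_gl (by decide +kernel) (by decide +kernel)) .nil))
    (.cons (r 0) (.cons (r 1) .nil)) e'.2 (by rw [card_PGL2, Nat.card_zmod]; decide +kernel)
  have i := (MonoidHom.ofInjective ((MonoidHom.ker_eq_bot_iff f).1 (by_contra fun k => by
    have := pslSub_le_of_normal (by simp) k (unip_le_pslSub inf (mem_unip_inf.2 ⟨1, rfl⟩))
    rw [← (List.cons.inj hf).1, show f (aff 1 1) = 1 from this] at o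
    simp at o))).symm
  have c : Nat.card f.range = 12144 := by rw [Nat.card_congr i.toEquiv, card_PGL2, Nat.card_zmod]; rfl
  refine ⟨_, J.coatom (c := fun n => band (Nat.beq (n / 23 % 23 % 22) 0) (Nat.beq (n / 11 % 11) (1104 % 11)))
    (by decide +kernel) c (by decide) fun X h t => ?_, ⟨i⟩⟩
  have y : ∀ j ∈ [0, 1], g j ∈ f.range := by simpa [hr] using ⟨subset_closure (by simp), subset_closure (by simp)⟩
  obtain ⟨d, -, d2⟩ := J.exg J.gd_BASE qP ixP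
  obtain ⟨s, s1, s2⟩ := J.exg (gd_map r y) qQ ixQ
  have x := pw (s2 0) 2
  have o' := ordp x Nat.prime_eleven e1
  have n1 : ∀ j ∈ [0, 1], s j ∈ normalizer (zpowers (s 0 ^ 2) : Set G) := by
    simpa using ⟨mem_norm_zp (n := 1) (by group), mem_norm_zp (nrm x (s2 1) e3)⟩
  have m1 := gd_map s2 fun j hj => mem_inf.2 ⟨n1 j hj, s1 j⟩
  exact band_eq_true.2 ⟨beq_iff.2 (Nat.mod_eq_zero_of_dvd (Dvd.dvd.trans (by rw [c])
    (J.up (p := 23) (e := 22) (by decide) (by decide) h (c ▸ by decide)))),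
    beq_iff.2 (idx1 Nat.prime_eleven (pow_mem (s1 0) 2) o' c (by decide) h (grow h (by simp [exB]; norm_num)
      (J.top1 (by decide +kernel) (by decide) c h t) (gd_append (gd_map s2 n1) (gd_map d2 (by
        simpa using ⟨mem_norm_zp (nrm x (d2 0) e4), mem_norm_zp (nrm x (d2 1) e5)⟩))) (gd_map r fun j hj => h (y j hj))
      m1 m1 (topAll e6) (band_eq_true.2 e7) (J.norm11 (mem_M (act_of x e2)) o')))⟩

end Mod

end Cfsg.Lib.J4T
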