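import Cfsg.Agent.Lib.J4T.Out
import Cfsg.Agent.Lib.Extraspecial.Two

/-! # The canonical section (Part I, step 6) -/

set_option autoImplicit false
set_option maxRecDepth 100000

namespace Cfsg.Lib.J4T.Lx

open Cfsg.Lib.Calc Cfsg.Lib.F2 Cfsg.Lib.Mathieu Subgroup Module

section
variable {E V : Type*} [Group E] [AddCommGroup V] [Module (ZMod 2) V] (D : ES.Ext 2 E V) (α : MulAut E)

/-- the norm -/
def Nm (x : E) : E := x * α x * α (α x)

theorem sw (x y : E) : x * y = y * x * D.ι (D.B (D.π x) (D.π y)) := by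
  rw [← D.ι_comm, ← D.comm_eq, commutatorElement_def]; group

theorem ιι (a : ZMod 2) : D.ι a * D.ι a = 1 := by rw [← D.ι_add, add_self, D.ι_zero]

variable {D α} (hι : ∀ a, α (D.ι a) = D.ι a)
include hι

theorem Nm_ι (x : E) (a : ZMod 2) : Nm α (x * D.ι a) = Nm α x * D.ι a := by
  have h := D.ι_comm a
  have := ιι D a
  simp only [Nm, map_mul, hι]
  generalize D.ι a = c at *
  calc _ = x * (c * α x) * c * α (α x) * c := by group
    _ = x * α x * (c * c) * α (α x) * c := by rw [h (α x)]; group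
    _ = _ := by rw [this, mul_one]

theorem Nm_ext {x y : E} (e : D.π x = D.π y) (hx : Nm α x = 1) (hy : Nm α y = 1) : x = y := by
  obtain ⟨a, rfl⟩ := D.π_eq_iff.1 e
  rw [Nm_ι hι, hx, one_mul] at hy
  rw [hy, mul_one]

theorem exists_sec (h : ∀ x, D.π (α (α x)) + D.π (α x) + D.π x = 0) (v : V) : ∃ x, D.π x = v ∧ Nm α x = 1 := by
  obtain ⟨x, rfl⟩ := D.π_surj v
  obtain ⟨a, e⟩ := (D.π_eq_zero (Nm α x)).1 (by
    rw [Nm, D.π_mul, D.π_mul]
    ch2 h x)
  exact ⟨x * D.ι a, by rw [D.π_mul, D.π_ι, add_zero], by rw [Nm_ι hι, ← e, ιι]⟩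

omit hι

theorem Nm_mul (hB : ∀ x y, D.B (D.π (α x)) (D.π (α y)) = D.B (D.π x) (D.π y)) (x y : E) :
    Nm α (x * y) = Nm α x * Nm α y * D.ι (D.B (D.π (α (α x))) (D.π y)) := by
  have e1 := sw D y (α x)
  have e2 := sw D (α y) (α (α x))
  have e3 := sw D y (α (α x))
  rw [hB] at e2
  rw [D.B_symm] at e3
  have h1 := D.ι_comm (D.B (D.π y) (D.π (α x)))
  have h2 := D.ι_comm (D.B (D.π (α (α x))) (D.π y))
  have h3 := ιι D (D.B (D.π y) (D.π (α x)))
  simp only [Nm, map_mul]
  generalize D.ι (D.B (D.π y) (D.π (α x))) = c at *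
  generalize D.ι (D.B (D.π (α (α x))) (D.π y)) = d at *
  calc _ = x * (y * α x) * (α y * α (α x)) * α (α y) := by group
    _ = x * α x * y * (c * (α (α x) * α y)) * c * α (α y) := by rw [e1, e2]; group
    _ = x * α x * (y * α (α x)) * α y * (c * c) * α (α y) := by rw [h1]; group
    _ = x * α x * α (α x) * y * (d * (α y * α (α y))) := by rw [h3, e3]; group
    _ = _ := by rw [h2]; group

theorem Nm_comm {β : MulAut E} (h : ∀ x, β (α x) = α (β x)) (x : E) : Nm α (β x) = β (Nm α x) := by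
  simp only [Nm, map_mul, h]

theorem Nm_inv (hB : ∀ x y, D.B (D.π (α x)) (D.π (α y)) = D.B (D.π x) (D.π y)) (h3 : ∀ x, α (α (α x)) = x)
    {β : MulAut E} (h : ∀ x, β (α x) = α (α (β x))) (x : E) :
    Nm α (β x) = β (Nm α x * D.ι (D.B (D.π (α x)) (D.π x))) := by
  rw [← hB, Nm, Nm, mul_assoc x, mul_assoc x, ← sw, map_mul, map_mul, h, h, h3, mul_assoc]

end

theorem zb_eq (n : ℕ) : zb n = (n : ZMod 2) := by
  rw [zb, Nat.testBit_zero, ← ZMod.natCast_mod n 2]
  rcases Nat.mod_two_eq_zero_or_one n with e | e <;> rw [e] <;> rfl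

theorem ff_eq : ∀ v < 4096, ∀ w < 4096, bb (app 12 (mc cP) (app 12 (mc cP) v)) w = ff v w :=
  xor_ind (fun w _ => by rw [app_zero, app_zero, zero_bb, zero_ff]) (fun i hi => xor_ind (by rw [bb_zero, ff_zero])
    (fun j hj => beq_iff.1 (of_allLt (of_allLt (show allLt 12 (fun i => allLt 12 fun j =>
      Nat.beq (bb (app 12 (mc cP) (app 12 (mc cP) (2 ^ i))) (2 ^ j)) (ff (2 ^ i) (2 ^ j))) = true by decide +kernel) hi) hj))
    fun a _ b _ x y => by rw [bb_xor, ff_xor, x, y])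
    fun a _ b _ x y w hw => by rw [app_xor, app_xor, xor_bb, xor_ff, x w hw, y w hw]

theorem qq_eq {v : ℕ} (hv : v < 4096) : bb (app 12 (mc cP) v) v = qq v :=
  beq_iff.1 (allBig_iff.1 (show allBig 4096 (fun v => Nat.beq (bb (app 12 (mc cP) v) v) (qq v)) = true by
    decide +kernel) v hv)

theorem pp_sum {v : ℕ} (hv : v < 4096) : app 12 (mc cP) (app 12 (mc cP) v) ^^^ app 12 (mc cP) v = v :=
  beq_iff.1 (allBig_iff.1 (show allBig 4096 (fun v =>
    Nat.beq (app 12 (mc cP) (app 12 (mc cP) v) ^^^ app 12 (mc cP) v) v) = true by decide +kernel) v hv)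

/-- transport along an embedding -/
theorem exists_map {H G : Type*} [Group H] [Group G] (L : Loc H) (f : H →* G) (hf : Function.Injective f) :
    ∃ L' : Loc G, L'.z = f L.z ∧ L'.H = L.H.map f ∧ L'.E = L.E.map f ∧ L'.K = L.K.map f ∧ (∀ g, L'.φ (f g) = L.φ g) ∧
      ∀ k X, L.Cd k X → L'.Cd (f k) X := by
  let φ : G → M24 := Function.extend f L.φ 1
  have hφ : ∀ g, φ (f g) = L.φ g := fun g => hf.extend_apply _ _ g
  have h1 : ∀ k X, LK (f L.z) (fun v => f (L.e v)) (L.K.map f) φ (f k) X ↔ L.Cd k X := fun k X => by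
    refine and_congr (mem_map_iff_mem hf) (and_congr (by rw [hφ]) (forall₂_congr fun v _ => ?_))
    rw [← map_pow, ← map_inv, ← map_mul, ← map_mul, ← map_mul, hf.eq_iff]
  refine ⟨{ z := f L.z, e := fun v => f (L.e v), H := L.H.map f, K := L.K.map f, φ := φ
            ord := (orderOf_injective f hf _).trans L.ord
            zK := mem_map_of_mem f L.zK
            KH := map_mono L.KH
            eH := fun v => mem_map_of_mem f (L.eH v)
            Hz := ?_
            e_mul := fun v hv w hw => by rw [← map_mul, L.e_mul v hv w hw, map_mul, map_pow]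
            φ_mul := ?_
            φ_e := fun v => (hφ _).trans (L.φ_e v)
            dec := ?_
            lets := fun X hX => let ⟨k, h⟩ := L.lets X hX; ⟨_, (h1 k X).2 h⟩
            gen := ?_
            ker := ?_
            faith := ?_ }, rfl, rfl, ?_, rfl, hφ, fun k X => (h1 k X).2⟩
  · rintro _ ⟨g, hg, rfl⟩
    rw [mem_centralizer_singleton_iff, ← map_mul, L.comm hg, map_mul]
  · rintro _ ⟨g, hg, rfl⟩ _ ⟨h, hh, rfl⟩
    rw [← map_mul, hφ, hφ, hφ, L.φ_mul g hg h hh]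
  · rintro _ ⟨g, hg, rfl⟩
    obtain ⟨v, hv, k, hk, rfl⟩ := L.dec g hg
    exact ⟨v, hv, _, mem_map_of_mem f hk, map_mul f _ _⟩
  · refine (map_mono L.gen).trans ?_
    rw [MonoidHom.map_closure, Set.image_insert_eq]
    refine closure_mono (Set.insert_subset_insert ?_)
    rintro _ ⟨k, ⟨X, a, b⟩, rfl⟩
    exact ⟨X, a, (h1 k X).2 b⟩
  · rintro _ ⟨k, hk, rfl⟩ e
    rw [h1, h1, h1]
    exact L.ker k hk ((hφ k).symm.trans e)
  · intro k h
    obtain ⟨k, -, rfl⟩ := h.1
    rw [← MonoidHom.map_zpowers]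
    exact mem_map_of_mem f (L.faith k ((h1 k _).1 h))
  · change Subgroup.closure (insert (f L.z) ((fun v => f (L.e v)) '' Set.Iio 4096)) = (Subgroup.closure _).map f
    rw [MonoidHom.map_closure, Set.image_insert_eq, Set.image_image]

end Cfsg.Lib.J4T.Lx
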