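import Cfsg.Agent.Lib.J4T.Gram

/-! # The module for `3.M₂₂.2` (Part I, step 5) -/

set_option autoImplicit false
set_option maxRecDepth 100000

namespace Cfsg.Lib.J4T.Lx

open Cfsg.Lib.Calc Cfsg.Lib.F2 Cfsg.Lib.Mathieu Subgroup Module

theorem exists_S : ∃ S, RC S cS := RC.ex (Y := cS) (by decide +kernel) (by decide +kernel) (by decide +kernel)

theorem gn_S : ∀ X ∈ l6, Gn ⊤ (mu cS (mu X cS)) := fun X hX => by
  obtain ⟨b, hb, e⟩ := Grp.anyL_iff.1 (allL_iff.1 (show allL l6 (fun X => Grp.anyL (([[0, 5, 0, 4, 5, 4, 0, 5, 0],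
    [6, 6, 4, 3, 2, 1, 0, 2, 3, 4, 3], [2, 1, 3, 1, 3, 1], [6, 6, 4, 3, 0, 2, 0, 2, 3, 1, 4, 1], [0, 4, 5, 0, 5, 0, 4, 0],
    [3, 1, 3, 1, 5, 1, 3, 1, 3]] : List (List ℕ)).map (evL l7)) fun b => Nat.beq b (mu cS (mu X cS))) = true by
      decide +kernel) X hX)
  obtain ⟨w, -, rfl⟩ := List.mem_map.1 hb
  exact Gn.of gn_l7 w e

theorem fix_yL : allBig 4096 (fun w => bor (blt w 4) (Grp.anyL yL fun X => !Nat.beq (app 12 (mc X) w) w)) = true := by
  decide +kernel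

theorem card_ker_s0 : Nat.card s0.ker = 3 := by rw [ker_s0, Nat.card_zpowers, ← orderOf_coe, c_pp.1.ord]

theorem ker_s0_le : s0.ker ≤ center K0 := ker_s0 ▸ zpowers_le.2 (mem_center_iff.2 comm_pp)

variable {L : Type*} [Group L] {σ : L →* M24}

theorem conj_S {ι : K0 →* L} (hi : Function.Injective ι) (h1 : ∀ k, σ (ι k) = s0 k)
    (h2 : ∀ g, σ g ∈ m22 → ∃ k, ι k = g) {S : KK} (hS : RC S cS) {s : L} (hs : σ s = S.1) (k : K0) :
    ∃ k' : K0, ι k' = s * ι k * s⁻¹ ∧ k'.1 = S * k * S⁻¹ := by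
  have SS : S * S = 1 := (hS.mul hS).eq RC.one (by decide +kernel)
  refine ind (P := fun k => ∃ k' : K0, ι k' = s * ι k * s⁻¹ ∧ k'.1 = S * k * S⁻¹) ⟨1, by simp, by simp⟩
    (fun X hX g c k ⟨k', a, b⟩ => ?_) k
  obtain ⟨g', -, c'⟩ := gn_S X hX
  have gg : g * g = 1 := (c.mul c).eq C0.one (band_eq_true.1 (allL_iff.1 c3 X (List.mem_cons_of_mem _ hX))).1
  have e1 : g'.1 = S * g * S⁻¹ := by
    rw [c'.1.ext (hS.mul (c.1.mul hS)), inv_eq_of_mul_eq_one_right SS, mul_assoc]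
  have e2 : σ (s * ι g * s⁻¹) = s0 g' := by
    rw [map_mul, map_mul, map_inv, hs, h1]
    exact (congrArg Prod.fst e1).symm
  obtain ⟨g'', e3⟩ := h2 _ (e2 ▸ range_s0.le ⟨g', rfl⟩)
  obtain rfl : g'' = g' := uniq card_ker_s0 ker_s0_le
    (hi (by rw [map_mul, e3, conj_mul, ← map_mul, gg, map_one, mul_one, mul_inv_cancel]))
    (Subtype.ext (by
      change g'.1 * g'.1 = 1
      rw [e1, conj_mul, ← coe_mul, gg, coe_one, mul_one, mul_inv_cancel])) (by rw [← h1, e3, e2])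
  exact ⟨g'' * k', by rw [map_mul, e3, a, conj_mul, map_mul], by rw [coe_mul, e1, b, conj_mul, coe_mul]⟩

variable {V : Type*} [AddCommGroup V] [Module (ZMod 2) V] {ρ : Representation (ZMod 2) L V}
  {B : LinearMap.BilinForm (ZMod 2) V}

/-- `g` has code `X` -/
structure C1 (σ : L →* M24) (ρ : Representation (ZMod 2) L V) (θ : ℕ → V) (g : L) (X : ℕ) : Prop where
  r : R (σ g) (pc' X)
  a : ∀ a < 4096, ρ g (θ a) = θ (app 12 (mc X) a)

theorem theta_inj {θ : ℕ → V} (t1 : ∀ a b, θ (a ^^^ b) = θ a + θ b)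
    (t4 : ∀ a < 4096, ∀ b < 4096, B (θ a) (θ b) = zb (bb a b)) {a b : ℕ} (ha : a < 4096) (hb : b < 4096)
    (e : θ a = θ b) : a = b := by
  by_contra hne
  obtain ⟨w, hw, e'⟩ := exists_bb (xor_lt ha hb) fun k => hne (Nat.xor_eq_zero_iff.1 k)
  have := t4 _ (xor_lt ha hb) w hw
  rw [t1, e, add_self, e', LinearMap.map_zero, LinearMap.zero_apply] at this
  exact absurd this (by decide)

theorem outer [Finite L] [Finite V] (hr : σ.range = Du) (hk : Nat.card σ.ker = 3)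
    (hp : σ.ker ≤ ⁅m22.comap σ, m22.comap σ⁆) (hV : finrank (ZMod 2) V = 12) (hA : B.IsAlt) (hN : B.Nondegenerate)
    (hB : ∀ g x y, B (ρ g x) (ρ g y) = B x y) (hf : ∀ g, σ g = 1 → ρ g = 1 → g = 1) :
    ∃ (θ : ℕ → V) (p : L), (∀ a b, θ (a ^^^ b) = θ a + θ b) ∧ (∀ x, ∃ a < 4096, θ a = x) ∧
      (∀ a < 4096, ∀ b < 4096, B (θ a) (θ b) = zb (bb a b)) ∧ (∀ X ∈ lets, ∃ g, C1 σ ρ θ g X) ∧
      (∀ N : Subgroup L, (∀ X ∈ lets, ∀ g, C1 σ ρ θ g X → g ∈ N) → N = ⊤) ∧ C1 σ ρ θ p cP ∧ σ.ker = zpowers p ∧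
      ∀ g, (σ g ∈ m22 → g * p * g⁻¹ = p) ∧ (σ g ∉ m22 → g * p * g⁻¹ = p * p) := by
  have hM : σ.ker ≤ m22.comap σ := ker_le_comap _ _
  have k1 : (σ.comp (m22.comap σ).subtype).ker = σ.ker.subgroupOf (m22.comap σ) := rfl
  obtain ⟨e, he⟩ := cover (σ := σ.comp (m22.comap σ).subtype)
    (by rw [MonoidHom.range_comp, range_subtype, Rd.map_comap hr])
    (by rw [k1, Nat.card_congr (subgroupOfEquivOfLe hM).toEquiv, hk]) (by
      rw [k1, ← map_le_map_iff_of_injective (m22.comap σ).subtype_injective, subgroupOf_map_subtype, commutator_def,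
        map_commutator, ← MonoidHom.range_eq_map, range_subtype]
      exact inf_le_left.trans hp)
  let ι : K0 →* L := (m22.comap σ).subtype.comp e.symm.toMonoidHom
  have hi : Function.Injective ι := (subtype_injective _).comp e.symm.injective
  have h1 : ∀ k, σ (ι k) = s0 k := fun k => (he (e.symm k)).symm.trans (by rw [e.apply_symm_apply]; rfl)
  have h2 : ∀ g, σ g ∈ m22 → ∃ k, ι k = g := fun g hg => ⟨e ⟨g, hg⟩, congrArg Subtype.val (e.symm_apply_apply _)⟩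
  have hp1 : σ (ι pp) = 1 := (h1 _).trans (c_pp.1.fst (by decide +kernel))
  have hp2 : ι pp ≠ 1 := fun k =>
    c_pp.1.ne_one (by decide +kernel) (congrArg Subtype.val (hi (k.trans (map_one ι).symm)))
  obtain ⟨θ, t1, t5, t4, t6⟩ := exists_theta (ρ := ρ.comp ι) hV hA hN (fun g => hB _) fun k => hp2 (hf _ hp1 k)
  have t7 : ∀ {k X}, C0 k X → C1 σ ρ θ (ι k) X := fun c => ⟨h1 _ ▸ c.r, t6 _ _ c⟩
  have t8 : ∀ k (a : Fin 4096), ρ (ι k) (θ a) = θ (act k a) := fun k a =>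
    let ⟨_, c⟩ := exists_code k; by rw [c.act]; exact t6 _ _ c a a.2
  have t0 : θ 0 = 0 := by have := t1 0 0; rw [add_self] at this; exact this
  have rm : ∀ g h x, ρ (g * h) x = ρ g (ρ h x) := fun g h x => by rw [map_mul]; rfl
  obtain ⟨S, hS⟩ := exists_S
  have SS : S⁻¹ = S := inv_eq_of_mul_eq_one_right ((hS.mul hS).eq RC.one (by decide +kernel))
  have S1 : S.2 1 = 1 := Fin.ext ((hS.2 1).trans (by decide +kernel))
  have SD : S.1 ∈ Du := (hS.1.mem_stab_set (by norm_num)).2 (by decide +kernel)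
  have SM : S.1 ∉ m22 := fun k => absurd ((og_eq_zero hS.1 SD).2 k) (by decide +kernel)
  have hact : ∀ {k k' : K0}, k'.1 = S * k * S⁻¹ → act k' 1 = S.2 (act k 1) := fun {k k'} e => by
    rw [act, e, SS]
    change S.2 (k.1.2 (S.2 1)) = _
    rw [S1]; rfl
  obtain ⟨s, hs, hs1⟩ : ∃ s, σ s = S.1 ∧ ρ s (θ 1) = θ 1 := by
    obtain ⟨s, hs⟩ := hr.ge SD
    obtain ⟨w, hw, e⟩ := t5 (ρ s (θ 1))
    have : w < 4 := by
      refine blt_iff.1 ((bor_eq_true.1 (allBig_iff.1 fix_yL w hw)).resolve_right fun k => ?_)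
      obtain ⟨X, hX, k⟩ := Grp.anyL_iff.1 k
      obtain ⟨y, -, c⟩ := gn_yL X hX
      obtain ⟨y', a, b⟩ := conj_S hi h1 h2 hS (s := s⁻¹) (by rw [map_inv, hs]; exact congrArg Prod.fst SS) y
      have y1 : act y 1 = 1 := Fin.ext ((c.act 1).trans (beq_iff.1 (allL_iff.1
        (show allL yL (fun X => Nat.beq (app 12 (mc X) 1) 1) = true by decide +kernel) X hX)))
      have : θ (app 12 (mc X) w) = θ w := by
        rw [← (t7 c).2 w hw, e, ← rm, show ι y * s = s * ι y' by rw [a]; group, rm]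
        exact congrArg _ ((t8 y' 1).trans (by rw [hact b, y1, S1]; rfl))
      rw [theta_inj t1 t4 (app12_lt _ _) hw this, beq_iff.2 rfl] at k
      exact Bool.false_ne_true k
    interval_cases w
    · have := congrArg (ρ s⁻¹) e
      rw [← rm, inv_mul_cancel, map_one, t0, map_zero, ← t0] at this
      exact absurd (theta_inj t1 t4 (by norm_num) (by norm_num) this) (by norm_num)
    · exact ⟨s, hs, e.symm⟩
    · refine ⟨ι pp * (ι pp * s), by rw [map_mul, map_mul, hp1, one_mul, one_mul, hs], ?_⟩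
      rw [rm, rm, ← e, (t7 c_pp).2 _ hw, (t7 c_pp).2 _ (app12_lt _ _)]
      exact congrArg θ (by decide +kernel)
    · refine ⟨ι pp * s, by rw [map_mul, hp1, one_mul, hs], ?_⟩
      rw [rm, ← e, (t7 c_pp).2 _ hw]
      exact congrArg θ (by decide +kernel)
  have cs : C1 σ ρ θ s cS := ⟨hs ▸ hS.1, xor_ind (by rw [app_zero, t0, map_zero]) (fun i hi' => by
      obtain ⟨g, e⟩ := exists_act (c := 2 ^ i) (Nat.pow_lt_pow_right (a := 2) (n := 12) (by norm_num) hi')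
        (by interval_cases i <;> decide +kernel)
      obtain ⟨g', a, b⟩ := conj_S hi h1 h2 hS hs g
      rw [← e, ← t8 g 1, ← rm, show s * ι g = ι g' * s by rw [a]; group, rm, ← hS.2, ← hact b, ← t8]
      exact congrArg _ hs1)
    fun a _ b _ x y => by rw [app_xor, t1, t1, map_add, x, y]⟩
  have hsp : s * ι pp * s⁻¹ = ι pp * ι pp := by
    obtain ⟨g', a, b⟩ := conj_S hi h1 h2 hS hs pp
    rw [← a, ← map_mul]
    refine congrArg ι (Subtype.ext (b.trans ?_))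
    rw [SS]
    exact ((hS.mul c_pp.1).mul hS).eq (c_pp.mul c_pp).1 (by decide +kernel)
  have hc : ∀ g, σ g ∈ m22 → g * ι pp * g⁻¹ = ι pp := fun g hg => by
    obtain ⟨k, rfl⟩ := h2 g hg
    rw [← map_mul, comm_pp, map_mul, mul_inv_cancel_right]
  have ho : ∀ g, σ g ∉ m22 → σ (s⁻¹ * g) ∈ m22 := fun g hg =>
    (mul_mem_iff_of_index_two (Rd.idx_comap hr)).2 (iff_of_false (fun k => SM (hs ▸ mem_comap.1 (inv_mem_iff.1 k))) hg)
  have hl : lets = l7 ++ [cS] := rfl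
  refine ⟨θ, ι pp, t1, t5, t4, ?_, fun N h => ?_, t7 c_pp, (zpowers_eq hk hp1 hp2).symm, fun g => ⟨hc g, fun hg => ?_⟩⟩
  · rw [hl]
    exact List.forall_mem_append.2 ⟨fun X hX => let ⟨_, _, c⟩ := gn_l7 X hX; ⟨_, t7 c⟩,
      List.forall_mem_singleton.2 ⟨s, cs⟩⟩
  · have a : N.comap ι = ⊤ := eq_top_of_l6 fun X hX =>
      let ⟨g, _, c⟩ := gn_l6 X hX; ⟨g, h X (List.mem_of_mem_take hX) _ (t7 c), c⟩
    have b : ∀ g, σ g ∈ m22 → g ∈ N := fun g hg => by
      obtain ⟨k, rfl⟩ := h2 g hg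
      exact a.ge (mem_top k)
    refine eq_top_iff.2 fun g _ => ?_
    by_cases hg : σ g ∈ m22
    · exact b g hg
    · simpa using mul_mem (h cS (by simp [hl]) s cs) (b _ (ho g hg))
  · rw [← hsp]
    conv_rhs => rw [← hc _ (ho g hg)]
    group

end Cfsg.Lib.J4T.Lx
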