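import Cfsg.Agent.Lib.J4T.PentD

/-! # The subgroup `2^(3+12).(S₅ × L₃(2))` of J₄ -/

set_option autoImplicit false
set_option maxRecDepth 100000

namespace Cfsg.Lib.J4T

open Cfsg.Lib.Calc Cfsg.Lib.F2 Cfsg.Lib.Mathieu Cfsg.Lib.Big Cfsg.Lib.J4 Subgroup Cfsg.Lib.Transfer
open scoped commutatorElement Pointwise

theorem nth_slpL (L prog : List ℕ) (j : ℕ) : F2.nth eM.one (slpL L prog) (prog.length + j) = F2.nth eM.one L j := by
  induction prog generalizing L j with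
  | nil => rw [List.length_nil, zero_add]; rfl
  | cons t prog ih => rw [List.length_cons, add_assoc, add_comm 1]; exact ih _ (j + 1)

theorem exists_nth (a : ℕ) {L : List ℕ} {C : ℕ} (h : C ∈ L) : ∃ i < L.length, F2.nth a L i = C := by
  induction L with
  | nil => simp at h
  | cons b L ih =>
    rcases List.mem_cons.1 h with rfl | h
    exacts [⟨0, by simp, rfl⟩, let ⟨i, x, y⟩ := ih h; ⟨i + 1, by simpa using x, y⟩]

theorem nth_lt (a : ℕ) (f : ℕ → ℕ) {n i : ℕ} (h : i < n) (L : List ℕ) : F2.nth a ((List.range n).map f ++ L) i = f i := by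
  simp [nth_eq_getD, List.getElem?_append, h]

theorem nth_add (a : ℕ) (f : ℕ → ℕ) (n i : ℕ) (L : List ℕ) :
    F2.nth a ((List.range n).map f ++ L) (n + i) = F2.nth a L i := by
  simp [nth_eq_getD, List.getElem?_append]

/-- the matrices -/
noncomputable def pD : ℕ → ℕ := pv PG pP pI

theorem pD_lt {i : ℕ} (h : i < 19) : pD i = F2.nth eM.one PG i := by
  rw [pD, pv, (by decide +kernel : ∀ i < 19, Calc.nth pI i = pP.length + i) i h, nth_slpL]

theorem pA : pkA pD = true := (pullS_eq _ _ _ _).symm.trans pkA_ok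
theorem pB : pkB pD = true := (pullS_eq _ _ _ _).symm.trans pkB_ok
theorem pC : pkC pD = true := (pullS_eq _ _ _ _).symm.trans pkC_ok
theorem pE : pkD pD = true := (pullS_eq _ _ _ _).symm.trans pkD_ok

theorem card_duad : Nat.card ↥(Du ⊓ MulAction.stabilizer M24 (Golay.G.toF 2064)) ≤ 3840 := by
  have h1 : 231 ≤ (MulAction.orbit Du (Golay.G.toF 2064)).ncard := orbM_le Du (gs := lets.map pc') (D := 0) (p := 1)
    (q := 1283) (r := 1283) (chk := fun _ => true) (fuel := 3000) (List.forall_mem_map.2 fun X h => by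
      obtain ⟨i, hi, rfl⟩ := Md.exists_lt h
      exact ⟨_, ((Md.R_lt hi).mem_stab_set (by norm_num)).2 (beq_iff.1 (allL_iff.1 lets_du _ h)), Md.R_lt hi⟩)
    (by decide) (by decide) (by decide +kernel)
  have h2 := card_eq_orbit_mul Du (Golay.G.toF 2064)
  rw [card_Du] at h2
  have := Nat.mul_le_mul_right (Nat.card ↥(Du ⊓ MulAction.stabilizer M24 (Golay.G.toF 2064))) h1
  omega

variable {G : Type*} [Group G]

namespace Mod

variable (J : Mod G)

/-- the centre of `L` -/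
def Z0 : Subgroup G :=
  have := J.fin
  subOf (fun g => ∃ v < 4, ∃ b, g = J.e v * J.z ^ b) ⟨0, by decide, 0, by simp [J.e_zero]⟩ (by
    rintro _ _ ⟨v, hv, a, rfl⟩ ⟨w, hw, b, rfl⟩
    exact ⟨v ^^^ w, Nat.xor_lt_two_pow (n := 2) hv hw, ff v w + a + b, by
      rw [mul_assoc, ← mul_assoc (J.z ^ a), ← J.comm_pow (J.eH w), ← mul_assoc, ← mul_assoc,
        J.e_mul v (by omega) w (by omega), pow_add, pow_add]; simp only [mul_assoc]⟩)

theorem mem_Z0 {g : G} : g ∈ J.Z0 ↔ ∃ v < 4, ∃ b, g = J.e v * J.z ^ b := Iff.rfl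

theorem card_Z0 : Nat.card J.Z0 = 8 := by
  refine (Nat.card_eq_of_bijective (fun t : Fin 4 × Fin 2 => (⟨_, t.1, t.1.2, t.2, rfl⟩ : J.Z0))
    ⟨fun a b e => ?_, ?_⟩).symm.trans (by simp)
  · have := J.e_inj (by omega) (by omega) (congrArg Subtype.val e)
    exact Prod.ext (Fin.ext this.1) (Fin.ext (J.zp_inj a.2.2 b.2.2 this.2))
  · rintro ⟨_, v, hv, b, rfl⟩
    exact ⟨(⟨v, hv⟩, ⟨b % 2, Nat.mod_lt _ two_pos⟩), Subtype.ext (congrArg (J.e v * ·) (J.zp_mod b))⟩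

theorem z_Z0 : J.z ∈ J.Z0 := ⟨0, by decide, 1, by simp [J.e_zero]⟩
theorem e_Z0 {v : ℕ} (h : v < 4) : J.e v ∈ J.Z0 := ⟨v, h, 0, by simp⟩

theorem Z0_le {S : Subgroup G} (a : J.e 1 ∈ S) (b : J.e 2 ∈ S) (c : J.z ∈ S) : J.Z0 ≤ S := by
  rintro _ ⟨v, hv, k, rfl⟩
  refine mul_mem ?_ (pow_mem c k)
  interval_cases v
  exacts [J.e_zero ▸ one_mem _, a, b, (mul_mem_cancel_right (pow_mem c _)).1
    (J.e_mul 1 (by decide) 2 (by decide) ▸ mul_mem a b)]

theorem Z0_sq {g : G} (h : g ∈ J.Z0) : g ^ 2 = 1 := by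
  obtain ⟨v, hv, b, rfl⟩ := h
  rw [(show Commute _ _ from J.comm_pow (J.eH v) b).mul_pow, sq, sq, J.zp_sq, J.e_sq (by omega),
    (by decide +kernel : ∀ v < 4, qq v = 0) v hv, pow_zero, one_mul]

theorem Z0_comm {g h : G} (a : g ∈ J.Z0) (b : h ∈ J.Z0) : g * h = h * g := by
  have k : ∀ {x}, x ∈ J.Z0 → x⁻¹ = x := fun h => inv_eq_of_mul_eq_one_right ((pow_two _).symm.trans (J.Z0_sq h))
  rw [← k (mul_mem a b), mul_inv_rev, k a, k b]

theorem gd_ZL : ∀ C ∈ ZL, Big.Gd J.R J.Z0 C := List.forall_mem_map.2 fun c _ =>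
  ⟨_, ⟨_, Nat.mod_lt c (by decide), _, rfl⟩, mz (J.Re _) _⟩

/-- the elements -/
noncomputable def pg (i : ℕ) : G := J.g (pD i)

theorem gd_PG : ∀ C ∈ PG, Big.Gd J.R ⊤ C := by
  simp only [PG, List.forall_mem_append, List.forall_mem_map, List.forall_mem_cons]
  exact ⟨fun _ _ => ⟨_, mem_top _, J.Re _⟩, fun _ _ => ⟨_, mem_top _, J.Rw _⟩, ⟨_, mem_top _, J.Re _⟩, ⟨_, mem_top _, J.Re _⟩,
    ⟨_, mem_top _, J.Rz⟩, ⟨_, mem_top _, J.Rh _ _ _⟩, ⟨_, mem_top _, J.Rh _ _ _⟩, ⟨_, mem_top _, J.ev (by decide)⟩,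
    ⟨_, mem_top _, J.ev (by decide)⟩, by simp⟩

theorem Rp (i : ℕ) : J.R (J.pg i) (pD i) := (pv_spec J.gd_PG _ _ i).2

theorem pg_mem {S : Subgroup G} (h : ∀ i < 19, J.pg i ∈ S) (i : ℕ) : J.pg i ∈ S :=
  (pv_spec (fun _ hC => let ⟨j, a, b⟩ := exists_nth eM.one hC; ⟨_, h j a, b ▸ pD_lt a ▸ J.Rp j⟩) _ _ i).1

theorem pg_e {i : ℕ} (h : i < 8) : J.pg i = J.e (vL i) :=
  J.law.uniq (J.Rp i) (by rw [pD_lt (by omega), PG, nth_lt _ _ h]; exact J.Re _)
theorem pg_k {i : ℕ} (h : i < 4) : J.pg (8 + i) = J.kw (wL i) :=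
  J.law.uniq (J.Rp _) (by rw [pD_lt (by omega), PG, nth_add, nth_lt _ _ h]; exact J.Rw _)
theorem pg12 : J.pg 12 = J.e 1 := J.law.uniq (J.Rp _) (by
  rw [pD_lt (by omega), PG, nth_add _ _ 8 4, nth_add _ _ 4 0, nth_eq_getD, List.getD_cons_zero]; exact J.Re _)
theorem pg13 : J.pg 13 = J.e 2 := J.law.uniq (J.Rp _) (by
  rw [pD_lt (by omega), PG, nth_add _ _ 8 5, nth_add _ _ 4 1, nth_eq_getD, List.getD_cons_succ, List.getD_cons_zero]; exact J.Re _)
theorem pg14 : J.pg 14 = J.z := J.law.uniq (J.Rp _) (by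
  rw [pD_lt (by omega), PG, nth_add _ _ 8 6, nth_add _ _ 4 2, nth_eq_getD, List.getD_cons_succ, List.getD_cons_succ,
    List.getD_cons_zero]; exact J.Rz)

theorem cen_Z0 {g : G} (a : g * J.pg 12 = J.pg 12 * g) (b : g * J.pg 13 = J.pg 13 * g) (c : g * J.pg 14 = J.pg 14 * g) :
    g ∈ centralizer (J.Z0 : Set G) := fun _ h => mem_centralizer_singleton_iff.1 (J.Z0_le (S := centralizer {g})
  (mem_centralizer_singleton_iff.2 (J.pg12 ▸ a.symm)) (mem_centralizer_singleton_iff.2 (J.pg13 ▸ b.symm))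
  (mem_centralizer_singleton_iff.2 (J.pg14 ▸ c.symm)) h)

/-- the special group `2^(3+12)` -/
noncomputable def LL : Subgroup G := gen J.R ((List.range 15).map pD)

theorem pg_LL {i : ℕ} (h : i < 15) : J.pg i ∈ J.LL := mem_gen_of J.Rp (List.mem_range.2 h)

theorem Z0_LL : J.Z0 ≤ J.LL :=
  J.Z0_le (J.pg12 ▸ J.pg_LL (by decide)) (J.pg13 ▸ J.pg_LL (by decide)) (J.pg14 ▸ J.pg_LL (by decide))

theorem LL_le {S : Subgroup G} (h : ∀ i < 12, J.pg i ∈ S) (h' : J.Z0 ≤ S) : J.LL ≤ S := gen_le_of J.Rp fun i hi => by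
  by_cases k : i < 12
  · exact h i k
  · have := List.mem_range.1 hi
    have := not_lt.1 k
    refine h' ?_
    interval_cases i
    exacts [J.pg12 ▸ J.e_Z0 (by decide), J.pg13 ▸ J.e_Z0 (by decide), J.pg14 ▸ J.z_Z0]

theorem LL_T : J.LL ≤ J.T := by
  have := J.fin
  refine J.LL_le (fun i hi => ?_) (J.Z0_le (J.E_le_T (J.e_mem_E (by decide))) (J.E_le_T (J.e_mem_E (by decide)))
    (J.E_le_T J.z_mem_E))
  by_cases k : i < 8
  · exact J.pg_e k ▸ J.E_le_T (J.e_mem_E ((by decide : ∀ i < 8, vL i < 4096) i k))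
  · obtain ⟨i, rfl⟩ := Nat.exists_eq_add_of_le (not_lt.1 k)
    obtain ⟨a, b, c⟩ := (by decide +kernel : ∀ i < 4, (wL i).all (· < 8) = true ∧ [7, 3, 24, 25].getD i 0 < 256 ∧
      evw (wL i) = TT ([7, 3, 24, 25].getD i 0)) i (by omega)
    exact J.mem_T.2 ⟨0, by decide, _, b, _, c ▸ J.cdw a, by rw [J.pg_k (by omega), J.e_zero, one_mul]⟩

theorem LL_H : J.LL ≤ J.H := have := J.fin; J.LL_T.trans J.T_le

theorem LL_spec : J.LL ≤ centralizer (J.Z0 : Set G) ∧ ⁅J.LL, J.LL⁆ = J.Z0 ∧ (∀ x ∈ J.LL, x ^ 2 ∈ J.Z0) ∧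
    Nat.card J.LL = 2 ^ 15 ∧ ∀ x ∈ J.Z0, (J.pg 22 * x) ^ 4 ≠ 1 := by
  have := J.fin
  have e := pA
  rw [pkA, Grp.forceL_eq] at e
  simp only [band_eq_true, allLt_iff] at e
  obtain ⟨⟨e1, e2⟩, e3, e4⟩ := e
  have h1 : ∀ i < 12, J.pg i ∈ centralizer (J.Z0 : Set G) := fun i hi => J.cen_Z0 (com (J.Rp _) (J.Rp _) (e1 i hi).1.1)
    (com (J.Rp _) (J.Rp _) (e1 i hi).1.2) (J.pg14 ▸ J.comm (J.LL_H (J.pg_LL (by omega))))
  have h2 : ∀ i < 12, ∀ j < i, J.pg i * J.pg j * (J.pg i)⁻¹ * (J.pg j)⁻¹ ∈ J.Z0 := fun i hi j hj => by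
    obtain ⟨x, a, b⟩ := J.law.gd_nth J.gd_ZL _
    rw [eq (mul (J.Rp i) (J.Rp j)) (mul b (mul (J.Rp j) (J.Rp i))) ((e1 i hi).2.2 j hj)]
    simpa [mul_assoc] using a
  obtain ⟨k1, k2, k3⟩ := class2 (Z := J.Z0) (bs := (List.range 12).map J.pg)
    (List.forall_mem_map.2 fun i hi => centralizer_le_normalizer _ (h1 i (List.mem_range.1 hi)))
    (List.forall_mem_map.2 fun i hi => by
      obtain ⟨x, a, b⟩ := J.law.gd_nth J.gd_ZL _
      exact eq (mul (J.Rp i) (J.Rp i)) b (e1 i (List.mem_range.1 hi)).2.1 ▸ a)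
    (List.forall_mem_map.2 fun i hi => List.forall_mem_map.2 fun j hj => by
      rcases lt_trichotomy j i with k | rfl | k
      exacts [h2 i (List.mem_range.1 hi) j k, by simp, by simpa [mul_assoc] using inv_mem (h2 j (List.mem_range.1 hj) i k)])
  have h3 := J.LL_le (S := closure {b | b ∈ (List.range 12).map J.pg} ⊔ J.Z0)
    (fun i hi => mem_sup_left (subset_closure (List.mem_map_of_mem (List.mem_range.2 hi)))) le_sup_right
  have h4 : ∀ i < 3, J.pg (12 + i) ∈ ⁅J.LL, J.LL⁆ := fun i hi => mem_comm (J.pg_LL (by decide))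
    (J.pg_LL ((by decide +kernel : ∀ i < 3, Calc.nth [11, 10, 5] i < 15) i hi))
    (eq (mul (J.Rp _) (J.Rp _)) (mul (mul (J.Rp _) (J.Rp _)) (J.Rp _)) (e2 i hi))
  refine ⟨J.LL_le h1 fun _ a _ b => J.Z0_comm b a, le_antisymm (commutator_le.2 fun x a y b => k1 x (h3 a) y (h3 b))
    (J.Z0_le (J.pg12 ▸ h4 0 (by decide)) (J.pg13 ▸ h4 1 (by decide)) (J.pg14 ▸ h4 2 (by decide))),
    fun x a => pow_two x ▸ k2 x (h3 a), ((card_le_of_le h3).trans (k3.trans (by simp [J.card_Z0]))).antisymm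
      (lowG (gd_gen (ex_of J.Rp _)) e3), ?_⟩
  rintro _ ⟨v, hv, b, rfl⟩ k
  have := ordp (pw (mul (J.Rp 22) (show J.R (J.e v * J.z ^ (b % 2)) (F2.nth eM.one ZL (v + 4 * (b % 2))) by
    rw [ZL, ← List.append_nil (List.map _ _), nth_lt _ _ (by omega), show (v + 4 * (b % 2)) / 4 = b % 2 by omega,
      show (v + 4 * (b % 2)) % 4 = v by omega]
    exact mz (J.Re _) _)) 4) Nat.prime_two (e4 _ (by omega))
  simp [J.zp_mod, k] at this

theorem cen_LL : J.LL ⊓ centralizer (J.LL : Set G) = J.Z0 := by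
  have := J.fin
  refine le_antisymm (fun g hg => ?_) (le_inf J.Z0_LL (le_centralizer_iff.1 J.LL_spec.1))
  obtain ⟨v, hv, l, hl, k, hk, rfl⟩ := J.mem_T.1 (J.LL_T hg.1)
  have h1 : ∀ i < 10, vL i < 4096 ∧ J.e v * k * J.e (vL i) * (J.e v * k)⁻¹ = J.e (vL i) * J.z ^ 0 := fun i hi =>
    ⟨(by decide : ∀ i < 10, vL i < 4096) i hi, by
      rw [pow_zero, mul_one, mul_inv_eq_iff_eq_mul]
      refine (hg.2 _ ?_).symm
      by_cases h : i < 8
      · exact J.pg_e h ▸ J.pg_LL (by omega)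
      · exact J.Z0_LL (J.e_Z0 ((by decide : ∀ i < 10, ¬i < 8 → vL i < 4) i hi h))⟩
  rcases bor_eq_true.1 (allLt_iff.1 T_chk l hl) with e | e
  · rw [beq_iff.1 e] at hk
    obtain ⟨b, -, rfl⟩ := hk.eq_zp
    refine ⟨v, blt_iff.1 ((bor_eq_true.1 (allBig_iff.1 W_chk v hv)).resolve_right fun e => ?_), b, rfl⟩
    obtain ⟨i, hi, e⟩ := anyLt_iff.1 e
    have := (h1 i hi).2
    rw [J.conj_zp (J.eH _), J.e_conj hv (h1 i hi).1, beq_iff.1 e, mul_right_inj, pow_one, pow_zero] at this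
    exact J.z_ne this
  · obtain ⟨i, hi, e⟩ := anyLt_iff.1 e
    have := h1 i (by omega)
    simp [(J.e_inj (app12_lt _ _) this.1 ((J.conj_e hv hk this.1).symm.trans this.2)).1] at e

theorem special_LL : IsSpecial 2 J.LL ∧ Nat.card (center J.LL) = 8 := by
  have := J.fin
  obtain ⟨-, h1, h2, -⟩ := J.LL_spec
  have p : IsPGroup 2 J.LL := J.pg_T.to_le J.LL_T
  have c : (center J.LL).map J.LL.subtype = J.Z0 := by rw [PGroup.map_subtype_center, J.cen_LL]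
  refine ⟨⟨p, map_injective J.LL.subtype_injective (c ▸ le_antisymm ((PGroup.map_subtype_frattini_le_iff p).2 ⟨h1.le, h2⟩)
    (h1 ▸ PGroup.commutator_le_map_subtype_frattini p)), map_injective J.LL.subtype_injective ?_⟩, ?_⟩
  · rw [map_subtype_commutator, h1, c]
  · rw [← card_map_of_injective J.LL.subtype_injective, c, J.card_Z0]

theorem norm_LL_le : normalizer (J.LL : Set G) ≤ normalizer (J.Z0 : Set G) := fun _ hg =>
  have := J.fin
  mem_normalizer_fintype fun x hx => J.cen_LL.le ⟨(mem_normalizer_iff.1 hg x).1 (J.cen_LL.ge hx).1,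
    (mem_normalizer_iff.1 (PGroup.normalizer_le_normalizer_centralizer _ hg) x).1 (J.cen_LL.ge hx).2⟩

theorem card_norm_Z0 : Nat.card (normalizer (J.Z0 : Set G)) ≤ 660602880 := by
  have := J.fin
  have h1 : (Grp.cl (normalizer (J.Z0 : Set G)) J.z).ncard ≤ 7 := by
    refine (Set.ncard_le_ncard (t := (J.Z0 : Set G) \ (⊥ : Subgroup G)) ?_).trans (by rw [ncard_diff_sub bot_le, J.card_Z0, card_bot])
    rintro _ ⟨k, hk, rfl⟩
    exact ⟨(mem_normalizer_iff.1 hk _).1 J.z_Z0, fun e => J.z_ne (conj_eq_one_iff.1 (mem_bot.1 e))⟩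
  have k : normalizer (J.Z0 : Set G) ⊓ centralizer {J.z} ≤ J.H := J.hH ▸ inf_le_right
  have h2 : J.im (normalizer (J.Z0 : Set G) ⊓ centralizer {J.z}) ≤ Du ⊓ MulAction.stabilizer M24 (Golay.G.toF 2064) :=
    le_inf (Loc.im_le _) fun x hx => by
      obtain ⟨g, hg, rfl⟩ := (Loc.mem_im k).1 hx
      obtain ⟨v, hv, b, e⟩ := (mem_normalizer_iff.1 hg.1 _).1 (J.e_Z0 (v := 1) (by decide))
      have v0 : v ≠ 0 := by
        rintro rfl
        rw [← J.conj_z (k hg) b, J.e_zero, one_mul, mul_left_inj, mul_right_inj, ← one_mul (J.z ^ b), ← J.e_zero,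
          ← mul_one (J.e 1), ← pow_zero J.z] at e
        exact absurd (J.e_inj (by decide) (by decide) e).1 (by decide)
      obtain ⟨u, hu, k, X, hk, rfl⟩ := J.dec' (k hg)
      have := hk.img_dl (v := 1) (by decide)
      rw [(J.e_inj (app12_lt _ _) (by omega) ((J.conj_e hu hk (by decide)).symm.trans e)).1,
        (by decide +kernel : ∀ v < 4, v ≠ 0 → dl v = 2064) v hv v0, show dl 1 = 2064 by decide +kernel] at this
      rw [J.φ_ek _ hk.memH]
      exact (hk.r.mem_stab_set (by decide)).2 this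
  rw [← Grp.ncard_cl_mul _ J.z, Loc.card_im k]
  exact (Nat.mul_le_mul h1 (Nat.mul_le_mul ((card_le_of_le inf_le_left).trans J.card_Kr.le)
    ((card_le_of_le h2).trans card_duad))).trans (by decide)

end Mod

end Cfsg.Lib.J4T
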