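import Cfsg.Agent.Lib.J4T.Pent

/-! # The normalisers of the elements of orders 5 and 7 of J₄ -/

set_option autoImplicit false
set_option maxRecDepth 100000

namespace Cfsg.Lib.J4T

open Cfsg.Lib.Calc Cfsg.Lib.F2 Cfsg.Lib.Mathieu Cfsg.Lib.Big Cfsg.Lib.J4 Subgroup Cfsg.Lib.Transfer
open scoped commutatorElement

/-- two more checks -/
noncomputable def pkE (C : ℕ → ℕ) : Bool :=
  band (eM.ordOK (eM.pw (eM.mul (C 17) (C 19)) 2) 3) (Nat.beq (eM.pw (C 19) 2) eM.one)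

theorem pkE_ok : pullS PG pP pI pkE = true := by decide +kernel
theorem pF : pkE pD = true := (pullS_eq _ _ _ _).symm.trans pkE_ok

variable {G : Type*} [Group G]

theorem lift_compl {E K : Subgroup G} [E.Normal] (h : E.IsComplement' K) (a : G) : ∃ k ∈ K, (k : G ⧸ E) = a := by
  obtain ⟨⟨x, y⟩, rfl, -⟩ := IsComplement.existsUnique h a
  exact ⟨y, y.2, by rw [QuotientGroup.mk_mul, (QuotientGroup.eq_one_iff _).2 x.2, one_mul]⟩

theorem eq_one_compl {E K : Subgroup G} [E.Normal] (h : E.IsComplement' K) {k : G} (a : k ∈ K) (b : (k : G ⧸ E) = 1) :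
    k = 1 := disjoint_def.1 h.disjoint ((QuotientGroup.eq_one_iff _).1 b) a

theorem exists_compl [Finite G] {x : G} {p m : ℕ} (hp : p.Prime) (hx : orderOf x = p)
    (hc : Nat.card (centralizer {x}) = p * m) (hm : ¬p ∣ m) : ∃ K ≤ centralizer {x}, zpowers x ⊓ K = ⊥ ∧
      zpowers x ⊔ K = centralizer {x} ∧ Nat.card K = m ∧ ∀ g ∈ centralizer {x}, ∀ n, ¬p ∣ n → g ^ n = 1 → g ∈ K := by
  have h1 : zpowers x ≤ centralizer {x} := zpowers_le.2 (mem_centralizer_singleton_iff.2 rfl)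
  have := (normal_subgroupOf_iff_le_normalizer h1).2 ((cen_zpowers x).ge.trans (centralizer_le_normalizer _))
  have h2 : Nat.card ((zpowers x).subgroupOf (centralizer {x})) = p := by
    rw [Nat.card_congr (subgroupOfEquivOfLe h1).toEquiv, Nat.card_zpowers, hx]
  have h3 := ((zpowers x).subgroupOf (centralizer {x})).card_mul_index
  rw [h2, hc, Nat.mul_right_inj hp.ne_zero] at h3
  obtain ⟨K, hK⟩ := exists_right_complement'_of_coprime (N := (zpowers x).subgroupOf (centralizer {x}))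
    (by rw [h2, h3]; exact (Nat.Prime.coprime_iff_not_dvd hp).2 hm)
  refine ⟨K.map (centralizer {x}).subtype, map_subtype_le K, eq_bot_iff.2 ?_, ?_, ?_, fun g hg n hn e => ?_⟩
  · rintro _ ⟨a, y, b, rfl⟩
    exact congrArg Subtype.val (disjoint_def.1 hK.disjoint a b)
  · rw [← map_subgroupOf_eq_of_le h1, ← Subgroup.map_sup, hK.sup_eq_top, ← MonoidHom.range_eq_map, range_subtype]
  · rw [card_map_of_injective (subtype_injective _), ← hK.symm.index_eq_card, h3]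
  · obtain ⟨k, a, b⟩ := lift_compl hK.symm.symm ⟨g, hg⟩
    have c := QuotientGroup.eq.1 b
    have d : Commute k (k⁻¹ * ⟨g, hg⟩) := Subtype.ext ((cen_zpowers x).ge k.2 _ c).symm
    have f : (k⁻¹ * ⟨g, hg⟩) ^ n = (k ^ n)⁻¹ := eq_inv_of_mul_eq_one_right (by
      rw [← d.mul_pow, mul_inv_cancel_left]; exact Subtype.ext e)
    have := orderOf_eq_one_iff.1 (Nat.eq_one_of_dvd_coprimes ((Nat.Prime.coprime_iff_not_dvd hp).2 hn)
      (h2 ▸ orderOf_dvd_natCard _ c) (orderOf_dvd_of_pow_eq_one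
        (disjoint_def.1 hK.disjoint (pow_mem c n) (f ▸ inv_mem (pow_mem a n)))))
    exact ⟨k, a, congrArg Subtype.val (inv_mul_eq_one.1 this)⟩

namespace Mod

variable (J : Mod G)

theorem gen_map {g : ℕ → G} {C : ℕ → ℕ} (h : ∀ i, J.R (g i) (C i)) (l : List ℕ) :
    gen J.R (l.map C) = closure {x | x ∈ l.map g} :=
  (J.law.closure_eq_gen (List.forall₂_map_left_iff.2 (List.forall₂_map_right_iff.2 (List.forall₂_same.2 fun i _ => h i)))).symm

theorem pg_NL (i : ℕ) : J.pg i ∈ normalizer (J.LL : Set G) := J.pg_mem (fun i hi => by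
  have := J.fin
  have h := fun k => J.law.normOK (ex_of J.Rp _) k (band_eq_true.1 (band_eq_true.1 pB).1).1
  simp only [List.map_cons, List.map_nil] at h
  by_cases k : i < 15
  · exact le_normalizer (J.pg_LL k)
  · obtain ⟨g, a, b⟩ := h (ex_of J.Rp [15, 16, 17, 18]) (pD i)
      (List.mem_map_of_mem (l := [15, 16, 17, 18]) (by simp; omega))
    exact J.law.uniq b (J.Rp i) ▸ a) i

theorem NL_spec : Nat.card (normalizer (J.LL : Set G)) = 660602880 ∧
    normalizer (J.LL : Set G) = gen J.R ([0, 15, 16, 17, 18].map pD) := by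
  have := J.fin
  have a := gen_le_of J.Rp (l := [0, 15, 16, 17, 18]) fun i _ => J.pg_NL i
  have b := lowG (gd_gen (ex_of J.Rp _)) (band_eq_true.1 pB).2
  have c := (card_le_of_le J.norm_LL_le).trans J.card_norm_Z0
  exact ⟨c.antisymm (b.trans (card_le_of_le a)), (eq_of_le_of_card_ge a (c.trans b)).symm⟩

/-- a subgroup `S₅` -/
noncomputable def K1 : Subgroup G := gen J.R ([15, 16].map pD)
/-- a subgroup `L₃(2)` -/
noncomputable def K2 : Subgroup G := gen J.R ([17, 18].map pD)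

theorem K1_le : J.K1 ≤ normalizer (J.LL : Set G) := gen_le_of J.Rp fun i _ => J.pg_NL i
theorem K2_le : J.K2 ≤ normalizer (J.LL : Set G) := gen_le_of J.Rp fun i _ => J.pg_NL i

theorem iso_K1 : Nonempty (J.K1 ≃* Equiv.Perm (Fin 5)) ∧ Nat.card J.K1 = 120 :=
  iso_of (inj_finPt 5) (faithful_finPt 5) (Grp.perm_list (by decide +kernel)) (ex_of J.Rp _) (band_eq_true.1 pC).1
    (Grp.card_perm_fin 5) (by decide +kernel)

theorem iso_K2 : Nonempty (J.K2 ≃* Matrix.SpecialLinearGroup (Fin 3) (ZMod 2)) ∧ Nat.card J.K2 = 168 :=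
  iso_of ((Grp.coded_zmod 2).inj_vec (k := 3) rfl) ((Grp.coded_zmod 2).faithful_SL rfl)
    ((Grp.coded_zmod 2).sl_list (As := [106, 124]) (r := 14) rfl (by decide +kernel)) (ex_of J.Rp _) (band_eq_true.1 pC).2
    (by rw [card_SL_F2]; decide) (by decide +kernel)

theorem pe : orderOf (J.pg 15) = 5 ∧ orderOf (J.pg 17) = 7 ∧
    (∀ i ∈ [12, 13, 14, 17, 19, 22], J.pg i ∈ centralizer {J.pg 15}) ∧ J.pg 16 * J.pg 17 = J.pg 17 * J.pg 16 ∧
    J.pg 17 * J.z ≠ J.z * J.pg 17 ∧ orderOf (J.pg 20) = 4 ∧ J.pg 21 * J.pg 17 * (J.pg 21)⁻¹ = J.pg 17 ^ 2 ∧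
    J.pg 18 ^ 2 = 1 ∧ J.pg 22 ^ 4 = J.z ∧ J.pg 19 * J.pg 18 ∈ centralizer (J.Z0 : Set G) ∧
    J.pg 20 * J.pg 15 * (J.pg 20)⁻¹ = J.pg 15 ^ 2 ∧ 256 ∣ Nat.card (normalizer (zpowers (J.pg 15) : Set G)) ∧
    2520 ≤ Nat.card ↥(normalizer (zpowers (J.pg 17) : Set G) ⊓ normalizer (J.LL : Set G)) ∧
    26880 ≤ Nat.card ↥(normalizer (zpowers (J.pg 15) : Set G) ⊓ normalizer (J.LL : Set G)) := by
  have := J.fin
  have e := pE
  simp only [pkD, band_eq_true, allL_iff, allLt_iff, Bool.not_eq_true'] at e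
  obtain ⟨⟨⟨a1, a2⟩, a3, a4, a5⟩, ⟨⟨a6, a7⟩, ⟨a8, a9⟩, a10⟩, ⟨a11, a12⟩, a13, a14⟩ := e
  have r := mul (J.Rp 19) (J.Rp 18)
  have c3 := fun i hi => com (J.Rp i) (J.Rp 15) (a3 i hi)
  have c7 := cj (J.Rp 21) (J.Rp 17) (pw (J.Rp 17) 2) a7
  have c11 := fun i hi => cj (J.Rp i) (J.Rp 15) (pw (J.Rp 15) _) (a11 i hi)
  have c4 := com (J.Rp _) (J.Rp _) a4
  have n : ∀ {x y : G}, x * y = y * x → x ∈ normalizer (zpowers y : Set G) := fun h =>
    mem_norm_zp (n := 1) (by rw [h]; simp)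
  refine ⟨ordp (J.Rp _) Nat.prime_five a1, ordp (J.Rp _) Nat.prime_seven a2,
    fun i hi => mem_centralizer_singleton_iff.2 (c3 i hi), c4, J.pg14 ▸ ncom (J.Rp _) (J.Rp _) a5,
    ord_pp (p := 2) (n := 1) (ordp (pw (J.Rp _) 2) Nat.prime_two a6), c7, pw_eq (J.Rp _) a8,
    J.pg14 ▸ eq (pw (J.Rp _) 4) (J.Rp 14) a9, J.cen_Z0 (com r (J.Rp _) (a10 0 (by decide)))
      (com r (J.Rp _) (a10 1 (by decide))) (com r (J.Rp _) (a10 2 (by decide))),
    (c11 20 (by simp)).trans (congrArg _ (by decide +kernel)),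
    pcG (ex_of J.Rp _) a12 ▸ card_dvd_of_le (gen_le_of J.Rp fun i hi => mem_norm_zp (c11 i (List.mem_cons_of_mem _ hi))),
    lowG (gd_map J.Rp fun i hi => ⟨?_, J.pg_NL i⟩) a13, lowG (gd_map J.Rp fun i hi => ⟨?_, J.pg_NL i⟩) a14⟩
  all_goals
    simp only [List.mem_cons, List.not_mem_nil, or_false] at hi
    rcases hi with rfl | rfl | rfl | rfl
  exacts [n rfl, mem_norm_zp c7, n (c3 17 (by simp)).symm, n c4, n rfl, mem_norm_zp (c11 20 (by simp)), n (c3 17 (by simp)),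
    n (c3 19 (by simp))]

theorem cm_K : ∀ a ∈ J.K1, ∀ b ∈ J.K2, a * b * a⁻¹ * b⁻¹ ∈ J.LL := by
  have := J.fin
  obtain ⟨L, h1, h2⟩ := J.law.slp (gd_gen (ex_of J.Rp _)) (band_eq_true.1 (band_eq_true.1 pB).1).2
  have k : ∀ i < 2, J.pg (15 + i) * J.pg 18 * (J.pg (15 + i))⁻¹ * (J.pg 18)⁻¹ ∈ J.LL := fun i hi => by
    obtain ⟨x, a, b⟩ := J.law.gd_nth h1 _
    rw [eq (mul (J.Rp _) (J.Rp _)) (mul b (mul (J.Rp _) (J.Rp _))) (allLt_iff.1 h2 i hi)]
    simpa [mul_assoc, LL] using a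
  rw [K1, K2, J.gen_map J.Rp, J.gen_map J.Rp]
  refine cm_closure le_rfl (List.forall_mem_map.2 fun i _ => J.pg_NL i) (List.forall_mem_map.2 fun i _ => J.pg_NL i) ?_
  have a := mem_centralizer_singleton_iff.1 (J.pe.2.2.1 17 (by simp))
  have b := J.pe.2.2.2.1
  simp only [List.map, List.mem_cons, List.not_mem_nil, or_false, Set.mem_ofPred_eq]
  rintro _ (rfl | rfl) _ (rfl | rfl)
  exacts [by simp [← a], k 0 (by decide), by simp [b], k 1 (by decide)]

theorem quot_NL : Nonempty (normalizer (J.LL : Set G) ⧸ J.LL.subgroupOf (normalizer (J.LL : Set G)) ≃*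
    Equiv.Perm (Fin 5) × Matrix.SpecialLinearGroup (Fin 3) (ZMod 2)) := by
  have := J.fin
  obtain ⟨⟨e1⟩, c1⟩ := J.iso_K1
  obtain ⟨⟨e2⟩, c2⟩ := J.iso_K2
  let π := QuotientGroup.mk' (J.LL.subgroupOf (normalizer (J.LL : Set G)))
  let F := (π.comp (inclusion J.K1_le)).noncommCoprod (π.comp (inclusion J.K2_le)) fun a b =>
    commutatorElement_eq_one_iff_commute.1 ((map_commutatorElement π _ _).symm.trans
      ((QuotientGroup.eq_one_iff _).2 (J.cm_K a a.2 b b.2)))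
  have h : normalizer (J.LL : Set G) ≤ (F.range.comap π).map (Subgroup.subtype _) := J.NL_spec.2.le.trans
    (gen_le_of J.Rp fun i hi => ⟨⟨_, J.pg_NL i⟩, by
      simp only [List.mem_cons, List.not_mem_nil, or_false] at hi
      rcases hi with rfl | rfl | rfl | rfl | rfl
      exacts [⟨1, (map_one F).trans ((QuotientGroup.eq_one_iff (⟨_, J.pg_NL 0⟩ : normalizer _)).2
          (J.pg_LL (by decide))).symm⟩,
        ⟨(⟨_, mem_gen_of J.Rp (by simp)⟩, 1), mul_one _⟩, ⟨(⟨_, mem_gen_of J.Rp (by simp)⟩, 1), mul_one _⟩,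
        ⟨(1, ⟨_, mem_gen_of J.Rp (by simp)⟩), one_mul _⟩, ⟨(1, ⟨_, mem_gen_of J.Rp (by simp)⟩), one_mul _⟩], rfl⟩)
  refine ⟨(MulEquiv.ofBijective F ((Nat.bijective_iff_surjective_and_card F).2 ⟨fun q => ?_, ?_⟩)).symm.trans
    (e1.prodCongr e2)⟩
  · obtain ⟨n, rfl⟩ := QuotientGroup.mk'_surjective _ q
    obtain ⟨m, a, b⟩ := h n.2
    exact Subtype.ext b ▸ a
  · have := (J.LL.subgroupOf (normalizer (J.LL : Set G))).card_mul_index
    rw [Nat.card_congr (subgroupOfEquivOfLe le_normalizer).toEquiv, J.LL_spec.2.2.2.1, J.NL_spec.1] at this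
    rw [Nat.card_prod, c1, c2, ← index_eq_card]
    omega

theorem five : Nat.card (normalizer (zpowers (J.pg 15) : Set G)) = 26880 ∧ Nat.card (centralizer {J.pg 15}) = 6720 ∧
    normalizer (zpowers (J.pg 15) : Set G) ≤ normalizer (J.LL : Set G) := by
  have := J.fin
  have : Fact (Nat.Prime 5) := ⟨Nat.prime_five⟩
  obtain ⟨o5, o7, a, -, -, -, -, -, -, -, b, c, -, d⟩ := J.pe
  have k := (cen_zpowers (J.pg 15)).ge.trans (centralizer_le_normalizer _)
  have h1 := o7 ▸ orderOf_dvd_natCard _ (k (a 17 (by simp)))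
  have h2 := ordp (pw (mul (J.Rp 17) (J.Rp 19)) 2) Nat.prime_three (band_eq_true.1 pF).1 ▸
    orderOf_dvd_natCard _ (k (pow_mem (mul_mem (a 17 (by simp)) (a 19 (by simp))) 2))
  have h3 := J.norm5_lt o5
  obtain ⟨m, h4, h5⟩ := norm_card1 (m := 17355114209215512576) (mem_top _) o5 (by rw [card_top, J.card]) (by decide)
  rw [top_inf_eq] at h4
  have h6 : Nat.card (normalizer (zpowers (J.pg 15) : Set G)) = 26880 := by
    have p := Nat.card_pos (α := normalizer (zpowers (J.pg 15) : Set G))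
    generalize Nat.card (normalizer (zpowers (J.pg 15) : Set G)) = n at *
    obtain ⟨r, rfl⟩ : 26880 ∣ n := Nat.Coprime.mul_dvd_of_dvd_of_dvd (m := 256 * 7 * 3) (n := 5) (by decide)
      (Nat.Coprime.mul_dvd_of_dvd_of_dvd (by decide) (Nat.Coprime.mul_dvd_of_dvd_of_dvd (by decide) c h1) h2) ⟨m, h4⟩
    have : r < 6 := by clear * - h3; omega
    have : m = 5376 * r := by clear * - h4; omega
    subst this
    interval_cases r <;> revert h5 p <;> decide
  have h7 := card_cen_le_of (n := 6720) (e := 4) (mem_norm_zp b) b o5 (by decide) (by decide) h6.le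
  have h8 := card_norm_dvd ⊤ (J.pg 15)
  rw [inf_eq_right.2 k] at h7
  rw [top_inf_eq, top_inf_eq, h6, o5, show Nat.totient 5 = 4 by decide] at h8
  have := Nat.le_of_dvd (Nat.mul_pos Nat.card_pos (by decide)) h8
  exact ⟨h6, by clear * - this h7; omega, inf_eq_left.1 (eq_of_le_of_card_ge inf_le_left (h6.le.trans d))⟩

theorem seven : Nat.card (normalizer (zpowers (J.pg 17) : Set G)) = 2520 ∧ Nat.card (centralizer {J.pg 17}) = 840 ∧
    normalizer (zpowers (J.pg 17) : Set G) ≤ normalizer (J.LL : Set G) ∧ J.K1 ≤ centralizer {J.pg 17} ∧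
    zpowers (J.pg 17) ⊓ J.K1 = ⊥ ∧ zpowers (J.pg 17) ⊔ J.K1 = centralizer {J.pg 17} := by
  have := J.fin
  have : Fact (Nat.Prime 7) := ⟨Nat.prime_seven⟩
  obtain ⟨-, o7, a, b, -, -, c, -, -, -, -, -, d, -⟩ := J.pe
  have k := (cen_zpowers (J.pg 17)).ge.trans (centralizer_le_normalizer _)
  have h1 : J.K1 ≤ centralizer {J.pg 17} := gen_le_of J.Rp (by
    simpa [mem_centralizer_singleton_iff] using ⟨(mem_centralizer_singleton_iff.1 (a 17 (by simp))).symm, b⟩)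
  have h2 : zpowers (J.pg 17) ⊓ J.K1 = ⊥ := (disjoint_of_coprime_natCard
    (by rw [Nat.card_zpowers, o7, J.iso_K1.2]; decide)).eq_bot
  have h3 := card_sup_comm (fun x hx y hy => (cen_zpowers _).ge (h1 hy) x hx) h2
  have h4 : zpowers (J.pg 17) ⊔ J.K1 ≤ centralizer {J.pg 17} :=
    sup_le (zpowers_le.2 (mem_centralizer_singleton_iff.2 rfl)) h1
  rw [Nat.card_zpowers, o7, J.iso_K1.2] at h3
  have h5 := h3 ▸ card_dvd_of_le (h4.trans k)
  have h6 := J.norm7_le o7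
  obtain ⟨m, h7, h8⟩ := norm_card1 (m := 12396510149439651840) (mem_top _) o7 (by rw [card_top, J.card]) (by decide)
  rw [top_inf_eq] at h7
  have h9 : Nat.card (normalizer (zpowers (J.pg 17) : Set G)) = 2520 := by
    have : Nat.card (normalizer (zpowers (J.pg 17) : Set G)) ≠ 8400 := fun e =>
      absurd (J.card ▸ e ▸ card_subgroup_dvd_card _) (by decide)
    omega
  have h10 := card_cen_le_of (n := 840) (e := 3) (mem_norm_zp c) c o7 (by decide) (by decide) h9.le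
  rw [inf_eq_right.2 k] at h10
  exact ⟨h9, h10.antisymm (h3.ge.trans (card_le_of_le h4)), inf_eq_left.1 (eq_of_le_of_card_ge inf_le_left (h9.le.trans d)), h1, h2,
    eq_of_le_of_card_ge h4 (h10.trans h3.ge)⟩

theorem LL_cen5 : J.LL ⊓ centralizer {J.pg 15} ≤ J.Z0 := by
  have := J.fin
  have : Fact (Nat.Prime 5) := ⟨Nat.prime_five⟩
  have h1 := card_modEq_cen' (J.pe.1 ▸ pow_orderOf_eq_one _) (J.pg_NL 15)
  have h2 := J.five.2.1 ▸ card_dvd_of_le (inf_le_right : J.LL ⊓ centralizer {J.pg 15} ≤ _)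
  have h3 := J.LL_spec.2.2.2.1
  obtain ⟨i, -, h4⟩ := (Nat.dvd_prime_pow Nat.prime_two).1 (h3 ▸ card_dvd_of_le (inf_le_left : J.LL ⊓ centralizer {J.pg 15} ≤ _))
  refine (eq_of_le_of_card_ge (le_inf J.Z0_LL (J.Z0_le (J.pg12 ▸ J.pe.2.2.1 12 (by simp)) (J.pg13 ▸ J.pe.2.2.1 13 (by simp))
    (J.pg14 ▸ J.pe.2.2.1 14 (by simp)))) ?_).ge
  rw [h3, h4] at h1
  rw [h4] at h2
  rw [h4, J.card_Z0]
  have : i < 7 := by_contra fun k => absurd ((pow_dvd_pow 2 (not_lt.1 k)).trans h2) (by decide)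
  interval_cases i <;> revert h1 <;> decide

theorem nonsplit_NL (K : Subgroup (normalizer (J.LL : Set G))) :
    ¬(J.LL.subgroupOf (normalizer (J.LL : Set G))).IsComplement' K := fun h => by
  have := J.fin
  have : Fact (Nat.Prime 5) := ⟨Nat.prime_five⟩
  obtain ⟨o5, -, a, -, -, -, -, -, b, -⟩ := J.pe
  let x : normalizer (J.LL : Set G) := ⟨_, J.pg_NL 15⟩
  let j : normalizer (J.LL : Set G) := ⟨_, J.pg_NL 22⟩
  have xj : x * j = j * x := Subtype.ext (mem_centralizer_singleton_iff.1 (a 22 (by simp))).symm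
  have ox : orderOf x = 5 := (orderOf_coe x).symm.trans o5
  obtain ⟨y, y1, y2⟩ := lift_compl h x
  obtain ⟨u, u1, u2⟩ := lift_compl h j
  have y3 : orderOf y = 5 := orderOf_eq_prime (eq_one_compl h (pow_mem y1 5) (by
      rw [QuotientGroup.mk_pow, y2, ← QuotientGroup.mk_pow, ← ox, pow_orderOf_eq_one]; rfl)) fun e => by
    have := orderOf_dvd_natCard J.LL (x := J.pg 15) (mem_subgroupOf.1 ((QuotientGroup.eq_one_iff x).1
      (y2.symm.trans (by rw [e]; rfl))))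
    rw [o5, J.LL_spec.2.2.2.1] at this
    exact absurd this (by decide)
  have u3 : u ^ 4 = 1 := eq_one_compl h (pow_mem u1 4) (by
    rw [QuotientGroup.mk_pow, u2, ← QuotientGroup.mk_pow]
    exact (QuotientGroup.eq_one_iff _).2 (show J.pg 22 ^ 4 ∈ J.LL from b ▸ J.Z0_LL J.z_Z0))
  have yu : y * u = u * y := mul_inv_eq_one.1 (eq_one_compl h (mul_mem (mul_mem y1 u1) (inv_mem (mul_mem u1 y1))) (by
    rw [QuotientGroup.mk_mul, QuotientGroup.mk_inv, QuotientGroup.mk_mul, QuotientGroup.mk_mul, y2, u2,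
      ← QuotientGroup.mk_mul, xj, QuotientGroup.mk_mul, mul_inv_cancel]))
  obtain ⟨g, hg, e⟩ := conj_zp (p := 5) (N := (centralizer {(j : _ ⧸ J.LL.subgroupOf _)}).comap (QuotientGroup.mk' _))
    (fun k => absurd (J.NL_spec.1 ▸ k.trans (card_subgroup_dvd_card _)) (by decide))
    (x := y) (mem_centralizer_singleton_iff.2 (u2 ▸ congrArg _ yu)) (mem_centralizer_singleton_iff.2 (congrArg _ xj)) y3 ox
  have k1 : j⁻¹ * (g * u * g⁻¹) ∈ J.LL.subgroupOf _ := QuotientGroup.eq.1 (by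
    rw [QuotientGroup.mk_mul, QuotientGroup.mk_mul, u2, QuotientGroup.mk_inv, eq_mul_inv_iff_mul_eq]
    exact (mem_centralizer_singleton_iff.1 hg).symm)
  have k2 : x * (g * u * g⁻¹) = g * u * g⁻¹ * x := (cen_zpowers _).ge (mem_centralizer_singleton_iff.2 (by
    rw [conj_mul, conj_mul, yu])) x (e.ge (mem_zpowers x))
  refine J.LL_spec.2.2.2.2 _ (J.LL_cen5 ⟨k1, mul_mem ((centralizer _).inv_mem (a 22 (by simp)))
    (mem_centralizer_singleton_iff.2 (congrArg Subtype.val k2).symm)⟩) ?_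
  exact congrArg Subtype.val (show (j * (j⁻¹ * (g * u * g⁻¹))) ^ 4 = 1 by rw [mul_inv_cancel_left, conj_pow, u3]; simp)

theorem five_J : ∃ K ≤ centralizer {J.pg 15}, zpowers (J.pg 15) ⊓ K = ⊥ ∧ zpowers (J.pg 15) ⊔ K = centralizer {J.pg 15} ∧
    ∃ (E : Subgroup K) (_ : E.Normal), IsElementaryAbelian 2 E ∧ Nat.card E = 8 ∧
      Nonempty (K ⧸ E ≃* Matrix.SpecialLinearGroup (Fin 3) (ZMod 2)) ∧ ∀ K' : Subgroup K, ¬E.IsComplement' K' := by
  have := J.fin
  obtain ⟨o5, o7, a, -, b, -, -, c, d, e, -⟩ := J.pe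
  obtain ⟨K, k1, k2, k3, k4, k5⟩ := exists_compl (m := 1344) Nat.prime_five o5 J.five.2.1 (by decide)
  have hN : centralizer {J.pg 15} ≤ normalizer (J.Z0 : Set G) :=
    (((cen_zpowers _).ge.trans (centralizer_le_normalizer _)).trans J.five.2.2).trans J.norm_LL_le
  have hZ : J.Z0 ≤ K := fun x hx => k5 x (J.Z0_le (J.pg12 ▸ a 12 (by simp)) (J.pg13 ▸ a 13 (by simp))
    (J.pg14 ▸ a 14 (by simp)) hx) 2 (by decide) (J.Z0_sq hx)
  have := (normal_subgroupOf_iff_le_normalizer hZ).2 (k1.trans hN)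
  have c8 : Nat.card (J.Z0.subgroupOf K) = 8 := (Nat.card_congr (subgroupOfEquivOfLe hZ).toEquiv).trans J.card_Z0
  have j4 : J.pg 22 ∈ K := k5 _ (a 22 (by simp)) 8 (by decide) (by rw [show 8 = 4 * 2 from rfl, pow_mul, d, sq, J.zz])
  refine ⟨K, k1, k2, k3, J.Z0.subgroupOf K, this, ⟨⟨⟨fun x y => Subtype.ext (Subtype.ext (J.Z0_comm x.2 y.2))⟩⟩,
    fun x hx => Subtype.ext (J.Z0_sq hx)⟩, c8, ?_, fun K' h => ?_⟩
  · obtain ⟨⟨e2⟩, c2⟩ := J.iso_K2
    have n2 := J.K2_le.trans J.norm_LL_le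
    let f := J.Z0.normalizerMonoidHom.comp (inclusion (k1.trans hN))
    let θ := J.Z0.normalizerMonoidHom.comp (inclusion n2)
    have x7 : J.pg 17 ∈ J.K2 := mem_gen_of J.Rp (by simp)
    have i0 := inj_SL_F2 (n := 0) (θ.comp e2.symm.toMonoidHom) ⟨e2 ⟨_, x7⟩, fun k => b (by
      have k' : θ ⟨_, x7⟩ = 1 := by simpa using k
      have : (⟨_, n2 x7⟩ : normalizer (J.Z0 : Set G)) ∈ J.Z0.normalizerMonoidHom.ker := k'
      rw [normalizerMonoidHom_ker] at this
      exact (this _ J.z_Z0).symm)⟩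
    have i1 : Function.Injective θ := fun x y h => e2.injective (i0 (by simpa using h))
    have i2 := card_aut_dvd (G := J.Z0) (p := 2) (n := 3) (fun x y => Subtype.ext (J.Z0_comm x.2 y.2))
      (fun x => Subtype.ext (J.Z0_sq x.2)) J.card_Z0.le
    have i3 : Function.Bijective θ := (Nat.bijective_iff_injective_and_card θ).2 ⟨i1, (Nat.card_le_card_of_injective θ i1).antisymm
      (c2 ▸ Nat.le_of_dvd (by decide) i2)⟩
    have i4 : J.K2 ≤ (f.range.comap J.Z0.normalizerMonoidHom).map (Subgroup.subtype _) := gen_le_of J.Rp fun i hi => by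
      simp only [List.mem_cons, List.not_mem_nil, or_false] at hi
      rcases hi with rfl | rfl
      · exact ⟨⟨_, n2 x7⟩, ⟨⟨_, k5 _ (a 17 (by simp)) 7 (by decide) (o7 ▸ pow_orderOf_eq_one _)⟩, rfl⟩, rfl⟩
      · have k19 := k5 _ (a 19 (by simp)) 2 (by decide) (pw_eq (J.Rp 19) (band_eq_true.1 pF).2)
        have k18 : J.pg 18 ∈ J.K2 := mem_gen_of J.Rp (by simp)
        refine ⟨⟨_, n2 k18⟩, ⟨⟨_, k19⟩⁻¹, (map_inv f _).trans (inv_eq_of_mul_eq_one_right ((map_mul _ _ _).symm.trans ?_))⟩, rfl⟩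
        change _ ∈ J.Z0.normalizerMonoidHom.ker
        rw [normalizerMonoidHom_ker]
        exact e
    have i5 : Function.Surjective f := fun y => by
      obtain ⟨x, rfl⟩ := i3.2 y
      obtain ⟨m, p, q⟩ := i4 x.2
      obtain rfl : m = inclusion n2 x := Subtype.ext q
      exact p
    have i6 := f.ker.card_mul_index
    rw [index_ker, MonoidHom.range_eq_top.2 i5, card_top, ← Nat.card_eq_of_bijective θ i3, c2, k4] at i6
    exact ⟨(QuotientGroup.quotientMulEquivOfEq (eq_of_le_of_card_ge (fun x hx => by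
      change _ ∈ J.Z0.normalizerMonoidHom.ker
      rw [normalizerMonoidHom_ker]
      exact fun y hy => J.Z0_comm hy hx) (by omega))).trans ((QuotientGroup.quotientKerEquivOfSurjective f i5).trans
        ((MulEquiv.ofBijective θ i3).symm.trans e2))⟩
  · obtain ⟨u, u1, u2⟩ := lift_compl h ⟨_, j4⟩
    have u3 : u ^ 4 = 1 := eq_one_compl h (pow_mem u1 4) (by
      rw [QuotientGroup.mk_pow, u2, ← QuotientGroup.mk_pow]
      exact (QuotientGroup.eq_one_iff _).2 (show J.pg 22 ^ 4 ∈ J.Z0 from d ▸ J.z_Z0))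
    exact J.LL_spec.2.2.2.2 _ (mem_subgroupOf.1 (QuotientGroup.eq.1 u2.symm)) (congrArg Subtype.val
      (show (⟨_, j4⟩ * (⟨_, j4⟩⁻¹ * u) : K) ^ 4 = 1 by rw [mul_inv_cancel_left, u3]))

theorem frob20 : ∃ R : Subgroup G, zpowers (J.pg 15) ≤ R ∧ R ≤ normalizer (zpowers (J.pg 15) : Set G) ∧ Nat.card R = 20 ∧
    R ⊓ centralizer {J.pg 15} = zpowers (J.pg 15) := by
  have := J.fin
  obtain ⟨o5, -, -, -, -, o4, -, -, -, -, b, -⟩ := J.pe
  have n := zpowers_le.2 (mem_norm_zp b)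
  have c : Nat.card ↥(zpowers (J.pg 20) ⊔ zpowers (J.pg 15)) = 20 :=
    ((card_sup_le (p := 4) (by decide) (by rw [← o4, pow_orderOf_eq_one]; exact one_mem _) fun x hx =>
      (mem_normalizer_iff''.1 (n (mem_zpowers _)) x).1 hx).trans (by rw [Nat.card_zpowers, o5])).antisymm (Nat.le_of_dvd Nat.card_pos
      (Nat.Coprime.mul_dvd_of_dvd_of_dvd (m := 4) (n := 5) (by decide)
        (o4 ▸ orderOf_dvd_natCard _ (mem_sup_left (mem_zpowers _))) (o5 ▸ orderOf_dvd_natCard _ (mem_sup_right (mem_zpowers _)))))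
  refine ⟨_, le_sup_right, sup_le n le_normalizer, c, (eq_of_le_of_card_ge (le_inf le_sup_right
    (zpowers_le.2 (mem_centralizer_singleton_iff.2 rfl))) ?_).symm⟩
  rw [Nat.card_zpowers, o5]
  exact card_cen_le_of (e := 4) (mem_sup_left (mem_zpowers _)) b o5 (by decide) (by decide) c.le

include J in
theorem wlog_pg {p : ℕ} [Fact p.Prime] (h : ¬p ^ 2 ∣ 86775571046077562880) {i : ℕ} (hx : orderOf (J.pg i) = p)
    {Q : Subgroup G} (hQ : Nat.card Q = p) : ∃ J' : Mod G, Q = zpowers (J'.pg i) :=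
  let ⟨g, e⟩ := J.conj_Q h hx hQ
  ⟨J.map (MulAut.conj g), e.trans (congrArg zpowers (g_map (MulAut.conj g) (J.Rp i)).symm)⟩

end Mod

end Cfsg.Lib.J4T
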