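import Cfsg.Agent.Lib.J4T.ModB
import Cfsg.Agent.Lib.U3R.Main
import Cfsg.Agent.Lib.Perm.Sharp3

/-! # Groups of rank one given by relations -/

set_option autoImplicit false

namespace Cfsg.Lib.J4T

open Subgroup MulAction Cfsg.Lib.Big Cfsg.Lib.PSL2
open scoped MatrixGroups

variable {G : Type*} [Group G]

/-- The relations of a group of rank one. -/
structure Rk (U : Subgroup G) (h w : G) : Prop where
  nU : h ∈ normalizer (U : Set G)
  nw : w ∈ normalizer (zpowers h : Set G)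
  sq : w * w = 1
  rel : ∀ u ∈ U, u ≠ 1 → ∃ a ∈ U, ∃ t ∈ zpowers h, ∃ b ∈ U, w * u * w = a * t * w * b
  cop : (Nat.card U).Coprime (orderOf h)
  nB : w ∉ normalizer (U : Set G)

theorem norm_sub {K S : Subgroup G} (h : S ≤ K) {g : K} : g ∈ normalizer (S.subgroupOf K : Set K) ↔
    g.1 ∈ normalizer (S : Set G) := by rw [← subgroupOf_normalizer_eq h, mem_subgroupOf]

theorem zp_sub {K : Subgroup G} (g : K) : zpowers g = (zpowers g.1).subgroupOf K :=
  Subgroup.ext fun _ => ⟨fun ⟨n, e⟩ => ⟨n, congrArg Subtype.val e⟩, fun ⟨n, e⟩ => ⟨n, Subtype.ext e⟩⟩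

theorem ext_index [Finite G] {K : Subgroup G} {s : G} {p : ℕ} (hp : p.Prime) (h1 : s ∈ normalizer (K : Set G))
    (h2 : s ^ p = 1) (h3 : s ∉ K) : (K.subgroupOf (zpowers s ⊔ K)).Normal ∧ (K.subgroupOf (zpowers s ⊔ K)).index = p ∧
      Nat.card ↥(zpowers s ⊔ K) = p * Nat.card K := by
  have := Fact.mk hp
  have o : Nat.card (zpowers s) = p := by
    rw [Nat.card_zpowers, orderOf_eq_prime h2 fun e => h3 (e ▸ one_mem _)]
  have c := Core.card_sup_of_disjoint (zpowers_le.2 h1) (by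
    rcases (Nat.dvd_prime hp).1 (o ▸ card_dvd_of_le (inf_le_left : zpowers s ⊓ K ≤ _)) with e | e
    · exact eq_bot_of_card_eq _ e
    · exact absurd ((eq_of_le_of_card_ge inf_le_left (o.trans e.symm).le).ge (mem_zpowers s)).2 h3)
  have e := Core.card_mul_relIndex (le_sup_right : K ≤ zpowers s ⊔ K)
  rw [o] at c
  exact ⟨(normal_subgroupOf_iff_le_normalizer le_sup_right).2 (sup_le (zpowers_le.2 h1) le_normalizer),
    Nat.eq_of_mul_eq_mul_left Nat.card_pos (e.trans (c.trans (mul_comm _ _))), c⟩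

namespace Rk

variable {U : Subgroup G} {h w : G} (H : Rk U h w)
include H

theorem wi : w⁻¹ = w := inv_eq_of_mul_eq_one_right H.sq
theorem B_le : U ⊔ zpowers h ≤ normalizer (U : Set G) := sup_le le_normalizer (zpowers_le.2 H.nU)
theorem cU {b u : G} (hb : b ∈ U ⊔ zpowers h) (hu : u ∈ U) : b * u * b⁻¹ ∈ U := (mem_normalizer_iff.1 (H.B_le hb) u).1 hu
theorem cw {t : G} (ht : t ∈ zpowers h) : w * t * w ∈ zpowers h := by
  simpa only [H.wi] using (mem_normalizer_iff.1 H.nw t).1 ht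

theorem mem_B {g : G} (hg : g ∈ U ⊔ zpowers h) : ∃ u ∈ U, ∃ t ∈ zpowers h, u * t = g := by
  rwa [← SetLike.mem_coe, coe_mul_of_right_le_normalizer_left _ _ (zpowers_le.2 H.nU)] at hg

theorem disj : U ⊓ zpowers h = ⊥ := (disjoint_of_coprime_natCard (Nat.card_zpowers h ▸ H.cop)).eq_bot

theorem inj {u : G} (hu : u ∈ U) (e : w * u * w ∈ U ⊔ zpowers h) : u = 1 := by_contra fun k => by
  obtain ⟨a, ha, t, ht, b, hb, k⟩ := H.rel u hu k
  rw [k, mul_mem_cancel_right (mem_sup_left hb), mul_mem_cancel_left (mul_mem_sup ha ht)] at e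
  exact H.nB (H.B_le e)

theorem sub : Rk (U.subgroupOf (U ⊔ zpowers h ⊔ zpowers w)) ⟨h, mem_sup_left (mem_sup_right (mem_zpowers h))⟩
    ⟨w, mem_sup_right (mem_zpowers w)⟩ :=
  have a : U ≤ U ⊔ zpowers h ⊔ zpowers w := le_sup_left.trans le_sup_left
  have b : zpowers h ≤ U ⊔ zpowers h ⊔ zpowers w := le_sup_right.trans le_sup_left
  ⟨(norm_sub a).2 H.nU, by rw [zp_sub]; exact (norm_sub b).2 H.nw, Subtype.ext H.sq, fun u hu e =>
    let ⟨x, x1, t, t1, y, y1, k⟩ := H.rel u hu fun k => e (Subtype.ext k)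
    ⟨⟨x, a x1⟩, x1, ⟨t, b t1⟩, by rwa [zp_sub], ⟨y, a y1⟩, y1, Subtype.ext k⟩,
    by rw [Nat.card_congr (subgroupOfEquivOfLe a).toEquiv, orderOf_mk]; exact H.cop, fun k => H.nB ((norm_sub a).1 k)⟩

omit H in
theorem sub_top : U.subgroupOf (U ⊔ zpowers h ⊔ zpowers w) ⊔ zpowers ⟨h, mem_sup_left (mem_sup_right (mem_zpowers h))⟩ ⊔
    zpowers ⟨w, mem_sup_right (mem_zpowers w)⟩ = ⊤ := by
  rw [zp_sub, zp_sub, ← subgroupOf_sup (le_sup_left.trans le_sup_left) (le_sup_right.trans le_sup_left),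
    ← subgroupOf_sup le_sup_left le_sup_right, subgroupOf_self]

theorem card_B : Nat.card ↥(U ⊔ zpowers h) = Nat.card U * orderOf h := by
  rw [sup_comm, Core.card_sup_of_disjoint (zpowers_le.2 H.nU) (inf_comm U _ ▸ H.disj), Nat.card_zpowers, mul_comm]

theorem cN {N : Subgroup G} (hN : N.Normal) {n : G} (a : n ∈ N) : w * n * w ∈ N := by
  simpa only [H.wi] using hN.conj_mem n a w

variable [Finite G]

theorem dec {g : G} (hg : g ∈ U ⊔ zpowers h ⊔ zpowers w) :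
    g ∈ U ⊔ zpowers h ∨ ∃ a ∈ U, ∃ b ∈ U ⊔ zpowers h, g = a * w * b := by
  let P := fun g => g ∈ U ⊔ zpowers h ∨ ∃ a ∈ U, ∃ b ∈ U ⊔ zpowers h, g = a * w * b
  have k : U ⊔ zpowers h ⊔ zpowers w ≤ subOf (fun x => ∀ g, P g → P (x * g)) (fun g e => by rwa [one_mul])
      fun x y a b g e => mul_assoc x y g ▸ a _ (b g e) := by
    refine sup_le (fun x hx g e => e.imp (mul_mem hx) ?_) (zpowers_le.2 ?_)
    · rintro ⟨a, ha, b, hb, rfl⟩
      obtain ⟨u, hu, t, ht, rfl⟩ := H.mem_B hx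
      exact ⟨_, mul_mem hu (H.cU (mem_sup_right ht) ha), _, mul_mem (mem_sup_right (H.cw ht)) hb, by
        simp only [mul_assoc, ← mul_assoc w w, H.sq, one_mul, inv_mul_cancel_left]⟩
    rintro g (e | ⟨a, ha, b, hb, rfl⟩)
    · exact Or.inr ⟨1, one_mem _, g, e, by rw [one_mul]⟩
    by_cases e : a = 1
    · exact Or.inl (by rwa [e, one_mul, ← mul_assoc, H.sq, one_mul])
    obtain ⟨a', ha', t, ht, b', hb', k⟩ := H.rel a ha e
    exact Or.inr ⟨a', ha', _, mul_mem (mul_mem (mem_sup_right (H.cw ht)) (mem_sup_left hb')) hb, by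
      rw [← mul_assoc, ← mul_assoc, k]; simp only [mul_assoc, ← mul_assoc w w, H.sq, one_mul]⟩
  simpa using k hg 1 (Or.inl (one_mem _))

theorem ext {s : G} (h1 : s ∈ normalizer (U : Set G)) (h2 : s ∈ normalizer (zpowers h : Set G))
    (h3 : s * w = w * s) (h4 : s * h ≠ h * s) :
    s ∈ normalizer ((U ⊔ zpowers h ⊔ zpowers w : Subgroup G) : Set G) ∧
      s ∉ U ⊔ zpowers h ⊔ zpowers w := by
  refine ⟨normalizer_inf_normalizer_le_normalizer_sup _ _ ⟨normalizer_inf_normalizer_le_normalizer_sup _ _ ⟨h1, h2⟩,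
    centralizer_le_normalizer _ (by rw [cen_zpowers]; exact mem_centralizer_singleton_iff.2 h3)⟩, fun k => ?_⟩
  rcases H.dec k with e | ⟨a, ha, b, hb, rfl⟩
  · obtain ⟨u, hu, t, ht, rfl⟩ := H.mem_B e
    have : u = 1 := H.inj hu (by
      rw [show w * u * w = u * t * (w * t * w)⁻¹ by
        rw [mul_inv_rev, mul_inv_rev, H.wi, ← mul_assoc, h3]; simp only [mul_assoc, ← mul_assoc w w, H.sq]; group]
      exact mul_mem e (inv_mem (mem_sup_right (H.cw ht))))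
    obtain ⟨n, rfl⟩ := ht
    exact h4 (by rw [this, one_mul]; exact (Commute.zpow_self h n).eq)
  · exact H.nB ((mul_mem_cancel_left (le_normalizer ha)).1 ((mul_mem_cancel_right (H.B_le hb)).1 h1))

variable (T : U ⊔ zpowers h ⊔ zpowers w = ⊤)

omit H [Finite G] in
theorem fix {g : G} : g • ((1 : G) : G ⧸ (U ⊔ zpowers h)) = (1 : G) ↔ g ∈ U ⊔ zpowers h := by
  rw [← mem_stabilizer_iff, stabilizer_quotient]

omit [Finite G] in
theorem fix' {g : G} : g • (w : G ⧸ (U ⊔ zpowers h)) = w ↔ w * g * w ∈ U ⊔ zpowers h := by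
  rw [Quotient.smul_coe, eq_comm, QuotientGroup.eq, H.wi, smul_eq_mul, mul_assoc]

omit [Finite G] in
theorem ne : (w : G ⧸ (U ⊔ zpowers h)) ≠ (1 : G) := fun e =>
  H.nB (H.B_le (by simpa using QuotientGroup.eq.1 e.symm))

omit [Finite G] in
theorem memH (g : G) : g ∈ zpowers h ↔ g • ((1 : G) : G ⧸ (U ⊔ zpowers h)) = (1 : G) ∧
    g • (w : G ⧸ (U ⊔ zpowers h)) = w := by
  rw [fix, H.fix']
  refine ⟨fun e => ⟨mem_sup_right e, mem_sup_right (H.cw e)⟩, fun ⟨a, b⟩ => ?_⟩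
  obtain ⟨u, hu, t, ht, rfl⟩ := H.mem_B a
  rwa [H.inj hu ((mul_mem_cancel_right (mem_sup_right (H.cw ht))).1 (by
    simpa only [mul_assoc, ← mul_assoc w w, H.sq, one_mul] using b)), one_mul]

include T

theorem reg (ω : G ⧸ (U ⊔ zpowers h)) (e : ω ≠ (1 : G)) : ∃ u ∈ U, u • (w : G ⧸ (U ⊔ zpowers h)) = ω := by
  obtain ⟨g, rfl⟩ := QuotientGroup.mk_surjective ω
  obtain ⟨a, ha, b, hb, rfl⟩ := (H.dec (T.ge (mem_top g))).resolve_left fun k => e (QuotientGroup.eq.2 (by simpa using k))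
  exact ⟨a, ha, QuotientGroup.eq.2 (by simpa [mul_assoc] using hb)⟩

theorem card_Ω : Nat.card (G ⧸ (U ⊔ zpowers h)) = Nat.card U + 1 := by
  rw [← Finite.card_option]
  refine (Nat.card_eq_of_bijective (fun x : Option U => x.elim ((1 : G) : G ⧸ (U ⊔ zpowers h)) fun u => u.1 • w) ⟨?_, fun ω => ?_⟩).symm
  · have k : ∀ u : U, u.1 • (w : G ⧸ (U ⊔ zpowers h)) ≠ (1 : G) := fun u e =>
      H.ne (smul_left_cancel u.1 (e.trans (fix.2 (mem_sup_left u.2)).symm))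
    rintro (_ | a) (_ | b) e
    exacts [rfl, absurd e.symm (k b), absurd e (k a), congrArg some (Subtype.ext (inv_mul_eq_one.1 (H.inj
      (mul_mem (inv_mem a.2) b.2) (H.fix'.1 (by rw [mul_smul, inv_smul_eq_iff]; exact e.symm)))))]
  · by_cases e : ω = (1 : G)
    · exact ⟨none, e.symm⟩
    · exact let ⟨u, a, b⟩ := H.reg T ω e; ⟨some ⟨u, a⟩, b⟩

theorem card : Nat.card G = (Nat.card U + 1) * (Nat.card U * orderOf h) := by
  rw [card_eq_card_quotient_mul_card_subgroup (U ⊔ zpowers h), H.card_Ω T, H.card_B]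

theorem simple (s1 : ∀ N : Subgroup G, U ≤ N → (∀ u ∈ U, w * u * w ∈ N) → h ∈ N)
    (s2 : ∀ N : Subgroup G, (∀ u ∈ U, h * u * h⁻¹ * u⁻¹ ∈ N) → U ≤ N)
    (s3 : ∀ t ∈ zpowers h, (∀ u ∈ U, t * u = u * t) → t = 1) : IsSimpleGroup G := by
  have : Nontrivial G := ⟨w, 1, fun e => H.nB (e ▸ one_mem _)⟩
  refine ⟨fun N hN => or_iff_not_imp_left.2 fun k => ?_⟩
  obtain ⟨n, a, b⟩ : ∃ n ∈ N, n ∉ U ⊔ zpowers h := by
    by_contra! e
    have e' : N ≤ zpowers h := fun n a => (H.memH n).2 ⟨fix.2 (e n a), H.fix'.2 (e _ (H.cN hN a))⟩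
    refine k (eq_bot_iff.2 fun n a => s3 n (e' a) fun u hu => ?_)
    have := H.disj.le (mem_inf.2 ⟨mul_mem (H.cU (e n a) hu) (inv_mem hu), e' (by
      simpa only [mul_assoc, inv_inv] using mul_mem a (hN.conj_mem _ (inv_mem a) u))⟩)
    rwa [mem_bot, mul_inv_eq_one, mul_inv_eq_iff_eq_mul] at this
  obtain ⟨x, hx, y, hy, rfl⟩ := (H.dec (T.ge (mem_top n))).resolve_left b
  have h1 : N ⊔ (U ⊔ zpowers h) = ⊤ := T.symm ▸ le_antisymm (T ▸ le_top) (sup_le le_sup_right (zpowers_le.2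
    ((mul_mem_cancel_left (mem_sup_right (mem_sup_left hx))).1 ((mul_mem_cancel_right (mem_sup_right hy)).1 (mem_sup_left a)))))
  have h2 : (N ⊔ U).Normal := normalizer_eq_top_iff.1 (eq_top_iff.2 (h1.ge.trans (sup_le
    (le_sup_left.trans le_normalizer) fun g hg => normalizer_inf_normalizer_le_normalizer_sup _ _
      ⟨(normalizer_eq_top N).ge trivial, H.B_le hg⟩)))
  have h3 := s1 (N ⊔ U) le_sup_right fun u hu => H.cN h2 (mem_sup_right hu)
  rw [← SetLike.mem_coe, normal_mul] at h3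
  obtain ⟨m, hm, u, hu, e⟩ := h3
  have h4 : h ∈ N := by
    have e' : QuotientGroup.mk' N h = QuotientGroup.mk' N u := by
      rw [← e, map_mul, show QuotientGroup.mk' N m = 1 from (QuotientGroup.eq_one_iff m).2 hm, one_mul]
    rw [← QuotientGroup.eq_one_iff, ← orderOf_eq_one_iff]
    exact Nat.eq_one_of_dvd_coprimes H.cop ((e' ▸ orderOf_map_dvd _ u).trans (orderOf_dvd_natCard _ hu))
      (orderOf_map_dvd (QuotientGroup.mk' N) h)
  exact h1 ▸ (sup_eq_left.2 (sup_le (s2 N fun u _ => by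
    simpa only [mul_assoc, inv_inv] using mul_mem h4 (hN.conj_mem _ (inv_mem h4) u)) (zpowers_le.2 h4))).symm

theorem psu [IsSimpleGroup G] {p d : ℕ} (hp : p.Prime) (h2 : p ≠ 2) (c : Nat.card U = p ^ 3) (d1 : Odd d) (d2 : d ∣ p + 1)
    (d3 : d * orderOf h = p ^ 2 - 1) :
    ∃ (F : Type) (_ : Field F) (_ : Fintype F), Fintype.card F = p ^ 2 ∧ Nonempty (G ≃* PSU 3 F p) :=
  (U3R.psu_of_action hp h2 le_rfl (pow_one p).symm H.ne (exists_smul_eq G _) (fun _ a => fix.2 (mem_sup_left a))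
    (fun _ a _ => H.cU (fix.1 a)) (H.reg T) (fun _ a b => H.inj a (H.fix'.1 b)) H.memH inferInstance c d1 d2
    (by rwa [Nat.card_zpowers])).2

theorem psl {n : ℕ} (hn : n ≠ 0) (c : Nat.card U = 2 ^ n) (o : orderOf h + 1 = 2 ^ n)
    (s : ∀ t ∈ zpowers h, ∀ u ∈ U, t * u = u * t → u = 1 ∨ t = 1) :
    ∃ (F : Type) (_ : Field F) (_ : Fintype F), Fintype.card F = 2 ^ n ∧ Nonempty (G ≃* PSL(2, F)) := by
  have two : ∀ a b : G ⧸ (U ⊔ zpowers h), a ≠ b → ∃ g : G, g • ((1 : G) : G ⧸ (U ⊔ zpowers h)) = a ∧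
      g • (w : G ⧸ (U ⊔ zpowers h)) = b := fun a b e => by
    obtain ⟨g, rfl⟩ := exists_smul_eq G ((1 : G) : G ⧸ (U ⊔ zpowers h)) a
    obtain ⟨u, hu, k⟩ := H.reg T (g⁻¹ • b) fun k => e (inv_smul_eq_iff.1 k).symm
    exact ⟨g * u, by rw [mul_smul, fix.2 (mem_sup_left hu)], by rw [mul_smul, k, smul_inv_smul]⟩
  have h2 : 2 ^ 1 ≤ 2 ^ n := Nat.pow_le_pow_right (by decide) (Nat.pos_of_ne_zero hn)
  have Z : Perm.ZT G (G ⧸ (U ⊔ zpowers h)) := ⟨fun a b c d x y => by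
    obtain ⟨g, rfl, rfl⟩ := two a b x
    obtain ⟨k, rfl, rfl⟩ := two c d y
    exact ⟨k * g⁻¹, by simp only [mul_smul, inv_smul_smul], by simp only [mul_smul, inv_smul_smul]⟩,
    fun g a b c x y z g1 g2 g3 => by
      obtain ⟨k, rfl, rfl⟩ := two a b x
      obtain ⟨u, hu, e⟩ := H.reg T (k⁻¹ • c) fun e => z (inv_smul_eq_iff.1 e).symm
      have t := (H.memH (k⁻¹ * g * k)).2 ⟨by simp only [mul_smul, g1, inv_smul_smul], by simp only [mul_smul, g2, inv_smul_smul]⟩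
      have t2 := H.inj (mul_mem (inv_mem hu) (H.cU (mem_sup_right t) hu)) (H.fix'.1 (by
        rw [mul_smul, mul_smul, mul_smul, ((H.memH _).1 (inv_mem t)).2, e, mul_smul, mul_smul, smul_inv_smul, g3, ← e,
          inv_smul_smul]))
      rw [inv_mul_eq_one, eq_comm, mul_inv_eq_iff_eq_mul] at t2
      rcases s _ t u hu t2 with t3 | t3
      · exact absurd (inv_smul_eq_iff.1 (e.symm.trans (by rw [t3, one_smul]))).symm y
      · simpa [mul_assoc, inv_mul_eq_one] using t3, by rw [H.card_Ω T]; omega⟩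
  have e := Z.card_zker (1 : G)
  rw [H.card_Ω T, c, add_left_inj] at e
  have w1 : w • ((1 : G) : G ⧸ (U ⊔ zpowers h)) = w := congrArg _ (mul_one w)
  have w2 : w • (w : G ⧸ (U ⊔ zpowers h)) = (1 : G) := congrArg _ H.sq
  let _ := Fintype.ofFinite (GaloisField 2 n)
  have hK := GaloisField.card 2 n hn
  obtain ⟨f⟩ := Z.nonempty_equiv_PGL H.ne.symm w1 w2 H.sq (Z.inverts_of_even H.ne.symm (e ▸ Nat.even_pow.2 ⟨by decide, hn⟩) w1 w2)
    (by rw [e, ← o, ← Nat.card_zpowers, ← show zpowers h = Perm.stab2 G _ _ from Subgroup.ext H.memH]) (GaloisField 2 n)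
    (hK.trans e.symm)
  have k : pslSub (GaloisField 2 n) = ⊤ := index_eq_one.1 (by
    rw [index_pslSub, hK]; exact (Nat.coprime_two_left.2 (Nat.Even.sub_odd (by omega) (Nat.even_pow.2 ⟨by decide, hn⟩) odd_one)))
  exact ⟨_, inferInstance, inferInstance, by rw [← Nat.card_eq_fintype_card, hK],
    ⟨f.trans ((topEquiv.symm.trans (MulEquiv.subgroupCongr k.symm)).trans (pslEquiv _).symm)⟩⟩

end Rk

end Cfsg.Lib.J4T
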