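import Cfsg.Agent.Lib.J4T.Rk
import Cfsg.Agent.Lib.J4T.CntG
import Cfsg.Agent.Lib.J4T.MaxP

/-! # Certificates for subgroups of rank one of J₄ -/

set_option autoImplicit false
set_option maxRecDepth 100000

namespace Cfsg.Lib.J4T

open Cfsg.Lib.Calc Cfsg.Lib.F2 Cfsg.Lib.Mathieu Cfsg.Lib.Big Cfsg.Lib.J4 Subgroup Cfsg.Lib.Transfer
open scoped MatrixGroups

/-- a product of two members of a list -/
noncomputable def m2 (L : List ℕ) (r i : ℕ) : ℕ := forceN (nx L r i) fun A => forceN (nx L r (i + 1)) (eM.mul A)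

/-- a product of three matrices -/
noncomputable def m3 (A B C : ℕ) : ℕ := forceN A fun A => forceN B fun B => forceN (eM.mul A B) fun D => forceN C (eM.mul D)

/-- `w * u * w = a * t * w * b` -/
noncomputable def relOK (Us Hs : List ℕ) (W r : ℕ) : Bool :=
  Nat.beq (m3 W (m2 Us r 0) W) (m3 (m3 (m2 Us r 2) (nx Hs r 4) W) (m2 Us r 5) eM.one)

/-- the relations of a group of rank one -/
noncomputable def rkOK (T pU pH rs : List ℕ) (A W n e i : ℕ) (es : List ℕ) : Bool :=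
  band (band (band (nrm A W e) (Nat.beq (eM.mul W W) eM.one)) (band (Nat.beq (eM.pw A n) eM.one)
      (allL es fun k => forceB (eM.pw A k) fun B => !eM.com B (F2.nth eM.one T 0))))
    (band (eM.slp T pU fun Us => eM.slp [A] pH fun Hs => allL rs (relOK Us Hs W))
      (forceB (F2.nth eM.one T i) fun C => band (allL T fun B => eM.com B C) (forceB (m3 W C W) fun B => !eM.com B C)))

/-- the group is perfect -/
noncomputable def pfOK (T : List ℕ) (A W n p : ℕ) (p1 p2 : List ℕ) : Bool :=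
  band (Grp.forceL (T ++ T.map fun B => m3 W B W) fun L => eM.slpHas L p1 [A])
    (band (allL T fun B => Nat.beq (eM.pw B (p + 1)) eM.one) (forceB (eM.pw A n) fun A' =>
      Grp.forceL (T.map fun B => m3 (m3 A B A') (eM.pw B p) eM.one) fun L => eM.slpHas L p2 T))

/-- an element of order dividing 4, or conjugate to a member of a list -/
noncomputable def p8OK (Ps Hs : List ℕ) (r : ℕ) : Bool := forceB (m2 Ps r 0) fun C => bor (Nat.beq (eM.pw C 4) eM.one)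
  (forceB (nx Ps r 2) fun K => forceB (nx Hs r 3) fun B => Nat.beq (eM.mul K C) (eM.mul B K))

variable {G : Type*} [Group G]

namespace Mod

variable {J : Mod G}

theorem m3 {a b c : G} {A B C : ℕ} (x : J.R a A) (y : J.R b B) (z : J.R c C) : J.R (a * b * c) (m3 A B C) := by
  simp only [J4T.m3, forceN_eq]; exact mul (mul x y) z

theorem m2 {a b : G} {L : List ℕ} {r i : ℕ} (x : J.R a (nx L r i)) (y : J.R b (nx L r (i + 1))) :
    J.R (a * b) (m2 L r i) := by simp only [J4T.m2, forceN_eq]; exact mul x y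

theorem gd_m2 {S : Subgroup G} {L : List ℕ} (h : ∀ C ∈ L, Big.Gd J.R S C) (r i : ℕ) : Big.Gd J.R S (J4T.m2 L r i) :=
  let ⟨_, a, b⟩ := gd_nx h r i; let ⟨_, c, d⟩ := gd_nx h r (i + 1); ⟨_, mul_mem a c, m2 b d⟩

theorem cover {N : Subgroup G} {P : G → Prop} {Ng pN Fs rs : List ℕ} {v D p q r m : ℕ} (h1 : ∀ C ∈ Ng, Big.Gd J.R N C)
    (P1 : P 1) (hF : ∀ C ∈ Fs, ∃ t, J.R t C ∧ ∀ g ∈ N, P g → t * g * t⁻¹ ∈ N ∧ P (t * g * t⁻¹))
    (hr : ∀ t ∈ rs, ∀ a, J.R a (J4T.m2 (slpL Ng pN) t 0) → P a)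
    (e : cntAll Ng pN Fs Fs v D p q r m rs = true) (hN : Nat.card N ≤ m) : ∀ g ∈ N, P g := by
  have := J.fin
  obtain ⟨_, A⟩ := J.act
  rw [cntAll, slp_eq, band_eq_true, band_eq_true, allL_iff] at e
  obtain ⟨⟨a1, a2⟩, a3⟩ := e
  obtain ⟨v, rfl⟩ := A.vld v a1
  have h6 := orbR_spec (good := fun c => ∃ g ∈ N, P g ∧ code2 112 (g • v) = c) (h := ph D p q r)
    (act := fun l c => eM.app (F2.nth eM.one Fs l) c) (k := Fs.length) (fun l _ c ⟨g, b1, b2, b3⟩ => by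
      rcases nth_mem eM.one Fs l with k | k
      · exact ⟨g, b1, b2, by rw [k, ← b3, ← A.app J.one, one_smul]⟩
      obtain ⟨t, c1, c2⟩ := hF _ k
      exact ⟨_, (c2 g b1 b2).1, (c2 g b1 b2).2, by
        rw [mul_smul, mul_smul, inv_smul_eq_iff.2 (A.inj ((A.app c1 v).trans (beq_iff.1 (a2 _ k)))).symm, A.app c1, b3]⟩) m
    (rs := code2 112 v :: rs.map fun t => forceN (nx (slpL Ng pN) t 0) fun A => forceN (nx (slpL Ng pN) t 1) fun B =>
      forceN (eM.app B (code2 112 v)) (eM.app A))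
    (List.forall_mem_cons.2 ⟨⟨1, one_mem _, P1, by rw [one_smul]⟩, List.forall_mem_map.2 fun t ht => by
      obtain ⟨a, b1, b2⟩ := gd_nx (gd_slpL h1 pN) t 0
      obtain ⟨b, c1, c2⟩ := gd_nx (gd_slpL h1 pN) t 1
      exact ⟨a * b, mul_mem b1 c1, hr t ht _ (m2 b2 c2), by
        rw [forceN_eq, forceN_eq, forceN_eq, mul_smul, A.app b2, A.app c2]⟩⟩) [] 0 0 ⟨by simp, ∅, rfl, by simp⟩
  have a5 := Nat.le_of_ble_eq_true a3
  rcases h6 with k | ⟨S, s1, s2⟩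
  · rw [k, Nat.le_zero] at a5
    exact absurd (a5 ▸ hN) (by simpa using Nat.card_pos.ne')
  exact all_of_cnt (F := ⊥) (c := fun g => code2 112 (g • v)) (S := S) bot_le
    (fun g a k b => by rwa [mem_bot.1 b, mul_one]) (fun g k b => by rw [mem_bot.1 b, mul_one])
    (fun y hy => let ⟨_, a, _, e⟩ := s2 y hy; e ▸ a) (by rw [card_bot, mul_one]; exact hN.trans (s1 ▸ a5))

theorem rk {T pU pH rs es : List ℕ} {A W n e i v D p q r m : ℕ} {h w : G} (hT : ∀ C ∈ T, ∃ g, J.R g C) (a : J.R h A)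
    (b : J.R w W) (c : Nat.card (gen J.R T) = m) (hU : h ∈ normalizer (gen J.R T : Set G)) (hm : m.Coprime n) (h0 : 0 < n)
    (hn : ∀ i < n, i ≠ 0 → ∃ e ∈ es, ∃ k < n, i * k % n = e) (e1 : rkOK T pU pH rs A W n e i es = true)
    (e2 : cntAll T pU [A] [A] v D p q r m rs = true) : J4T.Rk (gen J.R T) h w ∧ orderOf h = n ∧ h ^ n = 1 ∧
      ∀ t ∈ zpowers h, (∀ u ∈ gen J.R T, t * u = u * t) → t = 1 := by
  have := J.fin
  simp only [rkOK, band_eq_true, forceB_eq, allL_iff, slp_eq, Bool.not_eq_true'] at e1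
  obtain ⟨⟨⟨f1, f2⟩, f3, f4⟩, f5, f6, f7⟩ := e1
  have g1 := mem_norm_zp (nrm a b f1)
  have g2 := eq (mul b b) J.one f2
  have g3 := pw_eq a f3
  obtain ⟨x, x1, x2⟩ := J.law.gd_nth (gd_gen hT) 0
  have g4 : ∀ i < n, h ^ i * x = x * h ^ i → i = 0 := fun i hi k => by_contra fun t => by
    obtain ⟨e, t1, j, -, rfl⟩ := hn i hi t
    refine ncom (pw a _) x2 (f4 _ t1) ?_
    rw [← pow_eq_pow_mod _ g3, pow_mul]
    exact Commute.pow_left k j
  have o : orderOf h = n := (Nat.le_of_dvd h0 (orderOf_dvd_of_pow_eq_one g3)).eq_or_lt.resolve_right fun k =>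
    (orderOf_pos h).ne' (g4 _ k (by simp))
  obtain ⟨z, z1, z2⟩ := J.law.gd_nth (gd_gen hT) i
  have wi : w⁻¹ = w := inv_eq_of_mul_eq_one_right g2
  have cw : ∀ t ∈ zpowers h, w * t * w ∈ zpowers h := fun t k => by simpa only [wi] using (mem_normalizer_iff.1 g1 t).1 k
  refine ⟨⟨hU, g1, g2, fun u hu k => (cover (P := fun u => u = 1 ∨ ∃ a ∈ gen J.R T, ∃ t ∈ zpowers h, ∃ b ∈ gen J.R T,
    w * u * w = a * t * w * b) (gd_gen hT) (Or.inl rfl) (List.forall_mem_singleton.2 ⟨h, a, fun g k1 k2 =>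
      ⟨(mem_normalizer_iff.1 hU g).1 k1, k2.imp (fun e => by simp [e]) ?_⟩⟩) (fun t ht u hu => Or.inr ?_) e2 c.le u hu).resolve_left k,
    by rwa [c, o], fun k => ncom (m3 b z2 b) z2 f7 (mem_centralizer_singleton_iff.1 (J.law.gen_le (K := centralizer {z})
      (fun C hC => let ⟨g, t⟩ := hT C hC; ⟨g, mem_centralizer_singleton_iff.2 (com t z2 (f6 C hC)), t⟩)
      (by simpa only [wi] using (mem_normalizer_iff.1 k z).1 z1)))⟩, o, g3, fun t ht k => ?_⟩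
  · rintro ⟨a, ha, t, ht, b, hb, k⟩
    have n := mem_normalizer_iff.1 (zpowers_le.2 hU (cw h (mem_zpowers h)))
    refine ⟨_, (n a).1 ha, _, mul_mem (mul_mem (cw h (mem_zpowers h)) ht) (inv_mem (mem_zpowers h)), _, (n b).1 hb, ?_⟩
    rw [show w * (h * g * h⁻¹) * w = w * h * w * (w * g * w) * (w * h * w)⁻¹ by
      simp only [mul_inv_rev, wi, mul_assoc, ← mul_assoc w w, g2, one_mul, mul_one], k]
    simp only [mul_inv_rev, wi, mul_assoc, ← mul_assoc w w, g2, one_mul, inv_mul_cancel_left]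
  · obtain ⟨x, x1, x2⟩ := gd_m2 (gd_slpL (gd_gen hT) pU) t 2
    obtain ⟨y, y1, y2⟩ := gd_m2 (gd_slpL (gd_gen hT) pU) t 5
    obtain ⟨s, s1, s2⟩ := gd_nx (gd_slpL (gd_one (mem_zpowers h) a) pH) t 4
    exact ⟨x, x1, s, s1, y, y1, (eq (m3 b hu b) (m3 (m3 x2 s2 b) y2 J.one) (f5 t ht)).trans (mul_one _)⟩
  · obtain ⟨j, rfl⟩ := mem_powers_iff_mem_zpowers.2 ht
    have : h ^ j * x = x * h ^ j := k x x1
    change h ^ j = 1
    rw [pow_eq_pow_mod j g3] at this ⊢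
    rw [g4 _ (Nat.mod_lt _ h0) this, pow_zero]

theorem pf {T p1 p2 : List ℕ} {A W n p : ℕ} {h w : G} (hT : ∀ C ∈ T, ∃ g, J.R g C) (a : J.R h A) (b : J.R w W)
    (hn : h ^ (n + 1) = 1) (e : pfOK T A W n p p1 p2 = true) :
    (∀ N : Subgroup G, gen J.R T ≤ N → (∀ u ∈ gen J.R T, w * u * w ∈ N) → h ∈ N) ∧
      ∀ N : Subgroup G, (∀ u ∈ gen J.R T, h * u * h⁻¹ * u⁻¹ ∈ N) → gen J.R T ≤ N := by
  simp only [pfOK, band_eq_true, forceB_eq, allL_iff, Grp.forceL_eq] at e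
  refine ⟨fun N x y => J.law.mem (J.law.slpHas (gd_append (gd_mono x (gd_gen hT)) (List.forall_mem_map.2 fun C hC =>
    let ⟨g, s, t⟩ := gd_gen hT C hC; ⟨_, y g s, m3 b t b⟩)) e.1 _ List.mem_cons_self) a,
    fun N x => J.law.gen_le (J.law.slpHas (List.forall_mem_map.2 fun C hC => ?_) e.2.2)⟩
  obtain ⟨g, s, t⟩ := gd_gen hT C hC
  refine ⟨_, ?_, m3 (m3 a t (pw a n)) (pw t p) J.one⟩
  rw [mul_one, eq_inv_of_mul_eq_one_left ((pow_succ h n).symm.trans hn),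
    eq_inv_of_mul_eq_one_left ((pow_succ g p).symm.trans (pw_eq t (e.2.1 C hC)))]
  exact x g s

end Mod

namespace Rk

variable [Finite G] {U : Subgroup G} {h w : G} (H : Rk U h w)
include H

theorem cardK : Nat.card ↥(U ⊔ zpowers h ⊔ zpowers w) = (Nat.card U + 1) * (Nat.card U * orderOf h) := by
  rw [H.sub.card sub_top, Nat.card_congr (subgroupOfEquivOfLe (le_sup_left.trans le_sup_left)).toEquiv, orderOf_mk]

theorem psuK (s : (∀ N : Subgroup G, U ≤ N → (∀ u ∈ U, w * u * w ∈ N) → h ∈ N) ∧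
      ∀ N : Subgroup G, (∀ u ∈ U, h * u * h⁻¹ * u⁻¹ ∈ N) → U ≤ N)
    (s3 : ∀ t ∈ zpowers h, (∀ u ∈ U, t * u = u * t) → t = 1) {p d : ℕ} (hp : p.Prime) (h2 : p ≠ 2)
    (c : Nat.card U = p ^ 3) (d1 : Odd d) (d2 : d ∣ p + 1) (d3 : d * orderOf h = p ^ 2 - 1) :
    ∃ (F : Type) (_ : Field F) (_ : Fintype F), Fintype.card F = p ^ 2 ∧
      Nonempty (↥(U ⊔ zpowers h ⊔ zpowers w) ≃* PSU 3 F p) := by
  have a : U ≤ U ⊔ zpowers h ⊔ zpowers w := le_sup_left.trans le_sup_left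
  have m := fun {N : Subgroup ↥(U ⊔ zpowers h ⊔ zpowers w)} {g} => mem_map_iff_mem (K := N) (x := g) (subtype_injective _)
  have := H.sub.simple sub_top
    (fun N x y => m.1 (s.1 _ (fun u k => m.2 (x (show ⟨u, a k⟩ ∈ _ from k))) fun u k => m.2 (y ⟨u, a k⟩ k)))
    (fun N x u k => m.1 (s.2 _ (fun u k => m.2 (x ⟨u, a k⟩ k)) k))
    fun t x y => Subtype.ext (s3 t (by rwa [zp_sub] at x) fun u k => congrArg Subtype.val (y ⟨u, a k⟩ k))
  exact H.sub.psu sub_top hp h2 ((Nat.card_congr (subgroupOfEquivOfLe a).toEquiv).trans c) d1 d2 (by rwa [orderOf_mk])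

theorem pslK (s3 : ∀ t ∈ zpowers h, (∀ u ∈ U, t * u = u * t) → t = 1) (c : Nat.card U = 2 ^ 5) (o : orderOf h = 31) :
    ∃ (F : Type) (_ : Field F) (_ : Fintype F), Fintype.card F = 2 ^ 5 ∧
      Nonempty (↥(U ⊔ zpowers h ⊔ zpowers w) ≃* PSL(2, F)) := by
  have a : U ≤ U ⊔ zpowers h ⊔ zpowers w := le_sup_left.trans le_sup_left
  have : Fact (Nat.Prime 31) := ⟨by norm_num⟩
  refine H.sub.psl sub_top (by decide) ((Nat.card_congr (subgroupOfEquivOfLe a).toEquiv).trans c) (by rw [orderOf_mk, o]; rfl)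
    fun t x u y e => ?_
  rw [zp_sub, mem_subgroupOf] at x
  have k := card_modEq_cen' (p := 31) (W := U) (orderOf_dvd_iff_pow_eq_one.1
    (o ▸ Nat.card_zpowers h ▸ orderOf_dvd_natCard _ x)) (zpowers_le.2 H.nU x)
  have k' := c ▸ card_dvd_of_le (inf_le_left : U ⊓ centralizer {t.1} ≤ U)
  rcases (by decide : ∀ d < 33, d ∣ 2 ^ 5 → 2 ^ 5 % 31 = d % 31 → d = 1 ∨ d = 32) _
    (Nat.lt_succ_of_le (Nat.le_of_dvd (by decide) k')) k' (c ▸ k) with k | k
  · exact Or.inl (Subtype.ext (mem_bot.1 ((eq_bot_of_card_eq _ k).le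
      ⟨y, mem_centralizer_singleton_iff.2 (congrArg Subtype.val e).symm⟩)))
  · exact Or.inr (Subtype.ext (s3 t x fun v hv => (mem_centralizer_singleton_iff.1
      ((eq_of_le_of_card_ge inf_le_left (c.trans k.symm).le).ge hv).2).symm))

end Rk

end Cfsg.Lib.J4T
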