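import Cfsg.Agent.Lib.J4T.Three
import Cfsg.Agent.Lib.Extraspecial.Large

/-! # The Sylow 3-subgroup of a group with the coordinates of J₄ -/

set_option autoImplicit false
set_option maxRecDepth 100000

namespace Cfsg.Lib.J4T

open Cfsg.Lib.Calc Cfsg.Lib.F2 Cfsg.Lib.Mathieu Cfsg.Lib.Big Cfsg.Lib.J4 Subgroup Cfsg.Lib.Transfer

variable {G : Type*} [Group G]

theorem card_dvd_aut {S T : Subgroup G} (h : S ≤ normalizer (T : Set G)) :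
    Nat.card S ∣ Nat.card ↥(centralizer (T : Set G) ⊓ S) * Nat.card (MulAut T) :=
  card_le_ker_mul _ h T.normalizerMonoidHom_ker ▸ Nat.mul_dvd_mul_left _ (card_subgroup_dvd_card _)

theorem card_aut_dvd [Finite G] {p n : ℕ} [Fact p.Prime] (hc : ∀ x y : G, x * y = y * x) (he : ∀ x : G, x ^ p = 1)
    (hn : Nat.card G ≤ p ^ n) : Nat.card (MulAut G) ∣ ∏ i : Fin n, (p ^ n - p ^ (i : ℕ)) := by
  obtain ⟨f, hf⟩ := PGroup.exists_aut_hom_GL hc he hn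
  have := card_dvd_of_injective f hf
  rwa [Matrix.card_GL_field, ZMod.card] at this

theorem primes_G {q : ℕ} (hq : q.Prime) (h : q ∣ 86775571046077562880) :
    q = 2 ∨ q = 3 ∨ q = 5 ∨ q = 7 ∨ q = 11 ∨ q = 23 ∨ q = 29 ∨ q = 31 ∨ q = 37 ∨ q = 43 := by
  rw [show 86775571046077562880 = 2 ^ 21 * (3 ^ 3 * (5 * (7 * (11 ^ 3 * (23 * (29 * (31 * (37 * 43)))))))) by norm_num] at h
  simpa only [hq.dvd_mul, hq.prime.dvd_pow_iff_dvd (by norm_num : 21 ≠ 0), hq.prime.dvd_pow_iff_dvd three_ne_zero,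
    Nat.prime_dvd_prime_iff_eq hq, Nat.prime_three, Nat.prime_two, Nat.prime_five, Nat.prime_seven, Nat.prime_eleven,
    show Nat.Prime 23 by norm_num, show Nat.Prime 29 by norm_num, show Nat.Prime 31 by norm_num,
    show Nat.Prime 37 by norm_num, show Nat.Prime 43 by norm_num] using h

theorem Heis.mem' {p : ℕ} {x y c : G} {U : Subgroup G} (h : Heis p x y c U) (hp : 0 < p) {u : G} (hu : u ∈ U) :
    ∃ j < p, ∃ i < p, ∃ k < p, u = y ^ j * x ^ i * c ^ k := by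
  obtain ⟨i, j, k, rfl⟩ := h.mem.1 hu
  exact ⟨_, Nat.mod_lt j hp, _, Nat.mod_lt i hp, _, Nat.mod_lt k hp, by
    rw [← pow_eq_pow_mod _ (h.pow _ h.x_mem), ← pow_eq_pow_mod _ (h.pow _ h.y_mem), ← pow_eq_pow_mod _ (h.pow _ h.c_mem)]⟩

/-- conjugating words for the elements of the Sylow subgroup -/
def w3 : List (List ℕ) := [[], [], [7], [], [4, 0], [4, 0, 4, 0], [3, 2, 0, 1, 3, 4, 0, 7, 3, 2, 0, 1, 3, 4, 0, 7, 3, 2, 0, 1, 3, 4, 0, 7, 3, 2, 0, 1, 3, 4, 0, 7], [4, 0, 3, 2, 0, 1, 3, 4, 0, 7, 3, 2, 0, 1, 3, 4, 0, 7, 3, 2, 0, 1, 3, 4, 0, 7, 3, 2, 0, 1, 3, 4, 0, 7], [3, 2, 0, 1, 3, 4, 0, 7, 3, 2, 0, 1, 3, 4, 0, 7, 3, 2, 0, 1, 3, 4, 0, 7, 3, 2, 0, 1, 3, 4, 0, 7, 4, 0], [3, 2, 0, 1, 3, 4, 0, 7, 3, 2, 0, 1, 3, 4, 0, 7, 3, 2, 0, 1, 3, 4, 0, 7, 3, 2, 0, 1, 3, 4, 0, 7, 3, 2, 0, 1, 3, 4, 0, 7, 3, 2, 0, 1, 3, 4, 0, 7, 3, 2, 0, 1, 3, 4, 0, 7,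 0, 1, 0, 1], [3, 2, 0, 1, 3, 4, 0, 7, 3, 2, 0, 1, 3, 4, 0, 7, 3, 2, 0, 1, 3, 4, 0, 7, 3, 2, 0, 1, 3, 4, 0, 7, 3, 2, 0, 1, 3, 4, 0, 7, 3, 2, 0, 1, 3, 4, 0, 7, 3, 2, 0, 1, 3, 4, 0, 7, 0, 1], [3, 2, 0, 1, 3, 4, 0, 7, 3, 2, 0, 1, 3, 4, 0, 7, 3, 2, 0, 1, 3, 4, 0, 7, 3, 2, 0, 1, 3, 4, 0, 7, 3, 2, 0, 1, 3, 4, 0, 7, 3, 2, 0, 1, 3, 4, 0, 7, 3, 2, 0, 1, 3, 4, 0, 7], [3, 2, 0, 1, 3, 4, 0, 7, 3, 2, 0, 1, 3, 4, 0, 7, 3, 2, 0, 1, 3, 4, 0, 7, 3, 2, 0, 1, 3, 4, 0, 7, 3, 2, 0, 1, 3, 4, 0, 7, 3, 2, 0, 1, 3, 4, 0, 7, 0, 1], [3, 2, 0, 1, 3, 4, 0, 7, 3, 2, 0, 1, 3, 4, 0, 7, 3, 2, 0, 1, 3, 4, 0, 7, 3, 2, 0, 1, 3, 4, 0, 7, 3, 2, 0, 1, 3, 4, 0, 7, 3, 2, 0, 1, 3, 4, 0, 7], [4, 0, 3, 2, 0, 1, 3, 4, 0, 7, 3, 2, 0, 1, 3, 4, 0, 7, 3, 2, 0, 1, 3, 4, 0, 7, 3, 2, 0, 1, 3, 4, 0, 7, 3, 2, 0, 1, 3, 4, 0, 7, 3, 2, 0, 1, 3, 4, 0, 7], [3, 2, 0, 1, 3, 4, 0, 7], [3,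 2, 0, 1, 3, 4, 0, 7, 0, 1, 0, 1], [3, 2, 0, 1, 3, 4, 0, 7, 0, 1], [4, 0, 3, 2, 0, 1, 3, 4, 0, 7, 3, 2, 0, 1, 3, 4, 0, 7, 3, 2, 0, 1, 3, 4, 0, 7], [3, 2, 0, 1, 3, 4, 0, 7, 3, 2, 0, 1, 3, 4, 0, 7, 3, 2, 0, 1, 3, 4, 0, 7], [3, 2, 0, 1, 3, 4, 0, 7, 3, 2, 0, 1, 3, 4, 0, 7, 3, 2, 0, 1, 3, 4, 0, 7, 0, 1], [3, 2, 0, 1, 3, 4, 0, 7, 3, 2, 0, 1, 3, 4, 0, 7, 3, 2, 0, 1, 3, 4, 0, 7, 3, 2, 0, 1, 3, 4, 0, 7, 3, 2, 0, 1, 3, 4, 0, 7, 0, 1], [4, 0, 3, 2, 0, 1, 3, 4, 0, 7, 3, 2, 0, 1, 3, 4, 0, 7, 3, 2, 0, 1, 3, 4, 0, 7, 3, 2, 0, 1, 3, 4, 0, 7, 3, 2, 0, 1, 3, 4, 0, 7], [3, 2, 0, 1, 3, 4, 0, 7, 3, 2, 0, 1, 3, 4, 0, 7, 3, 2, 0, 1, 3, 4, 0, 7, 3, 2, 0, 1, 3, 4, 0, 7, 3, 2, 0, 1, 3, 4, 0, 7], [3, 2, 0, 1, 3, 4, 0, 7, 3, 2, 0, 1, 3, 4, 0, 7], [3, 2, 0, 1, 3, 4, 0, 7, 3, 2, 0, 1, 3, 4, 0, 7, 0, 1], [3, 2, 0, 1, 3, 4, 0, 7, 3, 2, 0, 1, 3, 4, 0, 7, 4, 0]]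

noncomputable def w3OK (a b p : ℕ) : Bool := allLt 3 fun j => allLt 3 fun i => allLt 3 fun k =>
  forceB (kC (w3.getD (9 * j + 3 * i + k) [])) fun g => bor (Nat.beq (j + i + k) 0) (Nat.beq
    (eM.mul g (eM.mul (eM.mul (eM.pw b j) (eM.pw a i)) (eM.pw p k))) (eM.mul (cnd (Nat.beq (j + i) 0) p a) g))

theorem w3_chk : forceB (kC [0, 1]) (fun a => forceB (eM.pw (kC [4, 0]) 4) fun b => w3OK a b (cK 6)) = true := by
  decide +kernel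

theorem a3_chk : pull [1, 2, 0, 0, 3072, 4100, 1024, 3, 5, 3, 9, 30754, 33, 35, 3072] [0]
    (fun C => Nat.beq (eM.mul (C 0) (kC [0, 1])) (eM.mul (cK 6) (C 0))) = true := by decide +kernel

namespace Mod

variable (J : Mod G)

theorem ex_R0 : ∃ U, Heis 3 (J.kw [0, 1]) (J.kw [4, 0] ^ 4) (J.k 6) U :=
  have := J.fin
  exists_heis (by decide) (pw_eq (J.Rw _) (by decide +kernel)) (pw_eq (pw (J.Rw _) 4) (by decide +kernel)) J.k6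
    (eq (mul (J.Rw _) (pw (J.Rw _) 4)) (mul (mul (pw (J.Rw _) 4) (J.Rw _)) (J.Rk 6)) (by decide +kernel))
    (com (J.Rw _) (J.Rk 6) (by decide +kernel)) (com (pw (J.Rw _) 4) (J.Rk 6) (by decide +kernel))

/-- a Sylow 3-subgroup -/
noncomputable def R0 : Subgroup G := J.ex_R0.choose

theorem heis_R0 : Heis 3 (J.kw [0, 1]) (J.kw [4, 0] ^ 4) (J.k 6) J.R0 := J.ex_R0.choose_spec

theorem R0_le : J.R0 ≤ J.K0 :=
  J.heis_R0.le (J.kw_K0 (by decide +kernel)) (pow_mem (J.kw_K0 (by decide +kernel)) 4) J.p_K0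

theorem conj_aux {x y c : G} {a b p j i k : ℕ} (ha : J.R x a) (hb : J.R y b) (hp : J.R c p) (e : w3OK a b p = true)
    (hj : j < 3) (hi : i < 3) (hk : k < 3) (h : y ^ j * x ^ i * c ^ k ≠ 1) (h' : IsConj x c) :
    IsConj (y ^ j * x ^ i * c ^ k) c := by
  have := allLt_iff.1 (allLt_iff.1 (allLt_iff.1 e j hj) i hi) k hk
  have r := mul (mul (pw hb j) (pw ha i)) (pw hp k)
  rw [forceB_eq] at this
  rcases bor_eq_true.1 this with e' | e'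
  · obtain ⟨rfl, rfl, rfl⟩ : j = 0 ∧ i = 0 ∧ k = 0 := by have := beq_iff.1 e'; omega
    simp at h
  · cases c : Nat.beq (j + i) 0 <;> rw [c] at e'
    · exact (isConj_iff.2 ⟨_, cj (J.Rw _) r ha e'⟩).trans h'
    · exact isConj_iff.2 ⟨_, cj (J.Rw _) r hp e'⟩

theorem conj_R0 {u : G} (hu : u ∈ J.R0) (h : u ≠ 1) : IsConj u (J.k 6) := by
  obtain ⟨g, C, hR, e⟩ := J.pull a3_chk
  obtain ⟨j, hj, i, hi, k, hk, rfl⟩ := J.heis_R0.mem' (by decide) hu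
  have := w3_chk
  rw [forceB_eq, forceB_eq] at this
  exact J.conj_aux (J.Rw _) (pw (J.Rw _) 4) (J.Rk 6) this hj hi hk h (isConj_iff.2 ⟨_, cj (hR 0) (J.Rw _) (J.Rk 6) e⟩)

theorem conj3 {x : G} (hx : orderOf x = 3) : IsConj x (J.k 6) := by
  have := J.fin
  obtain ⟨g, -, h⟩ := conj_le_of_card (le_top : J.R0 ≤ ⊤) J.heis_R0.card (by rw [card_top, J.card]; norm_num)
    (le_top : zpowers x ≤ ⊤) (IsPGroup.of_card (n := 1) (by rw [Nat.card_zpowers, hx]; rfl))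
  exact (isConj_iff.2 ⟨g, rfl⟩).trans (J.conj_R0 (conj_le_iff.1 h x (mem_zpowers x)) fun e => by
    rw [conj_eq_one_iff] at e; simp [e] at hx)

theorem norm_R0 : normalizer (J.R0 : Set G) ≤ J.K := have := J.fin; J.heis_R0.norm_le.trans J.norm_p

theorem card_norm_R0 : Nat.card (normalizer (J.R0 : Set G)) = 864 := by
  have := J.fin
  have h := J.heis_R0
  have hN := J.norm_R0
  have hH : J.R0 ≤ J.H := J.R0_le.trans inf_le_left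
  have zN : J.z ∈ normalizer (J.R0 : Set G) :=
    centralizer_le_normalizer _ (mem_centralizer_iff.2 fun u hu => J.comm (hH hu))
  have h1 := Loc.card_im (hN.trans J.KH)
  rw [Loc.ker_le J.cp J.k6 hN (le_normalizer h.c_mem) zN, Nat.card_zpowers, Loc.ord_zp J.cp J.k6] at h1
  have h2 := Loc.card_im hH
  have h3 : Nat.card ↥(J.Kr ⊓ J.R0) = 3 := by
    refine Nat.dvd_antisymm ?_ ?_
    · refine (by decide : Nat.gcd 6 (3 ^ 3) = 3) ▸ Nat.dvd_gcd ?_ (h.card ▸ card_dvd_of_le inf_le_right)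
      rw [← Loc.ord_zp J.cp J.k6, ← Nat.card_zpowers, ← J.ker_K0]
      exact card_dvd_of_le (inf_le_inf_left _ J.R0_le)
    · rw [← J.k6, ← Nat.card_zpowers]
      exact card_dvd_of_le (zpowers_le.2 ⟨Loc.mem_Kr.2 ⟨J.cp.memH, Loc.cube J.cp⟩, h.c_mem⟩)
  have h4 : Nat.card (J.im J.R0) = 3 ^ 2 := by rw [h.card, h3] at h2; omega
  have h5 := (IsPGroup.isMulCommutative_of_card_eq_prime_sq h4).is_comm.comm
  have h6 : J.im (normalizer (J.R0 : Set G)) ≤ normalizer (J.im J.R0 : Set M24) := fun x hx => by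
    obtain ⟨g, hg, rfl⟩ := (Loc.mem_im (hN.trans J.KH)).1 hx
    refine mem_normalizer_fintype fun y hy => ?_
    obtain ⟨u, hu, rfl⟩ := (Loc.mem_im hH).1 hy
    exact (Loc.mem_im hH).2 ⟨_, (mem_normalizer_iff.1 hg u).1 hu, Loc.φ_conj (J.KH (hN hg)) (hH hu)⟩
  have h7 := card_dvd_aut h6
  have h8 := card_aut_dvd (n := 2) h5 (fun ⟨x, hx⟩ => by
    obtain ⟨u, hu, rfl⟩ := (Loc.mem_im hH).1 hx
    exact Subtype.ext ((J.φ_pow (hH hu) 3).symm.trans (by rw [h.pow u hu, J.φ_one]; rfl))) h4.le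
  set c := Nat.card ↥(centralizer (J.im J.R0 : Set M24) ⊓ J.im (normalizer (J.R0 : Set G))) with hc
  have h9 : c ∣ 887040 := card_Du ▸ card_dvd_of_le (inf_le_right.trans (Loc.im_le _))
  have h10 : ∀ q, q.Prime → q ∣ c → q = 3 := fun q hq hd => by
    have : Fact q.Prime := ⟨hq⟩
    obtain ⟨⟨g, hg⟩, ho⟩ := exists_prime_orderOf_dvd_card' q hd
    have ho : orderOf g = q := (orderOf_coe _).trans ho
    have k : 3 ^ 2 ∣ Nat.card (centralizer {g}) := (h4 ▸ card_dvd_of_le (show J.im J.R0 ≤ centralizer {g} from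
      fun y hy => mem_centralizer_singleton_iff.2 (mem_centralizer_iff.1 hg.1 y hy)))
    have k' := hd.trans h9
    rcases primes_G hq (k'.trans (by decide)) with rfl | rfl | rfl | rfl | rfl | rfl | rfl | rfl | rfl | rfl
    exacts [absurd (k.trans (cen24 (b := 107520) (by decide +kernel) ho)) (by decide), rfl,
      absurd (k.trans (cen24 (b := 60) (by decide +kernel) ho)) (by decide),
      absurd (k.trans (cen24 (b := 42) (by decide +kernel) ho)) (by decide),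
      absurd (k.trans (cen24 (b := 11) (by decide +kernel) ho)) (by decide),
      absurd k' (by decide), absurd k' (by decide), absurd k' (by decide), absurd k' (by decide), absurd k' (by decide)]
  have h11 : c ∣ 9 := by
    have := le_of_primes (a := 2) Nat.prime_three h10 h9 (by decide) (by decide)
    obtain ⟨b, e⟩ : ∃ b, c = 3 ^ b := ⟨_, Nat.eq_prime_pow_of_unique_prime_dvd (ne_zero_of_dvd_ne_zero (by decide) h9) (h10 _)⟩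
    rw [e] at this ⊢
    exact pow_dvd_pow 3 ((Nat.pow_le_pow_iff_right (by decide)).1 this)
  have h12 : Nat.card (J.im (normalizer (J.R0 : Set G))) ∣ 9 * 48 :=
    h7.trans (mul_dvd_mul h11 (h8.trans (by decide)))
  have ru := J.Rw [3, 2, 0, 1, 3, 4, 0, 7]
  have el : ∀ j i k, J.R ((J.kw [4, 0] ^ 4) ^ j * J.kw [0, 1] ^ i * J.k 6 ^ k) _ := fun j i k =>
    mul (mul (pw (pw (J.Rw [4, 0]) 4) j) (pw (J.Rw [0, 1]) i)) (pw (J.Rk 6) k)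
  have hu : J.kw [3, 2, 0, 1, 3, 4, 0, 7] ∈ normalizer (J.R0 : Set G) := h.norm
    (h.mem.2 ⟨0, 1, 2, cj ru (J.Rw _) (el ..) (by decide +kernel)⟩)
    (h.mem.2 ⟨1, 1, 0, cj ru (pw (J.Rw _) 4) (el ..) (by decide +kernel)⟩)
    (h.mem.2 ⟨0, 0, 2, cj ru (J.Rk 6) (el ..) (by decide +kernel)⟩)
  have h13 : 8 ∣ Nat.card (J.im (normalizer (J.R0 : Set G))) :=
    ((R.orderOf_eq (J.cdw (w := [3, 2, 0, 1, 3, 4, 0, 7]) (by decide)).r (by decide +kernel)).trans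
      (by decide +kernel : _ = 8)) ▸ orderOf_dvd_natCard _ ((Loc.mem_im (hN.trans J.KH)).2 ⟨_, hu, rfl⟩)
  obtain ⟨d, e, e'⟩ := norm_card (m := 3213910038743613440) (le_top : J.R0 ≤ ⊤) h.card (by rw [card_top, J.card]; norm_num) (by decide)
  rw [top_inf_eq] at e
  obtain ⟨t, ht⟩ := h13
  rw [ht] at h12 h1
  have : t ∣ 54 := Nat.dvd_of_mul_dvd_mul_left (by decide : 0 < 8) h12
  have : t ≤ 54 := Nat.le_of_dvd (by decide) this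
  interval_cases t <;> omega

end Mod

end Cfsg.Lib.J4T
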