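import Cfsg.Agent.Lib.J4T.CW

/-! # The classes of involutions -/

set_option autoImplicit false
set_option maxRecDepth 100000

namespace Cfsg.Lib.J4T

open Cfsg.Lib.Calc Cfsg.Lib.F2 Cfsg.Lib.Mathieu Subgroup Cfsg.Lib.Transfer
open Cfsg.Lib.Golay (pc)
open scoped Pointwise

def JT : ℕ := (Nat.add (nat_lit 0x573d54629f00000473d0000000000036290462ba0000000000573ef00000462b5573ea0000000000573e5462bf00000473e00000000000362b03628a0000000000573ff0000036285573fa0000000000573f53628f00000473f00000000000262800000000000000000000000000000000000000000000000000000000000000000000000000000000000000000000000000000000000000000000000000000000000000000000000000000000000000000000000000000000000000000000000000000000000000000000000000000000000000000000000000000000000000000000000000000000000000000000000000000000000000000000000000000000000000000000000000000000000000000000000000000000000000000000000000000000000000000000000000000000000000000000000000000000000000000000000000000000000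00000000000000000000000000000000000000000000000000000000000000000000000000000000000000000000000000000000000000000000000000000000000000000000000000000000000000000000000000000000000000000000000000000000000000000000000000000000000000000000000000000000000000000000000000000000000000000000000000000000000000000000000000000000000000000000000000000000000000000000000000000000000000000000000000000000000000000000000000000000000000000000000000000000000000000000000000000000000000000000000000000000000000000000000000000000000000000000000000000000000000000000000000000000000000000000000000000000000000000000000000000000000000000000000000000000000000000000000000000000000000000000000000000000000000000000000000000000000000000000000000000000000000000000000000000000000000000000000000000000000000000000000000000000000000000000003028f000004729f0000000000342b0000004729a47295000003028500000000003729000000202803615a000003728f0000000000342a0000003728a37285000003615f000000000027280000002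61503617a00000472bf00000000003429000000472ba472b5000003617f0000000000372b000000261702614a00000472af00000000002428000000472aa472a5000002614f0000000000372a0000001614000000000000000000000000000000000000000000000000000000000000000000000000000000000000000000000000000000000000000000000000000000000000000000000000000000000000000000000000000000000000000000000000000000000000000000000000000000000000000000000000000000000000000000000000000000000000000000000000000000000000000000000000000000000000000000000000000000000000000000000000000000000000000000000000000000000000000000000000000000000000000000000000000000000000000000000000000000000000000000000000000000000000000000000000000000000000000000000000000000000000000000000000000000000000000000000000000000000000000000000000000000000000000000000000000000000000000000000000000000000000000000000000000000000000000000000000000000000000000000000000000000000000000000000000000000000000000000000000000000000000000000000000000000000000000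000000000000000000000000000000000000000000000000000000000000000000000000000000000000000000000000000000000000000000000000000000000000000000000000000000000000000000000000000000000000000000000000000000000000000000000000000000000000000000000000000000000000000000000000000000000000000000000000000000000000000000000000000000000000000000000000000000000000000000000000000000000000000000000000000000000000000000000000000000000000000000000000000000000000000000000000000000000000000000251704716f00000000004716a24170000000000000000000003517a5716500000000003716010140351603717f00000000003717a34160000000000000000000004516a4717500000000002717021170251502714f00000000002714a24150000000000000000000003515a3714500000000001714011140151403715f00000000003715a14140000000000000000000002514a471550000000000271500000000000000000000000000000000000000000000000000000000000000000000000000000000000000000000000000000000000000000000000000000000000000000000000000000000000000000000000000000000000000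00000000000000000000000000000000000000000000000000000000000000000000000000000000000000000000000000000000000000000000000000000000000000000000000000000000000000000000000000000000000000000000000000000000000000000000000000000000000000000000000000000000000000000000000000000000000000000000000000000000000000000000000000000000000000000000000000000000000000000000000000000000000000000000000000000000000000000000000000000000000000000000000000000000000000000000000000000000000000000000000000000000000000000000000000000000000000000000000000000000000000000000000000000000000000000000000000000000000000000000000000000000000000000000000000000000000000000000000000000000000000000000000000000000000000000000000000000000000000000000000000000000000000000000000000000000000000000000000000000000000000000000000000000000000000000000000000000000000000000000000000000000000000000000000000000000000000000000000000000000000000000000000000000000000000000000000000000000000000000000000000000000000000000000000000000000000000000000000000000000000000000000000000000000000000000000000000000000000000000000000000000000000000000000000000000000000000000000000000000000000000000000000000000000000000000000000000000000000000000000000000000000000000000000000000000000000000000000000000000000000000000000000000000000000000000000000000000000000000000000000000000000000000000000000000000000000000000000000000000000000000000000000000000000000000000000000000000000)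 (Nat.shiftLeft (nat_lit 0x462aa0000000000473cf00000462a5473ca0000000000473c5462af00000373c00000000000362a04629a0000000000573df0000046295573da00000) (nat_lit 20000)))

noncomputable def jU (g : ℕ) : ℕ := F2.nth 0 [64, 128, 256, 512, 1024, 2048] g
noncomputable def jX (g : ℕ) : ℕ := F2.nth cI [cI, cI, cI, cI, cI, cI, cP, AC 11] g
noncomputable def jR (v : ℕ) : ℕ :=
  cnd (band (blt 63 v) (band (Nat.beq (app 12 (mc (AC 1)) v) v) (Nat.beq (qq v) 0))) 320 v
theorem jt_tree : treeOK 4096 8 20 JT (fun g v => Nat.xor (Nat.xor (jU g) (app 12 (mc (jX g)) v))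
    (app 12 (mc (AC 1)) (jU g))) jR = true := by decide +kernel
theorem de_64 : allBig 2048 (fun c => bor (Nat.beq (c / 64 % 16) 0) (!Nat.beq (de 64 c) c)) = true := by decide +kernel

namespace Loc

variable {G : Type*} [Group G] (L : Loc G)

theorem conj_J {v : ℕ} (hv : v < 4096) : ∃ h ∈ L.H, ∃ b, h * (L.e (jR v) * L.a1) * h⁻¹ = L.e v * (L.a1 * L.z ^ b) := by
  refine tree jt_tree (rel := fun r c => ∃ h ∈ L.H, ∃ b, h * (L.e r * L.a1) * h⁻¹ = L.e c * (L.a1 * L.z ^ b))
    (fun _ _ => ⟨1, one_mem _, 0, by simp⟩) (fun r c g hc hg ⟨h, hh, b, e⟩ => ?_) v hv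
  have h1 : jU g < 4096 ∧ mu (jX g) (AC 1) = mu (AC 1) (jX g) :=
    (by decide +kernel : ∀ g < 8, jU g < 4096 ∧ mu (jX g) (AC 1) = mu (AC 1) (jX g)) g hg
  obtain ⟨k, hk⟩ : L.Gd (jX g) := by
    interval_cases g
    exacts [L.gd_one, L.gd_one, L.gd_one, L.gd_one, L.gd_one, L.gd_one, L.gd_P, L.gd_AC (c := 11) (by norm_num)]
  obtain ⟨m, hm⟩ := ek_mul h1.1 hc hk (L.cd_a1.mul_zp b).memH
  obtain ⟨n, hn⟩ := ek_mul (xor_lt (xor_lt h1.1 (app12_lt (mc (jX g)) c)) (app12_lt (mc (AC 1)) (jU g))) h1.1 L.cd_a1 hk.memH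
  obtain ⟨l, -, hl⟩ := ((L.cd_a1.mul hk).mul_zp n).eq (h1.2 ▸ (hk.mul (L.cd_a1.mul_zp b)).mul_zp m)
  refine ⟨L.e (jU g) * k * h, mul_mem (mul_mem (L.eH _) hk.memH) hh, l, ?_⟩
  rw [Nat.xor_xor_cancel_right] at hn
  calc _ = L.e (jU g) * k * (h * (L.e r * L.a1) * h⁻¹) * (L.e (jU g) * k)⁻¹ := by group
    _ = _ := by
      rw [e, hm, hl, ← mul_assoc (L.e _), ← hn, mul_assoc _ _ (L.z ^ l), L.comm_pow (mul_mem (L.eH _) hk.memH), ← mul_assoc,
        mul_inv_cancel_right, mul_assoc]; rfl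

theorem conj_Jz {v : ℕ} (hv : v < 4096) (h : 64 ≤ v) (b : ℕ) :
    ∃ h ∈ L.H, h * (L.e v * L.a1) * h⁻¹ = L.e v * (L.a1 * L.z ^ b) := by
  rcases L.zp_cases b with e | e
  · exact ⟨1, one_mem _, by simp [e]⟩
  obtain ⟨i, -, h3⟩ := anyLt_iff.1 ((bor_eq_true.1 (allBig_iff.1 fix_A1 v hv)).resolve_left fun e => by
    have := blt_iff.1 e; omega)
  simp only [forceB_eq, band_eq_true, blt_iff, beq_iff] at h3
  generalize F2.nth _ _ i = u at h3
  have h4 := L.cd_a1.act h3.1.1
  rw [h3.1.2, og_AC (by norm_num), zero_mul, pow_zero, mul_one, mul_inv_eq_iff_eq_mul] at h4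
  exact ⟨_, L.eH u, by
    rw [e, ← conj_mul, L.e_conj h3.1.1 hv, h3.2, ← h4, mul_inv_cancel_right, pow_one, mul_assoc, L.comm L.cd_a1.memH]⟩

/-- the inner involutions outside `E` -/
theorem conj_inner {j : G} (hj : j ∈ L.H) (h2 : j * j = 1) (h : L.φ j ∈ m22) (h1 : L.φ j ≠ 1) :
    (∃ k ∈ L.H, k * j * k⁻¹ ∈ L.V ∧ R (L.φ (k * j * k⁻¹)) (pc' (AC 1))) ∨ ∃ k ∈ L.H, k * j * k⁻¹ = L.e 320 * L.a1 := by
  obtain ⟨k, hk, v, hv, b, e⟩ := L.inner_conj hj h2 h h1
  rcases lt_or_ge v 64 with h3 | h3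
  · exact Or.inl ⟨k, hk, e ▸ mul_mem (L.e_mem_V h3) (mul_mem L.ia_a1.mem_V (pow_mem L.z_mem_V b)), by
      rw [e, L.φ_ek _ (L.cd_a1.mul_zp b).memH]; exact (L.cd_a1.mul_zp b).r⟩
  obtain ⟨h, hh, c, h4⟩ := L.conj_J hv
  obtain ⟨x, hx, h5⟩ := L.conj_Jz hv h3 b
  obtain ⟨y, hy, h6⟩ := L.conj_Jz hv h3 c
  have h7 : jR v = 320 := by
    have a : L.e v * (L.a1 * L.z ^ b) * (L.e v * (L.a1 * L.z ^ b)) = 1 := by rw [← e, conj_mul, h2]; simp
    have a1 := (L.cd_a1.mul_zp b).act hv
    rw [og_AC (by norm_num), zero_mul, pow_zero, mul_one, mul_inv_eq_iff_eq_mul] at a1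
    rw [← mul_assoc, mul_assoc (L.e v), a1, mul_assoc, mul_assoc, (L.ia_a1.mul (L.ia_z.pow b)).sq, mul_one,
      L.e_mul _ hv _ (app12_lt _ _), ← L.e_zero, ← mul_one (L.e 0), ← pow_zero L.z] at a
    have a2 := L.e_inj (xor_lt hv (app12_lt _ _)) (by norm_num) a
    rw [Nat.xor_eq_zero_iff] at a2
    rw [jR, blt_iff.2 (show 63 < v from h3), beq_iff.2 a2.1.symm,
      beq_iff.2 (L.zp_inj (qq_lt v) (by norm_num) (by simpa [← a2.1, qq] using a2.2))]; rfl
  refine Or.inr ⟨h⁻¹ * y * x⁻¹ * k, mul_mem (mul_mem (mul_mem (inv_mem hh) hy) (inv_mem hx)) hk, ?_⟩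
  calc _ = h⁻¹ * (y * (x⁻¹ * (k * j * k⁻¹) * x) * y⁻¹) * h := by group
    _ = h⁻¹ * (y * (L.e v * L.a1) * y⁻¹) * h := by rw [e, ← h5]; group
    _ = _ := by rw [h6, ← h4, h7]; group

theorem conj_E {j : G} (hj : j ∈ L.E) (h2 : j * j = 1) : ∃ k ∈ L.H, k * j * k⁻¹ ∈ L.V := by
  obtain ⟨v, hv, b, -, rfl⟩ := L.mem_E.1 hj
  rw [mul_assoc, ← mul_assoc (L.z ^ b), ← L.comm_pow (L.eH v), mul_assoc, L.zp_sq, mul_one, L.e_sq hv] at h2
  obtain ⟨k, X, hX, e⟩ := L.exists_rt hv
  have h1 : rt v < 64 := by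
    rw [rt, forceN_eq]
    cases h : Nat.beq (dl v) 0
    · cases Nat.beq (pc (dl v)) 2 <;> simp
    · have := (dl_ne_zero hv).not.1 (not_not.2 (beq_iff.1 h))
      rw [L.zp_inj (qq_lt v) (by norm_num) (h2.trans (pow_zero _).symm)] at this
      simp at this; simp [this]
  have := hX.act (v := rt v) (by omega)
  rw [e, qq, ff_lt64 h1 h1, mul_zero, pow_zero, mul_one] at this
  refine ⟨k⁻¹, inv_mem hX.memH, ?_⟩
  rw [← conj_mul, L.conj_z (inv_mem hX.memH), ← this]
  exact mul_mem (by simpa [mul_assoc] using L.e_mem_V h1) (pow_mem L.z_mem_V b)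

end Loc

namespace Glob

variable {G : Type*} [Group G] (Γ : Glob G)

theorem E_le_M : Γ.E ≤ Γ.M := fun g hg => Γ.HM g (Γ.E_le hg) (Γ.φ_E hg ▸ one_mem _)

theorem r_ρ {g : G} (hg : g ∈ Γ.M) {c : ℕ} (hc : okM c = true)
    (h : ∀ i < 23, g * Γ.vv (ll i) * g⁻¹ = Γ.vv (ll (Calc.get 5 c i) ^^^ ll (Calc.get 5 c 23))) : R (Γ.ρ g) c := by
  obtain ⟨d, hd⟩ := exists_R (Γ.ρ g)
  have h1 := mk_rep hc
  have inj : ∀ i < 24, ∀ j < 24, Calc.get 5 c i = Calc.get 5 c j → i = j := fun i hi j hj e =>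
    inj_pt _ hi _ hj ((Mathieu.mk c : P24).injective (by rw [Rp.apply h1 hi, Rp.apply h1 hj, e]))
  have key : ∀ i < 23, Calc.get 5 c i = Calc.get 5 d i ∧ Calc.get 5 c 23 = Calc.get 5 d 23 ∨
      Calc.get 5 c i = Calc.get 5 d 23 ∧ Calc.get 5 c 23 = Calc.get 5 d i := fun i hi => by
    have := Γ.conj_duad hg hd (i := i) (j := 23) (by omega) (by norm_num)
    rw [show ll 23 = 0 by decide, Nat.xor_zero, h i hi] at this
    exact ll_xor_eq (h1.lt (by omega)) (h1.lt (by norm_num)) (hd.lt (by omega)) (hd.lt (by norm_num))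
      (fun e => absurd (inj i (by omega) 23 (by norm_num) e) (by omega))
      (Γ.vv_inj (Nat.xor_lt_two_pow (n := 11) (ll_lt _) (ll_lt _)) (Nat.xor_lt_two_pow (n := 11) (ll_lt _) (ll_lt _)) this)
  have h2 : Calc.get 5 c 23 = Calc.get 5 d 23 := by
    rcases key 0 (by norm_num) with a | a
    · exact a.2
    rcases key 1 (by norm_num) with b | b
    exacts [b.2, absurd (inj 0 (by norm_num) 1 (by norm_num) (a.1.trans b.1.symm)) (by norm_num)]
  refine eq_of_get_eq hd.1 h1.1 (fun i hi => ?_) ▸ hd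
  by_cases e : i = 23
  · exact e ▸ h2.symm
  exact ((key i (by omega)).resolve_right fun a => e (inj i hi 23 (by norm_num) (a.1.trans h2.symm))).1.symm

theorem r_ρ_e {w c : ℕ} (h : band (band (blt w 4096) (okM c)) (allLt 23 fun i =>
    Nat.beq (de w (ll i)) (Nat.xor (ll (Calc.get 5 c i)) (ll (Calc.get 5 c 23)))) = true) : R (Γ.ρ (Γ.e w)) c := by
  simp only [band_eq_true, blt_iff, allLt_iff, beq_iff] at h
  exact Γ.r_ρ (Γ.E_le_M (Γ.e_mem_E h.1.1)) h.1.2 fun i hi => by rw [Γ.conj_de h.1.1 (ll_lt i), h.2 i hi]; rfl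

theorem exists_vv {g h : G} (hg : g ∈ Γ.M) (hh : h ∈ Γ.M) (e : Γ.ρ g = Γ.ρ h) : ∃ c < 2048, g = h * Γ.vv c := by
  obtain ⟨c, hc, e'⟩ := Γ.mem_V.1 (Γ.kerρ _ (mul_mem (inv_mem hh) hg) (by
    rw [Γ.ρ_mul _ (inv_mem hh) _ hg, Γ.ρ_inv hh, e, inv_mul_cancel]))
  exact ⟨c, hc, by rw [← e', mul_inv_cancel_left]⟩

theorem ρ_conj {g h : G} (hg : g ∈ Γ.M) (hh : h ∈ Γ.M) : Γ.ρ (g * h * g⁻¹) = Γ.ρ g * Γ.ρ h * (Γ.ρ g)⁻¹ := by
  rw [Γ.ρ_mul _ (mul_mem hg hh) _ (inv_mem hg), Γ.ρ_mul _ hg _ hh, Γ.ρ_inv hg]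

/-- conjugate into `V` under `⟨H, M⟩` -/
def CV (j : G) : Prop := ∃ b ∈ Γ.H ⊔ Γ.M, b * j * b⁻¹ ∈ Γ.V

variable {Γ}

theorem CV.of_conj {j g : G} (hg : g ∈ Γ.H ⊔ Γ.M) (h : Γ.CV (g * j * g⁻¹)) : Γ.CV j :=
  let ⟨b, hb, e⟩ := h; ⟨b * g, mul_mem hb hg, by simpa [mul_assoc] using e⟩
theorem CV.of_H {j : G} (h : ∃ k ∈ Γ.H, k * j * k⁻¹ ∈ Γ.V) : Γ.CV j := let ⟨b, hb, e⟩ := h; ⟨b, mem_sup_left hb, e⟩

variable (Γ)

theorem vv_E {c : ℕ} (hc : c < 2048) (h : c / 64 % 16 = 0) : Γ.vv c ∈ Γ.E := by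
  have h5 := Γ.r_vv hc
  rw [h, AC_zero, pc'_cI] at h5
  rw [Γ.vv_of_φ hc (h5.eq R.one)]
  exact mul_mem (Γ.e_mem_E (by omega)) (pow_mem Γ.z_mem_E _)

theorem coset_320 {c : ℕ} (hc : c < 2048) (h2 : Γ.e 320 * Γ.vv c * (Γ.e 320 * Γ.vv c) = 1) (h : c / 64 % 16 ≠ 0) :
    ∃ k ∈ Γ.H, k * (Γ.e 320 * Γ.vv c) * k⁻¹ = Γ.e 320 * Γ.a1 := by
  have hm : c / 64 % 16 < 16 := Nat.mod_lt _ (by norm_num)
  have h1 := Γ.r_vv hc
  rw [← Γ.φ_ek 320 (Γ.vv_H c)] at h1
  have h3 := mul_mem (Γ.eH 320) (Γ.vv_H c)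
  refine (Γ.conj_inner h3 h2 ((og_eq_zero h1 (Γ.φ_du h3)).1 (og_AC hm))
    fun e => h (eq_zero_of_AC hm (h1.eq_one_iff.1 e))).resolve_left fun ⟨k, hk, a, b⟩ => ?_
  have h4 : ∀ a < 16, a ≠ 0 → fixM (pc' (AC a)) = O0 := by decide +kernel
  have := fixP_conj (Γ.φ k) (Γ.φ (Γ.e 320 * Γ.vv c))
  rw [← Subgroup.coe_inv, ← Subgroup.coe_mul, ← Subgroup.coe_mul, ← Γ.φ_inv hk, ← Γ.φ_mul _ hk _ h3,
    ← Γ.φ_mul _ (mul_mem hk h3) _ (inv_mem hk), Rp.fixP_eq b, Rp.fixP_eq h1, h4 _ hm h, h4 1 (by norm_num) one_ne_zero] at this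
  have h5 := (mul_mem_cancel_right (Γ.vv_mem hc)).1 ((mem_normalizer_iff.1 ((Γ.mem_norm_V hk).2 this.symm) _).2 a)
  obtain ⟨d, hd, e⟩ := Γ.mem_V.1 h5
  rw [Γ.vv_of_φ hd (e ▸ Γ.φ_e _)] at e
  have := (Γ.e_inj (a := 0) (v := 320) (by norm_num) (show d % 64 < 4096 by omega) (by simpa using e)).1
  omega

theorem cv_J : Γ.CV (Γ.e 320 * Γ.a1) := by
  have h1 := Γ.r_ρ_e (w := 320) (c := 295516751196581705123302102757221006) (by decide +kernel)
  have h2 : R (Mathieu.mk 361722006085371343253676599833379008) _ := mk_rep (by decide +kernel)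
  obtain ⟨g, hg, e⟩ := Γ.surj (Mathieu.mk 361722006085371343253676599833379008)
  have hm := Γ.E_le_M (Γ.e_mem_E (v := 320) (by norm_num))
  obtain ⟨c, hc, h3⟩ := Γ.exists_vv (mul_mem (mul_mem hg hm) (inv_mem hg)) hm (by
    rw [Γ.ρ_conj hg hm, e, mul_inv_eq_iff_eq_mul, (h2.mulT h1).eq_iff (h1.mulT h2)]; decide +kernel)
  have key : ∀ x ∈ Γ.E, x * x = 1 → ∀ c < 2048, c / 64 % 16 ≠ 0 → g * x * g⁻¹ = Γ.e 320 * Γ.vv c →
      Γ.CV (Γ.e 320 * Γ.a1) := fun x hx h4 c hc h5 h6 => by
    obtain ⟨k, hk, h7⟩ := Γ.coset_320 hc (by rw [← h6, conj_mul, h4]; simp) h5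
    refine .of_conj (mem_sup_left (inv_mem hk)) (.of_conj (mem_sup_right (inv_mem hg)) ?_)
    simpa [← h7, ← h6, mul_assoc] using CV.of_H (Γ.conj_E hx h4)
  have s1 : Γ.e 320 * Γ.e 320 = 1 := by rw [Γ.e_sq (by norm_num), show qq 320 = 0 by decide +kernel, pow_zero]
  by_cases h : c / 64 % 16 = 0
  swap
  · exact key _ (Γ.e_mem_E (by norm_num)) s1 c hc h h3
  refine key (Γ.e 320 * Γ.e 1) (mul_mem (Γ.e_mem_E (by norm_num)) (Γ.e_mem_E (by norm_num))) ?_ (c ^^^ 84)
    (Nat.xor_lt_two_pow (n := 11) hc (by norm_num)) ?_ ?_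
  · rw [Γ.e_mul _ (by norm_num) _ (by norm_num), mul_assoc, ← mul_assoc (Γ.z ^ _), ← Γ.comm_pow (Γ.eH _), mul_assoc,
      Γ.zp_sq, mul_one, Γ.e_sq (by decide), show qq (320 ^^^ 1) = 0 by decide +kernel, pow_zero]
  · rw [show (c ^^^ 84) / 64 = c / 64 ^^^ 84 / 64 from Nat.xor_div_two_pow (n := 6),
      show (c / 64 ^^^ 84 / 64) % 16 = _ from Nat.xor_mod_two_pow (n := 4), h]; decide
  · have := Γ.conj g hg _ (e ▸ h2) 12582977 (by norm_num) (by decide +kernel)
    rw [Loc.cm, Loc.cm, show lin 12582977 = 1 by decide +kernel, show lin (img _ _) = 84 by decide +kernel,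
      Γ.vv_u (by norm_num)] at this
    rw [← conj_mul, h3, this, Γ.vv_xor, mul_assoc]

theorem cv_M {j : G} (hj : j ∈ Γ.M) (h2 : j * j = 1) : Γ.CV j := by
  by_cases h0 : Γ.ρ j = 1
  · exact ⟨1, one_mem _, by simpa using Γ.kerρ j hj h0⟩
  have ho : ∀ {x : M24}, x * x = 1 → x ≠ 1 → orderOf (x : P24) = 2 := fun h h' => by
    rw [Subgroup.orderOf_coe]; exact orderOf_eq_prime (by rw [sq, h]) h'
  have h1 := ho (by rw [← Γ.ρ_mul _ hj _ hj, h2, Γ.ρ_one]) h0
  have key : ∀ {w r : ℕ}, w < 4096 → (∃ k : M24, (k : P24) * Mathieu.mk r * (k : P24)⁻¹ = Γ.ρ j) →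
      (∃ k : M24, (k : P24) * Mathieu.mk r * (k : P24)⁻¹ = Γ.ρ (Γ.e w)) → (∀ c < 2048, Γ.e w * Γ.vv c * (Γ.e w * Γ.vv c) = 1 →
        Γ.CV (Γ.e w * Γ.vv c)) → Γ.CV j := fun {w r} hw ⟨k, a⟩ ⟨k', a'⟩ h => by
    obtain ⟨g, hg, e⟩ := Γ.surj (k' * k⁻¹)
    obtain ⟨c, hc, h3⟩ := Γ.exists_vv (mul_mem (mul_mem hg hj) (inv_mem hg)) (Γ.E_le_M (Γ.e_mem_E hw)) (by
      rw [Γ.ρ_conj hg hj, e]; ext1; simp [← a, ← a', mul_assoc])
    exact .of_conj (mem_sup_right hg) (h3 ▸ h c hc (by rw [← h3, conj_mul, h2]; simp))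
  have h3 := card_fixP_mem (a := 2) (l := [8, 0]) (by decide +kernel) (Γ.ρ j).2 h1
  simp only [List.mem_cons, List.not_mem_nil, or_false] at h3
  rcases h3 with h3 | h3
  · have a := Γ.r_ρ_e (w := 320) (c := 295516751196581705123302102757221006) (by decide +kernel)
    refine key (w := 320) (by norm_num) (conj_2A (Γ.ρ j).2 h1 h3).2 (conj_2A (Γ.ρ _).2 (ho ((a.mulT a).eq_one_iff.2
      (by decide +kernel)) fun e => absurd (a.eq_one_iff.1 e) (by decide +kernel)) (by
        rw [Rp.card_fixP a]; decide +kernel)).2 fun c hc h => ?_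
    by_cases h4 : c / 64 % 16 = 0
    · exact .of_H (Γ.conj_E (mul_mem (Γ.e_mem_E (by norm_num)) (Γ.vv_E hc h4)) h)
    · obtain ⟨k, hk, e⟩ := Γ.coset_320 hc h h4
      exact .of_conj (mem_sup_left hk) (e ▸ Γ.cv_J)
  · have a := Γ.r_ρ_e (w := 64) (c := 295436964261413326378427300908323086) (by decide +kernel)
    refine key (w := 64) (by norm_num) (conj_2B (Γ.ρ j).2 h1 h3).2 (conj_2B (Γ.ρ _).2 (ho ((a.mulT a).eq_one_iff.2
      (by decide +kernel)) fun e => absurd (a.eq_one_iff.1 e) (by decide +kernel)) (by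
        rw [Rp.card_fixP a]; decide +kernel)).2 fun c hc h => ?_
    refine .of_H (Γ.conj_E (mul_mem (Γ.e_mem_E (by norm_num)) (Γ.vv_E hc ?_)) h)
    refine beq_iff.1 ((bor_eq_true.1 (allBig_iff.1 de_64 c hc)).resolve_right fun e => ne_of_not_beq e ?_)
    refine Γ.vv_inj (de_lt (by norm_num) hc) hc ?_
    rw [← Γ.conj_de (by norm_num) hc, Γ.e_inv (by norm_num), show qq 64 = 0 by decide +kernel, pow_zero, mul_one,
      ← Γ.vv_inv c, eq_inv_iff_mul_eq_one, Γ.vv_inv, mul_assoc, h]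

theorem conj_duad_w {i j : ℕ} (hi : i < 24) (hj : j < i) : ∃ g ∈ Γ.M, g * Γ.vv (ll i ^^^ ll j) * g⁻¹ = Γ.vv 555 := by
  obtain ⟨x, a, b⟩ := exists_map2 (a := Golay.G.pt i) (b := Golay.G.pt j) (a' := Golay.G.pt 1) (b' := Golay.G.pt 0)
    (by simpa using fun e => hj.ne' (inj_pt _ hi _ (by omega) e)) (by decide)
  obtain ⟨g, hg, rfl⟩ := Γ.surj x
  obtain ⟨c, hc⟩ := exists_R (Γ.ρ g)
  rw [Rp.apply hc hi] at a
  rw [Rp.apply hc (by omega)] at b
  exact ⟨g, hg, by
    rw [Γ.conj_duad hg hc hi (by omega), inj_pt _ (hc.lt hi) _ (by norm_num) a, inj_pt _ (hc.lt (by omega)) _ (by norm_num) b]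
    rfl⟩

variable [Finite G] [IsSimpleGroup G] (hH : Γ.H = centralizer {Γ.z}) (hM : Γ.M = normalizer (Γ.V : Set G))
include hH hM

theorem conj_M {j : G} (hj : j ∈ Γ.M) (h2 : j * j = 1) (h1 : j ≠ 1) :
    ∃ b ∈ Γ.H ⊔ Γ.M, b * j * b⁻¹ = Γ.z ∨ b * j * b⁻¹ = Γ.vv 555 := by
  obtain ⟨b, hb, h⟩ := Γ.cv_M hj h2
  by_cases h3 : IsConj Γ.z (b * j * b⁻¹)
  · obtain ⟨n, hn, e⟩ := Γ.ctrl hH h h3
    exact ⟨n⁻¹ * b, mul_mem (mem_sup_right (inv_mem (hM.ge hn))) hb, Or.inl (by
      rw [show n⁻¹ * b * j * (n⁻¹ * b)⁻¹ = n⁻¹ * (b * j * b⁻¹) * n by group, ← e]; group)⟩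
  obtain ⟨i, hi, k, hk, e⟩ := (Γ.duad_iff hH h).1 ⟨by simpa using h1, h3⟩
  obtain ⟨g, hg, e'⟩ := Γ.conj_duad_w hi hk
  exact ⟨g * b, mul_mem (mem_sup_right hg) hb, Or.inr (by rw [← e', ← e]; group)⟩

theorem conj_H {j : G} (hj : j ∈ Γ.H) (h2 : j * j = 1) (h1 : j ≠ 1) :
    ∃ b ∈ Γ.H ⊔ Γ.M, b * j * b⁻¹ = Γ.z ∨ b * j * b⁻¹ = Γ.vv 555 := by
  obtain ⟨h, hh, a⟩ := Γ.exists_conj_T (Q := zpowers j)
    (.of_card (n := 1) (by rw [Nat.card_zpowers, orderOf_eq_prime (by rw [sq, h2]) h1, pow_one])) (zpowers_le.2 hj)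
  obtain ⟨b, hb, e⟩ := Γ.conj_M hH hM (hM.ge (Γ.T_le_norm (conj_le_iff.1 a _ (Subgroup.mem_zpowers j))))
    (by rw [conj_mul, h2]; simp) (by simpa using h1)
  exact ⟨b * h, mul_mem hb (mem_sup_left hh), by simpa [mul_assoc] using e⟩

theorem sup_top : Γ.H ⊔ Γ.M = ⊤ := by
  have hw := Γ.not_conj_w hH
  have key : ∀ g, g * Γ.vv 555 * g⁻¹ ∈ Γ.H ⊔ Γ.M := fun g => by
    have t2 : g * Γ.vv 555 * g⁻¹ * (g * Γ.vv 555 * g⁻¹) = 1 := by rw [conj_mul, Γ.vv_sq]; simp
    have ht : ¬IsConj Γ.z (g * Γ.vv 555 * g⁻¹) := fun h => hw.2 (h.trans (isConj_iff.2 ⟨g, rfl⟩).symm)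
    generalize g * Γ.vv 555 * g⁻¹ = t at *
    have h1 : Γ.z * (Γ.z * t) * Γ.z⁻¹ = (Γ.z * t)⁻¹ := by
      rw [← mul_assoc, Γ.zz, one_mul, mul_inv_rev, inv_eq_of_mul_eq_one_right t2]
    obtain ⟨i, e | e⟩ := Nat.even_or_odd' (orderOf (Γ.z * t))
    swap
    · refine absurd (isConj_iff.2 ⟨(Γ.z * t) ^ i, ?_⟩) ht
      have h2 := pow_orderOf_eq_one (Γ.z * t)
      rw [e, two_mul, add_assoc, pow_add, pow_succ, ← mul_assoc, ← mul_assoc, mul_eq_one_iff_eq_inv,
        inv_eq_of_mul_eq_one_right t2] at h2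
      rw [← inv_pow, ← h1, conj_pow]
      refine Eq.trans ?_ h2
      rw [Γ.z_inv, ← mul_assoc, ← mul_assoc, mul_assoc _ Γ.z Γ.z, Γ.zz, mul_one]
    have h2 : (Γ.z * t) ^ i * (Γ.z * t) ^ i = 1 := by rw [← pow_add, ← two_mul, ← e, pow_orderOf_eq_one]
    have h3 : (Γ.z * t) ^ i * Γ.z = Γ.z * (Γ.z * t) ^ i := by
      rw [eq_comm, ← mul_inv_eq_iff_eq_mul, ← conj_pow, h1, inv_pow, inv_eq_of_mul_eq_one_right h2]
    obtain ⟨b, hb, h4⟩ := Γ.conj_H hH hM (hH.ge (mem_centralizer_singleton_iff.2 h3)) h2 fun h => by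
      have := orderOf_pos (Γ.z * t)
      exact absurd (Nat.le_of_dvd (by omega) (orderOf_dvd_of_pow_eq_one h)) (by omega)
    have h5 : Commute t ((Γ.z * t) ^ i) := by
      simpa [Γ.zz, ← mul_assoc] using (Commute.symm h3).mul_left ((Commute.refl (Γ.z * t)).pow_right i)
    have h6 := h5.conj b
    have : b * t * b⁻¹ ∈ Γ.H ⊔ Γ.M := by
      rcases h4 with h4 | h4 <;> rw [h4] at h6
      exacts [mem_sup_left (hH.ge (mem_centralizer_singleton_iff.2 h6)),
        mem_sup_right (Γ.cen_w hH hM (mem_centralizer_singleton_iff.2 h6))]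
    simpa [mul_assoc] using mul_mem (mul_mem (inv_mem hb) this) hb
  rcases (normalClosure_normal (s := {Γ.vv 555})).eq_bot_or_eq_top with h | h
  · exact absurd (mem_bot.1 (h ▸ subset_normalClosure rfl)) hw.1
  refine top_unique (h.ge.trans ((closure_le _).2 fun x hx => ?_))
  obtain ⟨_, rfl, hx⟩ := Group.mem_conjugatesOfSet_iff.1 hx
  obtain ⟨g, rfl⟩ := isConj_iff.1 hx
  exact key g

end Glob

end Cfsg.Lib.J4T
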